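import Cfsg.Agent.Lib.Coprime.Generation
import Cfsg.Agent.Lib.Invol.Basic

/-!
Involutions and four-groups acting on subgroups of odd order.
-/

set_option autoImplicit false
set_option linter.style.haveILetI false

namespace CfsgLib.SylJanko

open Subgroup

universe u

variable {G : Type u} [Group G]

theorem odd_order_of_mem [Finite G] {X : Subgroup G} (hX : Odd (Nat.card X)) {x : G} (hx : x ∈ X) :
    Odd (orderOf x) := hX.of_dvd_nat (X.orderOf_dvd_natCard hx)

theorem mem_of_sq_of_odd {M : Subgroup G} {x : G} (hx : Odd (orderOf x)) (h : x * x ∈ M) :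
    x ∈ M := by
  obtain ⟨j, hj⟩ := hx
  have e : (x * x) ^ (j + 1) = x := by
    rw [← pow_two, ← pow_mul, show 2 * (j + 1) = orderOf x + 1 by omega, pow_succ,
      pow_orderOf_eq_one, one_mul]
  exact e ▸ pow_mem h (j + 1)

/-- A square root that is a power. -/
theorem exists_root {w : G} (hw : Odd (orderOf w)) : ∃ m ∈ zpowers w, m * m = w := by
  obtain ⟨j, hj⟩ := hw
  refine ⟨w ^ (j + 1), pow_mem (mem_zpowers w) _, ?_⟩
  rw [← pow_add, show j + 1 + (j + 1) = orderOf w + 1 by omega, pow_succ, pow_orderOf_eq_one,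
    one_mul]

theorem sq_left_cancel {a b : G} (ha : Odd (orderOf a)) (hb : Odd (orderOf b))
    (h : a * a = b * b) : a = b := by
  obtain ⟨i, hi⟩ := ha
  obtain ⟨j, hj⟩ := hb
  set n := (2 * i + 1) * (2 * j + 1) with hn
  have ha1 : a ^ n = 1 := by rw [hn, pow_mul, ← hi, pow_orderOf_eq_one, one_pow]
  have hb1 : b ^ n = 1 := by rw [hn, mul_comm, pow_mul, ← hj, pow_orderOf_eq_one, one_pow]
  have hn' : n + 1 = 2 * (2 * i * j + i + j + 1) := by rw [hn]; ring
  calc a = a ^ (n + 1) := by rw [pow_succ, ha1, one_mul]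
    _ = (a * a) ^ (2 * i * j + i + j + 1) := by rw [hn', pow_mul, pow_two]
    _ = (b * b) ^ (2 * i * j + i + j + 1) := by rw [h]
    _ = b ^ (n + 1) := by rw [hn', pow_mul, pow_two]
    _ = b := by rw [pow_succ, hb1, one_mul]

/-- `c (k c⁻¹ k)` is inverted by the involution `k`. -/
theorem twist_inverted {k : G} (hk : k * k = 1) (c : G) :
    k * (c * (k * c⁻¹ * k)) * k = (c * (k * c⁻¹ * k))⁻¹ := by
  have e : k⁻¹ = k := inv_eq_of_mul_eq_one_right hk
  calc k * (c * (k * c⁻¹ * k)) * k = k * c * k * c⁻¹ * (k * k) := by group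
    _ = k * c * k * c⁻¹ := by rw [hk, mul_one]
    _ = (c * (k * c⁻¹ * k))⁻¹ := by
      simp only [mul_inv_rev, inv_inv, e, mul_assoc]

theorem conj_mem_of_normalizer {X : Subgroup G} {g x : G} (hg : g ∈ normalizer (X : Set G))
    (hx : x ∈ X) : g * x * g⁻¹ ∈ X := (mem_normalizer_iff.1 hg x).1 hx

theorem invol_conj_mem {X : Subgroup G} {k x : G} (hk : k * k = 1)
    (hn : k ∈ normalizer (X : Set G)) (hx : x ∈ X) : k * x * k ∈ X := by
  have := conj_mem_of_normalizer hn hx
  rwa [inv_eq_of_mul_eq_one_right hk] at this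

/-- A fixed coset of an invariant subgroup of odd order contains a fixed element. -/
theorem exists_fixed_coset [Finite G] {M : Subgroup G} (hM : Odd (Nat.card M)) {k x : G}
    (hk : k * k = 1) (hx : x⁻¹ * (k * x * k) ∈ M) :
    ∃ m ∈ M, k * (x * m) = x * m * k := by
  set w := x⁻¹ * (k * x * k) with hw
  have e : k⁻¹ = k := inv_eq_of_mul_eq_one_right hk
  have hwk : k * w * k⁻¹ = w⁻¹ := by
    rw [hw, e]
    calc k * (x⁻¹ * (k * x * k)) * k = k * x⁻¹ * k * x * (k * k) := by group
      _ = k * x⁻¹ * k * x := by rw [hk, mul_one]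
      _ = (x⁻¹ * (k * x * k))⁻¹ := by simp only [mul_inv_rev, inv_inv, e, mul_assoc]
  obtain ⟨m, hm, hmm⟩ := exists_root (odd_order_of_mem hM hx)
  obtain ⟨i, hi⟩ := mem_zpowers_iff.1 hm
  have hmk : k * m * k⁻¹ = m⁻¹ := by rw [← hi, ← conj_zpow, hwk, inv_zpow]
  refine ⟨m, zpowers_le.2 hx hm, ?_⟩
  have h1 : k * x = x * w * k := by
    rw [hw, show x * (x⁻¹ * (k * x * k)) * k = k * x * (k * k) by group, hk, mul_one]
  calc k * (x * m) = k * x * m := (mul_assoc _ _ _).symm
    _ = x * w * (k * m * k⁻¹) * k := by rw [h1]; group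
    _ = x * m * k := by rw [hmk, ← hmm]; group

/-- A four-group acting on a subgroup of odd order: generation by the fixed points. -/
theorem four_gen [Finite G] {X : Subgroup G} (hX : Odd (Nat.card X)) {u v : G}
    (hu : orderOf u = 2) (hv : orderOf v = 2) (huv : u * v = v * u) (hne : u ≠ v)
    (hun : u ∈ normalizer (X : Set G)) (hvn : v ∈ normalizer (X : Set G)) :
    X ≤ (X ⊓ centralizer ({u} : Set G)) ⊔ (X ⊓ centralizer ({v} : Set G)) ⊔
      (X ⊓ centralizer ({u * v} : Set G)) := by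
  have hu2 := Invol.invol_mul_self hu
  have hv2 := Invol.invol_mul_self hv
  have hu1 : u ≠ 1 := Invol.invol_ne_one hu
  have hv1 : v ≠ 1 := Invol.invol_ne_one hv
  have hmul : ∀ a b : G, (a = 1 ∨ a = u ∨ a = v ∨ a = u * v) → (b = 1 ∨ b = u ∨ b = v ∨ b = u * v) →
      a * b = 1 ∨ a * b = u ∨ a * b = v ∨ a * b = u * v := by
    rintro a b (rfl | rfl | rfl | rfl) (rfl | rfl | rfl | rfl)
    all_goals first
      | (left; simp only [mul_one, one_mul, hu2, hv2]; done)
      | (left; rw [show u * v * (u * v) = u * (v * u) * v by group, ← huv,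
          show u * (u * v) * v = (u * u) * (v * v) by group, hu2, hv2, one_mul])
      | (right; left; simp only [mul_one, one_mul, mul_assoc, hv2]; done)
      | (right; left; rw [huv, ← mul_assoc, hv2, one_mul])
      | (right; right; left; simp only [mul_one, one_mul, ← mul_assoc, hu2]; done)
      | (right; right; left; rw [mul_assoc, ← huv, ← mul_assoc, hu2, one_mul])
      | (right; right; right; simp only [mul_one, one_mul, huv]; done)
  let V : Subgroup G :=
    { carrier := {a | a = 1 ∨ a = u ∨ a = v ∨ a = u * v}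
      one_mem' := Or.inl rfl
      mul_mem' := fun ha hb => hmul _ _ ha hb
      inv_mem' := by
        rintro a (rfl | rfl | rfl | rfl)
        · exact Or.inl inv_one
        · exact Or.inr (Or.inl (inv_eq_of_mul_eq_one_right hu2))
        · exact Or.inr (Or.inr (Or.inl (inv_eq_of_mul_eq_one_right hv2)))
        · refine Or.inr (Or.inr (Or.inr ?_))
          rw [mul_inv_rev, inv_eq_of_mul_eq_one_right hu2, inv_eq_of_mul_eq_one_right hv2, huv] }
  have hmem : ∀ a, a ∈ V ↔ a = 1 ∨ a = u ∨ a = v ∨ a = u * v := fun a => Iff.rfl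
  have hsq : ∀ a ∈ V, a * a = 1 := by
    intro a ha
    rcases (hmem a).1 ha with rfl | rfl | rfl | rfl
    · exact one_mul 1
    · exact hu2
    · exact hv2
    · rw [show u * v * (u * v) = u * (v * u) * v by group, ← huv,
        show u * (u * v) * v = (u * u) * (v * v) by group, hu2, hv2, one_mul]
  haveI hab : IsMulCommutative V := ⟨⟨fun a b => Subtype.ext (by
    have h := hsq _ (mul_mem a.2 b.2)
    have ha : (a : G)⁻¹ = a := inv_eq_of_mul_eq_one_right (hsq _ a.2)
    have hb : (b : G)⁻¹ = b := inv_eq_of_mul_eq_one_right (hsq _ b.2)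
    show (a : G) * b = b * a
    rw [← inv_eq_of_mul_eq_one_right h, mul_inv_rev, ha, hb])⟩⟩
  have hnc : ¬ IsCyclic V := by
    intro hc
    obtain ⟨g, hg⟩ := hc.exists_generator
    have hg2 : g * g = 1 := Subtype.ext (hsq _ g.2)
    have h2 : ∀ a : V, a = 1 ∨ a = g := fun a => by
      obtain ⟨i, rfl⟩ := mem_zpowers_iff.1 (hg a)
      rcases Int.even_or_odd' i with ⟨j, rfl | rfl⟩
      · left; rw [zpow_mul, show g ^ (2 : ℤ) = 1 by rw [zpow_two, hg2], one_zpow]
      · right; rw [zpow_add, zpow_mul, show g ^ (2 : ℤ) = 1 by rw [zpow_two, hg2], one_zpow,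
          one_mul, zpow_one]
    rcases h2 ⟨u, Or.inr (Or.inl rfl)⟩ with e | e
    · exact hu1 (congrArg Subtype.val e)
    rcases h2 ⟨v, Or.inr (Or.inr (Or.inl rfl))⟩ with e' | e'
    · exact hv1 (congrArg Subtype.val e')
    exact hne ((congrArg Subtype.val e).trans (congrArg Subtype.val e').symm)
  have hVn : V ≤ normalizer (X : Set G) := fun a ha => by
    rcases (hmem a).1 ha with rfl | rfl | rfl | rfl
    · exact one_mem _
    · exact hun
    · exact hvn
    · exact mul_mem hun hvn
  have hcop : (Nat.card V).Coprime (Nat.card X) := by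
    refine Nat.coprime_of_dvd fun p hp hpV hpX => ?_
    haveI : Fact p.Prime := ⟨hp⟩
    obtain ⟨a, ha⟩ := exists_prime_orderOf_dvd_card' p hpV
    have h2 : p ∣ 2 := ha ▸ orderOf_dvd_of_pow_eq_one
      (by rw [pow_two]; exact Subtype.ext (hsq _ a.2))
    exact Nat.not_even_iff_odd.2 hX (even_iff_two_dvd.2
      (((Nat.prime_dvd_prime_iff_eq hp Nat.prime_two).1 h2) ▸ hpX))
  conv_lhs => rw [← Coprime.iSup_centralizer_eq hab hnc hVn hcop]
  refine iSup_le fun a => ?_
  rcases (hmem a.1).1 a.2.1 with e | e | e | e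
  · exact absurd e a.2.2
  · rw [e]; exact le_sup_left.trans le_sup_left
  · rw [e]; exact le_sup_right.trans le_sup_left
  · rw [e]; exact le_sup_right

section Count

variable [Finite G] {X : Subgroup G} (hX : Odd (Nat.card X))
include hX

/-- The geometric mean: a unique solution of `t h t = g`. -/
theorem exists_mean {g h : G} (hg : g ∈ X) (hh : h ∈ X) :
    ∃ t ∈ X, t * h * t = g ∧ ∀ t' ∈ X, t' * h * t' = g → t' = t := by
  obtain ⟨r, hr, hrr⟩ := exists_root (odd_order_of_mem hX hh)
  have hrX : r ∈ X := zpowers_le.2 hh hr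
  obtain ⟨s, hs, hss⟩ := exists_root (odd_order_of_mem hX (mul_mem (mul_mem hrX hg) hrX))
  have hsX : s ∈ X := zpowers_le.2 (mul_mem (mul_mem hrX hg) hrX) hs
  refine ⟨r⁻¹ * s * r⁻¹, mul_mem (mul_mem (inv_mem hrX) hsX) (inv_mem hrX), ?_, fun t ht e => ?_⟩
  · calc r⁻¹ * s * r⁻¹ * h * (r⁻¹ * s * r⁻¹) = r⁻¹ * s * (r⁻¹ * h * r⁻¹) * s * r⁻¹ := by group
      _ = r⁻¹ * (s * s) * r⁻¹ := by rw [← hrr]; group
      _ = g := by rw [hss]; group
  · have h1 : (r * t * r) * (r * t * r) = s * s := by
      rw [hss, ← e, ← hrr]; group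
    have := sq_left_cancel (odd_order_of_mem hX (mul_mem (mul_mem hrX ht) hrX))
      (odd_order_of_mem hX hsX) h1
    rw [← this]; group

variable {u v : G} (hu : u * u = 1) (hv : v * v = 1) (huv : u * v = v * u)
  (hun : u ∈ normalizer (X : Set G)) (hvn : v ∈ normalizer (X : Set G))

include hu hun in
/-- `|X| = |C_X(u)| |I_X(u)|`. -/
theorem card_eq_fixed_mul_inverted :
    Nat.card X = Nat.card (X ⊓ centralizer ({u} : Set G) : Subgroup G) *
      Nat.card {g : G // g ∈ X ∧ u * g * u = g⁻¹} := by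
  rw [← Nat.card_prod]
  refine (Nat.card_eq_of_bijective
    (fun p => (⟨p.1 * p.2, mul_mem p.1.2.1 p.2.2.1⟩ : X)) ⟨?_, ?_⟩).symm
  · rintro ⟨c, k⟩ ⟨c', k'⟩ h
    have e : (c : G) * k = c' * k' := congrArg Subtype.val h
    have hd := mul_mem (inv_mem c'.2) c.2
    have e1 : (c' : G)⁻¹ * c * k = k' := by rw [mul_assoc, e, inv_mul_cancel_left]
    have hdu : u * ((c' : G)⁻¹ * c) = (c' : G)⁻¹ * c * u :=
      (mem_centralizer_singleton_iff.1 hd.2).symm
    -- conjugating by `u` gives `d k⁻¹ = k'⁻¹`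
    have e2 : (c' : G)⁻¹ * c * (k : G)⁻¹ = (k' : G)⁻¹ := by
      rw [← k.2.2, ← k'.2.2, ← e1]
      calc (c' : G)⁻¹ * c * (u * k * u) = ((c' : G)⁻¹ * c * u) * k * u := by group
        _ = u * ((c' : G)⁻¹ * c) * k * u := by rw [hdu]
        _ = u * ((c' : G)⁻¹ * c * k) * u := by group
    have e3 : (k : G) * k = k' * k' := by
      calc (k : G) * k = ((c' : G)⁻¹ * c * (k : G)⁻¹)⁻¹ * ((c' : G)⁻¹ * c * k) := by group
        _ = k' * k' := by rw [e1, e2, inv_inv]
    have hk : (k : G) = k' :=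
      sq_left_cancel (odd_order_of_mem hX k.2.1) (odd_order_of_mem hX k'.2.1) e3
    exact Prod.ext (Subtype.ext (mul_right_cancel (e.trans (by rw [hk])))) (Subtype.ext hk)
  · intro g
    have hw : (g : G)⁻¹ * (u * g * u) ∈ X :=
      mul_mem (inv_mem g.2) (invol_conj_mem hu hun g.2)
    obtain ⟨r, hr, hrr⟩ := exists_root (odd_order_of_mem hX hw)
    obtain ⟨i, hi⟩ := mem_zpowers_iff.1 hr
    have eu : u⁻¹ = u := inv_eq_of_mul_eq_one_right hu
    have hwu : u * ((g : G)⁻¹ * (u * g * u)) * u⁻¹ = ((g : G)⁻¹ * (u * g * u))⁻¹ := by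
      rw [eu]
      calc u * ((g : G)⁻¹ * (u * g * u)) * u = u * (g : G)⁻¹ * u * g * (u * u) := by group
        _ = u * (g : G)⁻¹ * u * g := by rw [hu, mul_one]
        _ = _ := by simp only [mul_inv_rev, inv_inv, eu, mul_assoc]
    have hru : u * r * u⁻¹ = r⁻¹ := by rw [← hi, ← conj_zpow, hwu, inv_zpow]
    refine ⟨⟨⟨(g : G) * r, mul_mem g.2 (zpowers_le.2 hw hr), mem_centralizer_singleton_iff.2 ?_⟩,
      ⟨r⁻¹, inv_mem (zpowers_le.2 hw hr), ?_⟩⟩, Subtype.ext (by simp)⟩
    · symm
      have h1 : u * g = g * ((g : G)⁻¹ * (u * g * u)) * u := by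
        rw [show (g : G) * ((g : G)⁻¹ * (u * g * u)) * u = u * g * (u * u) by group, hu, mul_one]
      calc u * ((g : G) * r) = u * g * r := (mul_assoc _ _ _).symm
        _ = g * ((g : G)⁻¹ * (u * g * u)) * u * r := by rw [← h1]
        _ = g * ((g : G)⁻¹ * (u * g * u)) * (u * r * u⁻¹) * u := by group
        _ = g * r * u := by rw [hru, ← hrr]; group
    · rw [inv_inv]
      calc u * r⁻¹ * u = (u * r * u⁻¹)⁻¹ := by rw [eu]; simp only [mul_inv_rev, eu, mul_assoc]
        _ = r := by rw [hru, inv_inv]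


include hu hun hv huv hvn in
/-- The elements inverted by `u`, split by `v`. -/
theorem card_inverted_split :
    Nat.card {g : G // g ∈ X ∧ u * g * u = g⁻¹} =
      Nat.card {g : G // g ∈ X ∧ u * g * u = g⁻¹ ∧ v * g * v = g} *
        Nat.card {g : G // g ∈ X ∧ u * g * u = g⁻¹ ∧ v * g * v = g⁻¹} := by
  have eu : u⁻¹ = u := inv_eq_of_mul_eq_one_right hu
  have ev : v⁻¹ = v := inv_eq_of_mul_eq_one_right hv
  have cu : ∀ a b : G, u * (a * b) * u = u * a * u * (u * b * u) := fun a b => by
    rw [show u * a * u * (u * b * u) = u * a * (u * u) * b * u by group, hu]; group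
  have cv : ∀ a b : G, v * (a * b) * v = v * a * v * (v * b * v) := fun a b => by
    rw [show v * a * v * (v * b * v) = v * a * (v * v) * b * v by group, hv]; group
  have ci : ∀ w a : G, w⁻¹ = w → w * a⁻¹ * w = (w * a * w)⁻¹ := fun w a hw => by
    simp only [mul_inv_rev, hw, mul_assoc]
  rw [← Nat.card_prod]
  refine (Nat.card_eq_of_bijective
    (fun p => (⟨p.2 * p.1 * p.2, mul_mem (mul_mem p.2.2.1 p.1.2.1) p.2.2.1, ?_⟩ :
      {g : G // g ∈ X ∧ u * g * u = g⁻¹})) ⟨?_, ?_⟩).symm
  · rw [cu, cu, p.2.2.2.1, p.1.2.2.1]; group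
  · rintro ⟨c, k⟩ ⟨c', k'⟩ h
    have e : (k : G) * c * k = k' * c' * k' := congrArg Subtype.val h
    have hk2 : ∀ (c : {g : G // g ∈ X ∧ u * g * u = g⁻¹ ∧ v * g * v = g})
        (k : {g : G // g ∈ X ∧ u * g * u = g⁻¹ ∧ v * g * v = g⁻¹}),
        ((k : G) * k) * (v * ((k : G) * c * k) * v) * ((k : G) * k) = k * c * k := fun c k => by
      rw [cv, cv, k.2.2.2, c.2.2.2]; group
    obtain ⟨t, -, -, huniq⟩ := exists_mean hX
      (mul_mem (mul_mem k.2.1 c.2.1) k.2.1)
      (invol_conj_mem hv hvn (mul_mem (mul_mem k.2.1 c.2.1) k.2.1))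
    have e1 := huniq _ (mul_mem k.2.1 k.2.1) (hk2 c k)
    have e2 := huniq _ (mul_mem k'.2.1 k'.2.1) (by rw [e]; exact hk2 c' k')
    have hk : (k : G) = k' :=
      sq_left_cancel (odd_order_of_mem hX k.2.1) (odd_order_of_mem hX k'.2.1) (e1.trans e2.symm)
    refine Prod.ext (Subtype.ext ?_) (Subtype.ext hk)
    rw [hk] at e
    exact mul_left_cancel (mul_right_cancel e)
  · intro g
    have hgv : v * (g : G) * v ∈ X := invol_conj_mem hv hvn g.2.1
    obtain ⟨t, htX, hte, huniq⟩ := exists_mean hX g.2.1 hgv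
    have hsw : ∀ a : G, u * (v * a * v) * u = v * (u * a * u) * v := fun a => by
      calc u * (v * a * v) * u = (u * v) * a * (v * u) := by group
        _ = (v * u) * a * (u * v) := by rw [huv]
        _ = v * (u * a * u) * v := by group
    -- `t` is inverted by both
    have htu : u * t * u = t⁻¹ := by
      rw [← inv_inj, inv_inv]
      refine huniq _ (inv_mem (invol_conj_mem hu hun htX)) ?_
      have h1 : (g : G)⁻¹ = u * t * u * (v * (g : G)⁻¹ * v) * (u * t * u) := by
        conv_lhs => rw [← g.2.2, ← hte]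
        rw [cu, cu, hsw, g.2.2]
      calc (u * t * u)⁻¹ * (v * (g : G) * v) * (u * t * u)⁻¹
          = (u * t * u * (v * (g : G)⁻¹ * v) * (u * t * u))⁻¹ := by rw [ci v _ ev]; group
        _ = g := by rw [← h1, inv_inv]
    have htv : v * t * v = t⁻¹ := by
      rw [← inv_inj, inv_inv]
      refine huniq _ (inv_mem (invol_conj_mem hv hvn htX)) ?_
      have h1 : v * (g : G) * v = v * t * v * g * (v * t * v) := by
        conv_lhs => rw [← hte]
        rw [cv, cv, show v * (v * (g : G) * v) * v = (v * v) * g * (v * v) by group, hv, one_mul,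
          mul_one]
      rw [h1]
      group
    obtain ⟨k, hk, hkk⟩ := exists_root (odd_order_of_mem hX htX)
    obtain ⟨i, hi⟩ := mem_zpowers_iff.1 hk
    have hkX : k ∈ X := zpowers_le.2 htX hk
    have hku : u * k * u = k⁻¹ := by
      have h := conj_zpow (i := i) (a := u) (b := t)
      rw [eu, htu, inv_zpow, hi] at h
      exact h.symm
    have hkv : v * k * v = k⁻¹ := by
      have h := conj_zpow (i := i) (a := v) (b := t)
      rw [ev, htv, inv_zpow, hi] at h
      exact h.symm
    refine ⟨⟨⟨k⁻¹ * (g : G) * k⁻¹, mul_mem (mul_mem (inv_mem hkX) g.2.1) (inv_mem hkX), ?_, ?_⟩,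
      ⟨k, hkX, hku, hkv⟩⟩, Subtype.ext (by simp [mul_assoc])⟩
    · rw [cu, cu, ci u _ eu, hku, g.2.2]; group
    · rw [cv, cv, ci v _ ev, hkv]
      conv_rhs => rw [← hte, ← hkk]
      group

include hu hun hv huv hvn in
/-- The order formula for a four-group acting on a subgroup of odd order. -/
theorem card_four_formula :
    Nat.card X * Nat.card (X ⊓ centralizer ({u} : Set G) ⊓ centralizer ({v} : Set G) : Subgroup G) ^ 2 =
      Nat.card (X ⊓ centralizer ({u} : Set G) : Subgroup G) *
        Nat.card (X ⊓ centralizer ({v} : Set G) : Subgroup G) *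
        Nat.card (X ⊓ centralizer ({u * v} : Set G) : Subgroup G) := by
  have hcomm : ∀ {w g : G}, w * w = 1 → (g ∈ centralizer ({w} : Set G) ↔ w * g * w = g) := by
    intro w g hw
    rw [mem_centralizer_singleton_iff]
    refine ⟨fun h => ?_, fun h => ?_⟩
    · rw [← h, mul_assoc, hw, mul_one]
    · conv_lhs => rw [← h]
      rw [mul_assoc, hw, mul_one]
  have eu : u⁻¹ = u := inv_eq_of_mul_eq_one_right hu
  have ev : v⁻¹ = v := inv_eq_of_mul_eq_one_right hv
  have huv2 : u * v * (u * v) = 1 := by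
    calc u * v * (u * v) = u * (v * u) * v := by group
      _ = (u * u) * (v * v) := by rw [← huv]; group
      _ = 1 := by rw [hu, hv, one_mul]
  have e1 := card_eq_fixed_mul_inverted hX hu hun
  have e2 := card_inverted_split hX hu hv huv hun hvn
  have key : ∀ w : G, w * w = 1 → u * w = w * u → w ∈ normalizer (X : Set G) →
      Nat.card (X ⊓ centralizer ({w} : Set G) : Subgroup G) =
        Nat.card (X ⊓ centralizer ({u} : Set G) ⊓ centralizer ({w} : Set G) : Subgroup G) *
          Nat.card {g : G // g ∈ X ∧ u * g * u = g⁻¹ ∧ w * g * w = g} := by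
    intro w hw huw hwn
    have hsub : Odd (Nat.card (X ⊓ centralizer ({w} : Set G) : Subgroup G)) :=
      hX.of_dvd_nat (card_dvd_of_le inf_le_left)
    have hn : u ∈ normalizer ((X ⊓ centralizer ({w} : Set G) : Subgroup G) : Set G) := by
      have hwu : u ∈ normalizer ((centralizer ({w} : Set G)) : Set G) :=
        le_normalizer (mem_centralizer_singleton_iff.2 huw)
      exact mem_normalizer_iff.2 fun g => by
        simp only [mem_inf]
        exact and_congr (mem_normalizer_iff.1 hun g) (mem_normalizer_iff.1 hwu g)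
    rw [card_eq_fixed_mul_inverted hsub hu hn, inf_right_comm]
    congr 1
    refine Nat.card_congr (Equiv.subtypeEquivRight fun g => ?_)
    rw [mem_inf, hcomm hw]
    tauto
  have k1 := key v hv huv hvn
  have k2 := key (u * v) huv2 (by rw [← mul_assoc, hu, one_mul, huv, mul_assoc, hu, mul_one])
    (mul_mem hun hvn)
  have hsame : (X ⊓ centralizer ({u} : Set G) ⊓ centralizer ({u * v} : Set G) : Subgroup G) =
      X ⊓ centralizer ({u} : Set G) ⊓ centralizer ({v} : Set G) := by
    ext g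
    simp only [mem_inf, hcomm hu, hcomm hv, hcomm huv2]
    refine and_congr_right fun h => ⟨fun h' => ?_, fun h' => ?_⟩
    · calc v * g * v = v * (u * g * u) * v := by rw [h.2]
        _ = (v * u) * g * (u * v) := by group
        _ = u * v * g * (u * v) := by rw [← huv]
        _ = g := h'
    · calc u * v * g * (u * v) = (u * v) * g * (v * u) := by rw [huv]
        _ = u * (v * g * v) * u := by group
        _ = g := by rw [h', h.2]
  have hII : Nat.card {g : G // g ∈ X ∧ u * g * u = g⁻¹ ∧ v * g * v = g⁻¹} =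
      Nat.card {g : G // g ∈ X ∧ u * g * u = g⁻¹ ∧ u * v * g * (u * v) = g} := by
    refine Nat.card_congr (Equiv.subtypeEquivRight fun g => and_congr_right fun _ =>
      and_congr_right fun h => ⟨fun h' => ?_, fun h' => ?_⟩)
    · calc u * v * g * (u * v) = (u * v) * g * (v * u) := by rw [huv]
        _ = u * (v * g * v) * u := by group
        _ = (u * g * u)⁻¹ := by rw [h']; simp only [mul_inv_rev, eu, mul_assoc]
        _ = g := by rw [h, inv_inv]
    · have h3 : v * g * v = u * (u * v * g * (u * v)) * u := by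
        calc v * g * v = (u * u) * v * g * (v * (u * u)) := by rw [hu, one_mul, mul_one]
          _ = u * (u * v * g * (v * u)) * u := by group
          _ = _ := by rw [← huv]
      rw [h3, h', h]
  rw [hsame, ← hII] at k2
  rw [k1, k2, e1, e2]
  ring

end Count

end CfsgLib.SylJanko
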