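import Cfsg.Agent.Lib.SylJanko.DataWit

/-! Checks of the subgroup certificate, part 1. -/

set_option autoImplicit false
set_option maxRecDepth 100000
set_option maxHeartbeats 0

namespace CfsgLib.SylJanko

theorem check_gen_1 : ((List.range 75).all fun k =>
    let i := 75 + k
    genOK (maskTree.get i) (genList.getD i [])) = true := by decide +kernel

theorem check_sup_1 : ((List.range 75).all fun k =>
    let i := 75 + k
    supOK (maskTree.get i) (genList.getD i []) (supList.getD i [])) = true := by decide +kernel

theorem check_wit_1 : ((List.range 75).all fun k =>
    let i := 75 + k
    witOK (maskTree.get i) (genList.getD i []) (witList.getD i .whole)) = true := by decide +kernel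

theorem check_closed_1 : ((List.range 75).all fun k =>
    closedOK (maskTree.get (75 + k))) = true := by decide +kernel

end CfsgLib.SylJanko
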