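import Cfsg.Agent.Lib.SylJanko.Code
import Cfsg.Agent.Lib.Janko2.DataSylow

/-! The table agrees with that of the Hall-Janko Sylow subgroup. -/

set_option autoImplicit false
set_option maxRecDepth 100000
set_option maxHeartbeats 0

namespace CfsgLib.SylJanko

open CfsgLib.Fusion.TableSylow (mulT)

theorem check_mt : ((List.range 128).all fun a => (List.range 128).all fun b =>
    Nat.beq (mt a b) (mulT CfsgLib.Janko2.sylData a b)) = true := by decide +kernel

theorem check_iv : ((List.range 128).all fun a => Nat.blt (iv a) 128 && Nat.beq (mt a (iv a)) 0 &&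
    Nat.beq (mt (iv a) a) 0) = true := by decide +kernel

end CfsgLib.SylJanko
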