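import Cfsg.Agent.Lib.SylJanko.Check0
import Cfsg.Agent.Lib.SylJanko.Check1
import Cfsg.Agent.Lib.SylJanko.Check2

/-! The checks, assembled. -/

set_option autoImplicit false
set_option maxRecDepth 100000

namespace CfsgLib.SylJanko

theorem of_parts {f : ℕ → Bool} (h0 : ((List.range 75).all fun k => f (0 + k)) = true)
    (h1 : ((List.range 75).all fun k => f (75 + k)) = true)
    (h2 : ((List.range 75).all fun k => f (150 + k)) = true) {i : ℕ} (hi : i < 225) :
    f i = true := by
  rcases Nat.lt_or_ge i 75 with h | h
  · simpa using List.all_eq_true.1 h0 i (List.mem_range.2 h)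
  rcases Nat.lt_or_ge i 150 with h' | h'
  · have := List.all_eq_true.1 h1 (i - 75) (List.mem_range.2 (by omega))
    rwa [Nat.add_sub_cancel' h] at this
  · have := List.all_eq_true.1 h2 (i - 150) (List.mem_range.2 (by omega))
    rwa [Nat.add_sub_cancel' h'] at this

theorem gen_ok {i : ℕ} (hi : i < 225) :
    genOK (maskTree.get i) (genList.getD i []) = true :=
  of_parts (f := fun i => genOK (maskTree.get i) (genList.getD i [])) check_gen_0 check_gen_1
    check_gen_2 hi

theorem sup_ok {i : ℕ} (hi : i < 225) :
    supOK (maskTree.get i) (genList.getD i []) (supList.getD i []) = true :=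
  of_parts (f := fun i => supOK (maskTree.get i) (genList.getD i []) (supList.getD i []))
    check_sup_0 check_sup_1 check_sup_2 hi

theorem wit_ok {i : ℕ} (hi : i < 225) :
    witOK (maskTree.get i) (genList.getD i []) (witList.getD i .whole) = true :=
  of_parts (f := fun i => witOK (maskTree.get i) (genList.getD i []) (witList.getD i .whole))
    check_wit_0 check_wit_1 check_wit_2 hi

theorem closed_ok {i : ℕ} (hi : i < 225) : closedOK (maskTree.get i) = true :=
  of_parts (f := fun i => closedOK (maskTree.get i)) check_closed_0 check_closed_1 check_closed_2 hi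

end CfsgLib.SylJanko
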