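import Cfsg.Agent.Lib.SylJanko.Elementary

/-!
When the involution is central, the extraspecial subgroup is strongly closed.
-/

set_option autoImplicit false
set_option maxRecDepth 100000
set_option linter.style.haveILetI false

namespace CfsgLib.SylJanko

open Subgroup

universe u

theorem eAt_q : ∀ i : Fin 2, ∀ v : Fin 16, mem qMask (eAt i v) = decide (v.val < 4) := by
  decide +kernel

theorem run_w : (runAll bMask [.sqz 0, .mul 2 2]).getD 3 1 = wMask := by decide +kernel

variable {G : Type u} [Group G] [Finite G] (S : Sylow 2 G) (F : Frame (S : Subgroup G))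

/-- The extraspecial subgroup is strongly closed in the Sylow subgroup. -/
theorem mem_q_of_fused (hz : ∀ g : G, g * F.z = F.z * g) {g x : G} (hx : x ∈ (S : Subgroup G))
    (hgx : g * x * g⁻¹ ∈ (S : Subgroup G)) : g * x * g⁻¹ ∈ F.Q ↔ x ∈ F.Q := by
  haveI : Fact (Nat.Prime 2) := ⟨Nat.prime_two⟩
  let E := Cfsg.groupFusionSystem (S : Subgroup G)
  have hsat : E.IsSaturated 2 := Fusion.group_isSaturated S
  have hB : ∀ α ∈ E.autGroup (F.sub bMask), ∀ y : ↥(F.sub bMask),
      ((α y : ↥(F.sub bMask)) : G) ∈ F.Q ↔ (y : G) ∈ F.Q := by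
    have hfix : ∀ α ∈ E.autGroup (F.sub bMask), ∀ y : ↥(F.sub bMask), (y : G) = F.z →
        ((α y : ↥(F.sub bMask)) : G) = F.z := by
      intro α hα y hy
      rw [Fusion.group_autGroup_eq S (F.sub_le _), Fusion.mem_autInducedBy_iff] at hα
      obtain ⟨a, -, ha⟩ := hα
      rw [ha y, hy, hz, mul_inv_cancel_right]
    have hinv := Frame.inv_runAll (F := F) (E.autGroup (F.sub bMask))
      (show (F.sub bMask : Set G) = F.set bMask from F.coe_sub closed_b) [.sqz 0, .mul 2 2]
      (fun _ => hfix) 3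
    rw [run_w] at hinv
    have hinv' : ∀ α ∈ E.autGroup (F.sub bMask), ∀ y : ↥(F.sub bMask),
        (y : G) ∈ F.sub wMask → ((α y : ↥(F.sub bMask)) : G) ∈ F.sub wMask := fun α hα y hy => by
      have h := hinv.2 α hα y (by rw [← F.coe_sub closed_w]; exact hy)
      rwa [← F.coe_sub closed_w] at h
    intro α hα y
    constructor
    · intro h
      have := hinv' α⁻¹ (inv_mem hα) (α y) (F.mem_w.2 ⟨h, (α y).2⟩)
      rw [MulAut.inv_apply_self] at this
      exact (F.mem_w.1 this).1
    · intro h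
      exact (F.mem_w.1 (hinv' α hα y (F.mem_w.2 ⟨h, y.2⟩))).1
  have hE : ∀ i : Fin 2, E.IsFullyNormalized (F.sub (eMask i)) →
      ∀ α ∈ E.autGroup (F.sub (eMask i)), ∀ y : ↥(F.sub (eMask i)),
      ((α y : ↥(F.sub (eMask i))) : G) ∈ F.Q ↔ (y : G) ∈ F.Q := by
    intro i hfn α hα y
    rw [Fusion.group_autGroup_eq S (F.sub_le _), Fusion.mem_autInducedBy_iff] at hα
    obtain ⟨a, -, ha⟩ := hα
    have haN := Fusion.mem_normalizer_of_aut ha
    have hfw : ∀ (n : ↥(normalizer (F.sub (eMask i) : Set G))) (w : Fin 16), w.val < 4 →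
        (F.eAct i n w).val < 4 := by
      intro n w hw
      have h0 : F.eAct i n 0 = 0 := by
        refine F.eAt_inj (i := i) ?_
        rw [F.eAct_spec, eAt_zero, F.p_zero, mul_one, mul_inv_cancel]
      have h1 : F.eAct i n 1 = 1 := by
        refine F.eAt_inj (i := i) ?_
        rw [F.eAct_spec, eAt_one]
        show (n : G) * F.z * (n : G)⁻¹ = F.z
        rw [hz, mul_inv_cancel_right]
      rcases small_cases w hw with rfl | rfl | rfl | rfl
      · rw [h0]; decide
      · rw [h1]; decide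
      · rcases eAct_two S F hz i hfn n with e | e <;> rw [e] <;> decide
      · rw [show (3 : Fin 16) = 2 ^^^ 1 by decide, F.eAct_xor, h1]
        rcases eAct_two S F hz i hfn n with e | e <;> rw [e] <;> decide
    have hq : ∀ w, F.p (eAt i w) ∈ F.Q ↔ w.val < 4 := fun w => by
      rw [F.mem_sub closed_q (Frame.eAt_lt i w), eAt_q, decide_eq_true_eq]
    obtain ⟨v, hv⟩ := F.mem_E.1 y.2
    rw [ha y, ← hv, ← F.eAct_spec i ⟨a, haN⟩ v, hq, hq]
    refine ⟨fun h => ?_, hfw _ v⟩
    have := hfw (⟨a, haN⟩)⁻¹ _ h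
    rwa [← F.eAct_mul, inv_mul_cancel, F.eAct_one] at this
  have hm : Fusion.IsMap E (zpowers x) (fun y => g * y * g⁻¹) := by
    refine ((Fusion.isSystemOf_group (S : Subgroup G)).2 _ _).2
      ⟨zpowers_le.2 hx, fun y hy => ?_, g, Subgroup.mem_top g, fun y _ => rfl⟩
    obtain ⟨k, rfl⟩ := mem_zpowers_iff.1 hy
    rw [← conj_zpow]; exact Subgroup.zpow_mem _ hgx k
  refine Fusion.invariant_of_candidates (p := 2) (E := F.cand) S.isPGroup' hsat
    (F.Q : Set G) (Frame.conj_mem_of_T F.apply_mem_q) (F.hasCandidates hsat)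
    (fun α _ y => Frame.apply_mem_iff F.apply_mem_q α y) (fun i hi _ α hα y => ?_) hm
    (mem_zpowers x)
  fin_cases i
  · exact iff_of_true (α y).2 y.2
  · exact hB α hα y
  · exact hE 0 hi α hα y
  · exact hE 1 hi α hα y

end CfsgLib.SylJanko
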