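import Cfsg.Agent.Lib.SylJanko.DataTable

/-!
Computations with the table of the Sylow 2-subgroup: subgroups are coded by bit masks, and
characteristic subsets by short programs.
-/

set_option autoImplicit false
set_option maxRecDepth 100000

namespace CfsgLib.SylJanko

open CfsgLib.Fusion.TableSylow (Tree)

/-- The product. -/
def mt (a b : ℕ) : ℕ := ((rowTree.get a) >>> (7 * b)) % 128

/-- The inverse. -/
def iv (a : ℕ) : ℕ := invTree.get a

/-- The conjugate `a b a⁻¹`. -/
def cj (a b : ℕ) : ℕ := mt (mt a b) (iv a)

/-- Membership in a mask. -/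
def mem (m d : ℕ) : Bool := m.testBit d

/-- The elements of a mask. -/
def elems (m : ℕ) : List ℕ := (List.range 128).filter fun d => mem m d

/-- The mask of a list. -/
def maskOf (l : List ℕ) : ℕ := l.foldl (fun acc d => acc ||| 1 <<< d) 0

/-- The union with the coset of `g`. -/
def unionMask (m g : ℕ) : ℕ := m ||| maskOf ((elems m).map fun h => mt g h)

/-- The central involution. -/
def zIdx : ℕ := 64

/-- The extraspecial subgroup. -/
def qMask : ℕ := maskTree.get 190

/-- The subgroup of index two. -/
def bMask : ℕ := maskTree.get 220

/-- The two elementary abelian subgroups of order 16. -/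
def eMask (i : Fin 2) : ℕ := maskTree.get (if i = 0 then 126 else 140)

/-- Operations preserving invariance under automorphisms. -/
inductive Op where
  | bot (i j : ℕ) : Op
  | sq (i : ℕ) : Op
  | cen (i : ℕ) : Op
  | ord2 (i : ℕ) : Op
  | inter (i j : ℕ) : Op
  | mul (i j : ℕ) : Op
  | sqz (i : ℕ) : Op

/-- Does the operation refer to the central involution. -/
def Op.needsZ : Op → Bool
  | .sqz _ => true
  | _ => false

/-- The value of an operation inside the subgroup `P`. -/
def Op.eval (P : ℕ) (v : List ℕ) : Op → ℕ
  | .bot _ _ => 1
  | .sq i => maskOf ((elems (v.getD i 1)).map fun h => mt h h)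
  | .cen i =>
    let l := elems (v.getD i 1)
    maskOf ((elems P).filter fun g => l.all fun h => Nat.beq (mt g h) (mt h g))
  | .ord2 i => maskOf ((elems (v.getD i 1)).filter fun h => Nat.beq (mt h h) 0)
  | .inter i j => v.getD i 1 &&& v.getD j 1
  | .mul i j =>
    let l := elems (v.getD j 1)
    maskOf ((elems (v.getD i 1)).flatMap fun a => l.map fun b => mt a b)
  | .sqz i => maskOf ((elems (v.getD i 1)).filter fun h => Nat.beq (mt h h) zIdx)

/-- The values of a program. -/
def run (P : ℕ) : List Op → List ℕ → List ℕ
  | [], v => v
  | o :: rest, v => run P rest (v ++ [o.eval P v])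

/-- The values of a program from the start. -/
def runAll (P : ℕ) (prog : List Op) : List ℕ := run P prog [P, 1]

/-- Why a subgroup is not essential. -/
inductive Wit where
  | notCentric (c : ℕ) : Wit
  | whole : Wit
  | candidate : Wit
  | stab (a : ℕ) (prog : List Op) (chain : List ℕ) : Wit

/-- The chain of masks is stabilised by `a`. -/
def chainOK (a : ℕ) : List ℕ → Bool
  | x :: y :: rest =>
    Nat.beq (x &&& y) x && (elems y).all (fun h => mem x (mt (iv h) (cj a h))) &&
      chainOK a (y :: rest)
  | _ => true

/-- The witness is valid for the subgroup `m` with generators `gs`. -/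
def witOK (m : ℕ) (gs : List ℕ) : Wit → Bool
  | .notCentric c => Nat.blt c 128 && !mem m c && gs.all fun g => Nat.beq (mt c g) (mt g c)
  | .whole => Nat.beq m (2 ^ 128 - 1)
  | .candidate => Nat.beq m qMask || Nat.beq m bMask || Nat.beq m (eMask 0) || Nat.beq m (eMask 1)
  | .stab a prog ch =>
    let ms := ch.map fun k => (runAll m prog).getD k 1
    Nat.blt a 128 && !mem m a && gs.all (fun g => mem m (cj a g)) &&
      prog.all (fun o => !o.needsZ) &&
      Nat.beq (ms.getD 0 0) 1 && Nat.beq (ms.getD (ms.length - 1) 0) m && chainOK a ms

/-- Every element of the mask is a product of the generators. -/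
def genOK (m : ℕ) (gs : List ℕ) : Bool :=
  gs.all (fun g => Nat.blt g 128 && mem m g) &&
    Nat.beq (gs.foldl (fun acc g => unionMask acc g) 1) m

/-- The list of successors is complete. -/
def supOK (m : ℕ) (gs sups : List ℕ) : Bool :=
  (List.range 128).all fun g =>
    mem m g || !mem m (mt g g) || !gs.all (fun h => mem m (cj g h)) ||
      sups.any fun k => Nat.blt k 225 && Nat.beq (unionMask m g) (maskTree.get k)

/-- The mask is closed under products and inverses. -/
def closedOK (m : ℕ) : Bool :=
  let l := elems m
  mem m 0 && l.all fun a => mem m (iv a) && l.all fun b => mem m (mt a b)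

end CfsgLib.SylJanko
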