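import Cfsg.Agent.Lib.SylJanko.Quotient
import Cfsg.Agent.Lib.Solvable.Gaschutz

/-!
The extraspecial subgroup has a complement.
-/

set_option autoImplicit false
set_option maxRecDepth 100000
set_option linter.style.haveILetI false

namespace CfsgLib.SylJanko

open Subgroup

universe u

/-- In a group of exponent two a proper hyperplane avoids a given element. -/
theorem exists_avoiding {P : Type u} [Group P] [Finite P] (h2 : ∀ x : P, x * x = 1) {z : P}
    (hz : z ≠ 1) : ∃ M : Subgroup P, M ⊓ zpowers z = ⊥ ∧ zpowers z ⊔ M = ⊤ := by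
  classical
  haveI : Fintype (Subgroup P) := Fintype.ofFinite _
  obtain ⟨M, hM, hmax⟩ := (Finset.univ.filter fun M : Subgroup P => z ∉ M).exists_max_image
    (fun M => Nat.card M) ⟨⊥, Finset.mem_filter.2 ⟨Finset.mem_univ _, by simpa using hz⟩⟩
  have hzM : z ∉ M := (Finset.mem_filter.1 hM).2
  have hinv : ∀ x : P, x⁻¹ = x := fun x => inv_eq_of_mul_eq_one_right (h2 x)
  have hcomm : ∀ x y : P, x * y = y * x := fun x y => by
    rw [← hinv (x * y), mul_inv_rev, hinv, hinv]
  have hzc : ∀ x ∈ zpowers z, x = 1 ∨ x = z := by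
    intro x hx
    obtain ⟨k, rfl⟩ := mem_zpowers_iff.1 hx
    rw [← zpow_mod_orderOf, orderOf_eq_prime (hp := ⟨Nat.prime_two⟩) ((pow_two z).trans (h2 z)) hz]
    rcases Int.emod_two_eq_zero_or_one k with e | e <;> simp [e]
  refine ⟨M, ?_, ?_⟩
  · rw [eq_bot_iff]
    intro x hx
    rcases hzc x hx.2 with rfl | rfl
    · exact one_mem _
    · exact absurd hx.1 hzM
  · rw [eq_top_iff]
    intro x _
    by_contra hx
    haveI : M.Normal := ⟨fun n hn g => by rw [hcomm g n, mul_inv_cancel_right]; exact hn⟩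
    have hlt : M < M ⊔ zpowers x :=
      lt_of_le_of_ne le_sup_left fun e => hx (mem_sup_right (e ▸ mem_sup_right (mem_zpowers x)))
    have hz' : z ∉ M ⊔ zpowers x := by
      intro h
      obtain ⟨m, hm, y, hy, e⟩ := mem_sup_of_normal_left.1 h
      obtain ⟨k, rfl⟩ := mem_zpowers_iff.1 hy
      rcases Int.emod_two_eq_zero_or_one k with e' | e'
      · refine hzM ?_
        rw [← e, ← Int.emod_add_mul_ediv k 2, e', zero_add, zpow_mul,
          show x ^ (2 : ℤ) = 1 by rw [zpow_two]; exact h2 x, one_zpow, mul_one]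
        exact hm
      · refine hx ?_
        rw [← Int.emod_add_mul_ediv k 2, e', zpow_add, zpow_one, zpow_mul,
          show x ^ (2 : ℤ) = 1 by rw [zpow_two]; exact h2 x, one_zpow, mul_one] at e
        rw [show x = m⁻¹ * z by rw [← e]; group, hcomm]
        exact mul_mem (mem_sup_left (mem_zpowers z)) (mem_sup_right (inv_mem hm))
    have := hmax (M ⊔ zpowers x) (Finset.mem_filter.2 ⟨Finset.mem_univ _, hz'⟩)
    exact absurd (eq_of_le_of_card_ge hlt.le this) hlt.ne

variable {Y : Type u} [Group Y] [Finite Y] (D : Setting Y)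

theorem Setting.exists_complement : ∃ K : Subgroup Y, IsComplement' D.F.Q K := by
  classical
  haveI : Fact (Nat.Prime 2) := ⟨Nat.prime_two⟩
  obtain ⟨hQn, -, -, hY⟩ := D.structure_thm
  set z := D.F.z with hzdef
  haveI := D.zpowers_normal
  let q : Y →* Y ⧸ zpowers z := QuotientGroup.mk' _
  have hqs : Function.Surjective q := QuotientGroup.mk'_surjective _
  have hker : q.ker = zpowers z := QuotientGroup.ker_mk' _
  have hzQ : zpowers z ≤ D.F.Q := zpowers_le.2 D.F.z_mem_Q
  let A := D.F.Q.map q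
  haveI : A.Normal := Normal.map hQn _ hqs
  have hQ32 : Nat.card D.F.Q = 32 := by rw [D.F.card_sub closed_q]; decide +kernel
  have hsq : ((List.range 128).all fun a => (!mem qMask a ||
        ((Nat.beq (mt a a) 0 || Nat.beq (mt a a) zIdx) && (List.range 128).all fun b =>
          !mem qMask b || Nat.beq (mt a b) (mt b a) ||
            Nat.beq (mt a b) (mt (mt b a) zIdx))) &&
      (mem qMask (mt a a) && (mem qMask a || !Nat.beq (mt a a) zIdx))) = true := by decide +kernel
  have hspec : ∀ a < 128, (mem qMask a = true → ∀ b < 128, mem qMask b = true →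
      (mt a b = mt b a ∨ mt a b = mt (mt b a) zIdx)) ∧ mem qMask (mt a a) = true ∧
        (mem qMask a = true ∨ mt a a ≠ zIdx) := by
    intro a ha
    have h := List.all_eq_true.1 hsq a (List.mem_range.2 ha)
    simp only [Bool.and_eq_true, Bool.or_eq_true, beq_true, List.all_eq_true, List.mem_range,
      Bool.not_eq_true'] at h
    refine ⟨fun hm b hb hmb => ?_, h.2.1, h.2.2.imp_right fun h' e => ?_⟩
    · rcases h.1 with h' | h'
      · rw [hm] at h'; exact absurd h' (by decide)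
      rcases h'.2 b hb with (h'' | h'') | h''
      · rw [hmb] at h''; exact absurd h'' (by decide)
      · exact Or.inl h''
      · exact Or.inr h''
    · rw [e, Nat.beq_refl] at h'; exact absurd h' (by decide)
  haveI : IsMulCommutative A := by
    refine ⟨⟨fun x y => Subtype.ext ?_⟩⟩
    obtain ⟨a, ha, hxa⟩ := x.2
    obtain ⟨b, hb, hyb⟩ := y.2
    obtain ⟨a', ha', rfl⟩ := D.F.surj a (D.F.Q_le ha)
    obtain ⟨b', hb', rfl⟩ := D.F.surj b (D.F.Q_le hb)
    show (x : Y ⧸ zpowers z) * y = y * x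
    rw [← hxa, ← hyb, ← map_mul, ← map_mul, D.F.mul _ ha' _ hb', D.F.mul _ hb' _ ha']
    rcases (hspec a' ha').1 ((D.F.mem_sub closed_q ha').1 ha) b' hb'
      ((D.F.mem_sub closed_q hb').1 hb) with e | e
    · rw [e]
    · rw [e, ← D.F.mul _ (mt_lt _ _) _ (by decide), map_mul]
      show q (D.F.p (mt b' a')) * q z = _
      rw [show q z = 1 from (QuotientGroup.eq_one_iff _).2 (mem_zpowers z), mul_one]
  let m₀ := maskOf [0, 2, 20, 22, 64, 66, 84, 86]
  have hcl : closedOK m₀ = true := by decide +kernel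
  let H := D.F.sub m₀
  have hzH : zpowers z ≤ H := zpowers_le.2 ((D.F.mem_sub hcl (by decide)).2 (by decide +kernel))
  let S' : Sylow 2 (Y ⧸ zpowers z) := Sylow.mapSurjective hqs D.S
  have hcard : ∀ W : Subgroup Y, zpowers z ≤ W → Nat.card W = Nat.card (W.map q) * 2 := by
    intro W hW
    let ψ : ↥W →* Y ⧸ zpowers z := q.comp W.subtype
    have hk : ψ.ker = (zpowers z).subgroupOf W := by rw [← MonoidHom.comap_ker, hker]; rfl
    rw [card_eq_card_quotient_mul_card_subgroup ψ.ker,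
      Nat.card_congr (QuotientGroup.quotientKerEquivRange ψ).toEquiv, hk,
      Nat.card_congr (subgroupOfEquivOfLe hW).toEquiv, Nat.card_zpowers, D.F.orderOf_z,
      MonoidHom.range_comp, range_subtype]
  have hHA : H.map q ⊓ A = ⊥ := by
    rw [eq_bot_iff]
    rintro x ⟨⟨h, hh, rfl⟩, a, ha, e⟩
    rw [mem_bot, ← MonoidHom.mem_ker, hker]
    have hhQ : h ∈ D.F.Q := by
      have : a⁻¹ * h ∈ zpowers z := by rw [← hker, MonoidHom.mem_ker, map_mul, map_inv, e, inv_mul_cancel]
      have := mul_mem ha (hzQ this)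
      rwa [mul_inv_cancel_left] at this
    obtain ⟨d, hd, rfl⟩ := D.F.surj h (D.F.sub_le _ hh)
    have hc : ((List.range 128).all fun d =>
        !mem m₀ d || !mem qMask d || Nat.beq d 0 || Nat.beq d zIdx) = true := by decide +kernel
    have h' := List.all_eq_true.1 hc d (List.mem_range.2 hd)
    rw [(D.F.mem_sub hcl hd).1 hh, (D.F.mem_sub closed_q hd).1 hhQ] at h'
    simp only [Bool.not_true, Bool.false_or, Bool.or_eq_true, beq_true] at h'
    rcases h' with rfl | rfl
    · rw [D.F.p_zero]; exact one_mem _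
    · exact mem_zpowers z
  have hle : A ⊔ H.map q ≤ (S' : Subgroup (Y ⧸ zpowers z)) :=
    sup_le (map_mono D.F.Q_le) (map_mono (D.F.sub_le _))
  have hsup : A ⊔ H.map q = (S' : Subgroup (Y ⧸ zpowers z)) := by
    refine eq_of_le_of_card_ge hle ?_
    have h1 := hcard _ hzQ
    have h2 := hcard _ hzH
    have h3 := hcard _ (hzQ.trans D.F.Q_le)
    rw [D.F.card_T] at h3
    rw [hQ32] at h1
    rw [D.F.card_sub hcl, show (elems m₀).length = 8 by decide +kernel] at h2
    have h4 : Nat.card ↥(A ⊔ H.map q) ≥ Nat.card A * Nat.card (H.map q) := by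
      rw [ge_iff_le, ← Nat.card_prod]
      refine Nat.card_le_card_of_injective (fun x : A × H.map q =>
        (⟨(x.1 : Y ⧸ zpowers z) * x.2, mul_mem_sup x.1.2 x.2.2⟩ : ↥(A ⊔ H.map q))) fun x y h => ?_
      have h' : (x.1 : Y ⧸ zpowers z) * x.2 = y.1 * y.2 := congrArg Subtype.val h
      have e : (y.1 : Y ⧸ zpowers z)⁻¹ * x.1 = y.2 * (x.2 : Y ⧸ zpowers z)⁻¹ := by
        rw [eq_mul_inv_iff_mul_eq, mul_assoc, h', inv_mul_cancel_left]
      have hin : (y.1 : Y ⧸ zpowers z)⁻¹ * x.1 ∈ H.map q ⊓ A :=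
        mem_inf.2 ⟨e ▸ mul_mem y.2.2 (inv_mem x.2.2), mul_mem (inv_mem y.1.2) x.1.2⟩
      rw [hHA, mem_bot] at hin
      have e1 : (x.1 : Y ⧸ zpowers z) = y.1 := (inv_mul_eq_one.1 hin).symm
      rw [e1] at h'
      exact Prod.ext (Subtype.ext e1) (Subtype.ext (mul_left_cancel h'))
    show Nat.card ↥((D.S : Subgroup Y).map q) ≤ _
    rw [show Nat.card A = 16 by show Nat.card (D.F.Q.map q) = 16; omega,
      show Nat.card ↥(H.map q) = 4 by omega] at h4
    omega
  have hA16 : Nat.card A = 16 := by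
    have := hcard _ hzQ; rw [hQ32] at this
    show Nat.card (D.F.Q.map q) = 16
    omega
  obtain ⟨R₀, hR₀⟩ := Solvable.gaschutz_exists (K := A) (U := (S' : Subgroup (Y ⧸ zpowers z)))
    (A := H.map q) (le_sup_left.trans hsup.le)
    (by
      rw [hA16, show 16 = 2 ^ 4 by norm_num]
      exact Nat.Coprime.pow_left 4
        ((Nat.Prime.coprime_iff_not_dvd Nat.prime_two).2 S'.not_dvd_index))
    hHA hsup
  let R := R₀.comap q
  have hzR : z ∈ R := by
    show q z ∈ R₀
    rw [show q z = 1 from (QuotientGroup.eq_one_iff _).2 (mem_zpowers z)]; exact one_mem _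
  have hRQ : ∀ x ∈ R, x ∈ D.F.Q → x ∈ zpowers z := by
    intro x hx hxQ
    have h : q x ∈ A ⊓ R₀ := ⟨⟨x, hxQ, rfl⟩, hx⟩
    rw [hR₀.disjoint.eq_bot, mem_bot, ← MonoidHom.mem_ker, hker] at h
    exact h
  have hX : Nat.card (Y ⧸ zpowers z) = 960 := by
    have := card_eq_card_quotient_mul_card_subgroup (zpowers z)
    rw [hY, Nat.card_zpowers, D.F.orderOf_z] at this; omega
  have hR120 : Nat.card R = 120 := by
    have h1 := hR₀.card_mul
    rw [hA16, hX] at h1
    have h2 := hcard R (zpowers_le.2 hzR)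
    rw [map_comap_eq_self_of_surjective hqs] at h2
    omega
  let z' : ↥R := ⟨z, hzR⟩
  haveI : (zpowers z').Normal := ⟨fun n hn g => by
    obtain ⟨k, hk⟩ := mem_zpowers_iff.1 hn
    have hc : Commute g z' := Subtype.ext (D.hz (g : Y))
    rw [← hk, (hc.zpow_right k).eq, mul_inv_cancel_right]
    exact zpow_mem (mem_zpowers z') k⟩
  obtain ⟨P⟩ : Nonempty (Sylow 2 ↥R) := inferInstance
  have hexp : ∀ x : ↥(P : Subgroup ↥R), x * x = 1 := by
    obtain ⟨W, hW⟩ := (P.2.map R.subtype).exists_le_sylow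
    obtain ⟨y, hy⟩ := MulAction.exists_smul_eq Y W D.S
    intro x
    set w := y * ((x : ↥R) : Y) * y⁻¹ with hw
    have hwS : w ∈ (D.S : Subgroup Y) := by
      rw [← hy]; exact ⟨_, hW ⟨_, x.2, rfl⟩, rfl⟩
    obtain ⟨d, hd, hdw⟩ := D.F.surj w hwS
    have hww : w * w ∈ D.F.Q := by
      rw [← hdw, D.F.mul d hd d hd, D.F.mem_sub closed_q (mt_lt _ _)]; exact (hspec d hd).2.1
    have hQc : ∀ g ∈ D.F.Q, y⁻¹ * g * y ∈ D.F.Q := fun g hg => by
      simpa using hQn.conj_mem g hg y⁻¹
    have hxx : ((x : ↥R) : Y) * ((x : ↥R) : Y) ∈ zpowers z := by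
      refine hRQ _ (mul_mem (x : ↥R).2 (x : ↥R).2) ?_
      have := hQc _ hww
      rwa [show y⁻¹ * (w * w) * y = ((x : ↥R) : Y) * ((x : ↥R) : Y) by rw [hw]; group] at this
    refine Subtype.ext (Subtype.ext ?_)
    show ((x : ↥R) : Y) * ((x : ↥R) : Y) = 1
    refine (D.mem_zpowers_cases hxx).resolve_right fun e => ?_
    have hwz : w * w = z := by
      rw [hw, show y * ((x : ↥R) : Y) * y⁻¹ * (y * ((x : ↥R) : Y) * y⁻¹) =
        y * (((x : ↥R) : Y) * ((x : ↥R) : Y)) * y⁻¹ by group, e, D.hz, mul_inv_cancel_right]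
    have hz1 : w * w = D.F.p zIdx := hwz
    rw [← hdw, D.F.mul d hd d hd] at hz1
    rcases (hspec d hd).2.2 with h | h
    · have hxQ : ((x : ↥R) : Y) ∈ D.F.Q := by
        have := hQc _ ((D.F.mem_sub closed_q hd).2 h)
        rwa [hdw, show y⁻¹ * w * y = ((x : ↥R) : Y) by rw [hw]; group] at this
      rcases D.mem_zpowers_cases (hRQ _ (x : ↥R).2 hxQ) with e' | e' <;> rw [e'] at e
      · rw [one_mul] at e; exact D.F.z_ne_one e.symm
      · rw [D.F.z_sq] at e; exact D.F.z_ne_one e.symm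
    · exact h (D.F.inj _ (mt_lt _ _) _ (by decide) hz1)
  have hzP : z' ∈ (P : Subgroup ↥R) := by
    refine Solvable.normal_pgroup_le_sylow (N := zpowers z') ?_ P (mem_zpowers z')
    refine IsPGroup.of_card (n := 1) ?_
    rw [Nat.card_zpowers, ← Subgroup.orderOf_coe, D.F.orderOf_z, pow_one]
  obtain ⟨M, hM1, hM2⟩ := exists_avoiding hexp (z := ⟨z', hzP⟩) fun h =>
    D.F.z_ne_one (congrArg (fun w : ↥(P : Subgroup ↥R) => ((w : ↥R) : Y)) h)
  have hmap : (zpowers (⟨z', hzP⟩ : ↥(P : Subgroup ↥R))).map (P : Subgroup ↥R).subtype =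
      zpowers z' := by rw [MonoidHom.map_zpowers]; rfl
  obtain ⟨K, hK⟩ := Solvable.gaschutz_exists (K := zpowers z') (U := (P : Subgroup ↥R))
    (A := M.map (P : Subgroup ↥R).subtype) (zpowers_le.2 hzP)
    (by
      rw [Nat.card_zpowers, ← Subgroup.orderOf_coe, D.F.orderOf_z]
      exact (Nat.Prime.coprime_iff_not_dvd Nat.prime_two).2 P.not_dvd_index)
    (by rw [← hmap, ← map_inf _ _ _ (subtype_injective _), hM1, Subgroup.map_bot])
    (by rw [← hmap, ← Subgroup.map_sup, hM2, ← MonoidHom.range_eq_map, range_subtype])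
  refine ⟨K.map R.subtype, isComplement'_of_card_mul_and_disjoint ?_ (disjoint_iff.2 ?_)⟩
  · rw [hQ32, card_map_of_injective R.subtype_injective, hY]
    have h := hK.card_mul
    rw [Nat.card_zpowers, ← Subgroup.orderOf_coe, D.F.orderOf_z, hR120] at h
    omega
  · rw [eq_bot_iff]
    rintro x ⟨hxQ, k, hk, rfl⟩
    rw [mem_bot]
    have h1 : k ∈ zpowers z' ⊓ K := by
      refine ⟨?_, hk⟩
      rcases D.mem_zpowers_cases (hRQ _ k.2 hxQ) with e | e
      · rw [show k = 1 from Subtype.ext e]; exact one_mem _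
      · rw [show k = z' from Subtype.ext e]; exact mem_zpowers _
    rw [hK.disjoint.eq_bot, mem_bot] at h1
    rw [h1]; rfl

end CfsgLib.SylJanko
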