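import Cfsg.Agent.Lib.SylJanko.Code

/-!
Witnesses that the subgroups through the central involution, four excepted, are not essential.
-/

set_option autoImplicit false
set_option maxRecDepth 100000

namespace CfsgLib.SylJanko

/-- The witnesses. -/
def witList : List Wit := [
  .notCentric 1,
  .notCentric 12,
  .notCentric 20,
  .notCentric 26,
  .notCentric 1,
  .notCentric 1,
  .notCentric 1,
  .notCentric 1,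
  .notCentric 2,
  .notCentric 2,
  .notCentric 4,
  .notCentric 1,
  .notCentric 1,
  .notCentric 4,
  .notCentric 2,
  .notCentric 12,
  .notCentric 2,
  .notCentric 4,
  .notCentric 6,
  .notCentric 12,
  .notCentric 5,
  .notCentric 13,
  .notCentric 2,
  .notCentric 2,
  .notCentric 4,
  .notCentric 3,
  .notCentric 13,
  .notCentric 4,
  .stab 16 [.ord2 0] [1, 2, 0],
  .stab 12 [.ord2 0] [1, 2, 0],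
  .stab 12 [.ord2 0] [1, 2, 0],
  .notCentric 12,
  .notCentric 12,
  .notCentric 13,
  .notCentric 13,
  .notCentric 32,
  .notCentric 32,
  .notCentric 20,
  .notCentric 20,
  .notCentric 32,
  .stab 1 [.sq 0, .ord2 0] [1, 3, 2, 0],
  .notCentric 32,
  .notCentric 30,
  .notCentric 26,
  .notCentric 26,
  .notCentric 32,
  .stab 1 [.sq 0, .ord2 0] [1, 3, 2, 0],
  .notCentric 10,
  .stab 17 [.sq 0, .ord2 0] [1, 3, 2, 0],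
  .notCentric 16,
  .stab 4 [.sq 0, .ord2 0] [1, 3, 2, 0],
  .notCentric 6,
  .notCentric 1,
  .notCentric 1,
  .notCentric 32,
  .notCentric 6,
  .stab 1 [.sq 0] [1, 2, 0],
  .stab 7 [.sq 0] [1, 2, 0],
  .notCentric 13,
  .notCentric 13,
  .notCentric 32,
  .notCentric 1,
  .notCentric 1,
  .notCentric 12,
  .notCentric 12,
  .stab 1 [.sq 0] [1, 2, 0],
  .stab 1 [.sq 0] [1, 2, 0],
  .notCentric 18,
  .stab 2 [.sq 0, .ord2 0] [1, 3, 2, 0],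
  .notCentric 8,
  .stab 1 [.sq 0] [1, 2, 0],
  .notCentric 32,
  .stab 4 [.sq 0, .ord2 0] [1, 3, 2, 0],
  .notCentric 17,
  .notCentric 17,
  .notCentric 16,
  .notCentric 16,
  .stab 1 [.sq 0] [1, 2, 0],
  .stab 1 [.sq 0] [1, 2, 0],
  .notCentric 14,
  .notCentric 2,
  .notCentric 2,
  .notCentric 32,
  .stab 1 [.sq 0, .ord2 0] [1, 3, 2, 0],
  .notCentric 2,
  .notCentric 2,
  .notCentric 32,
  .stab 1 [.sq 0, .ord2 0] [1, 3, 2, 0],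
  .notCentric 8,
  .notCentric 4,
  .notCentric 4,
  .notCentric 32,
  .stab 1 [.sq 0, .ord2 0] [1, 3, 2, 0],
  .notCentric 14,
  .stab 1 [.sq 0] [1, 2, 0],
  .notCentric 32,
  .notCentric 29,
  .notCentric 29,
  .stab 2 [.sq 0, .ord2 0] [1, 3, 2, 0],
  .notCentric 28,
  .notCentric 28,
  .stab 1 [.sq 0] [1, 2, 0],
  .stab 1 [.sq 0] [1, 2, 0],
  .notCentric 4,
  .notCentric 32,
  .stab 1 [.sq 0, .ord2 0] [1, 3, 2, 0],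
  .notCentric 4,
  .stab 28 [.sq 0] [1, 2, 0],
  .stab 16 [.sq 0] [1, 2, 0],
  .stab 32 [.sq 0] [1, 2, 0],
  .stab 16 [.sq 0] [1, 2, 0],
  .stab 16 [.sq 0] [1, 2, 0],
  .stab 12 [.sq 0] [1, 2, 0],
  .stab 12 [.sq 0] [1, 2, 0],
  .stab 4 [.sq 0, .cen 0] [1, 3, 2, 0],
  .stab 12 [.sq 0] [1, 2, 0],
  .stab 12 [.sq 0] [1, 2, 0],
  .stab 12 [.sq 0] [1, 2, 0],
  .stab 12 [.sq 0] [1, 2, 0],
  .stab 2 [.sq 0, .cen 0] [1, 3, 2, 0],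
  .stab 8 [.cen 0] [1, 2, 0],
  .stab 4 [.cen 0] [1, 2, 0],
  .stab 4 [.cen 0] [1, 2, 0],
  .stab 15 [.sq 0] [1, 2, 0],
  .stab 13 [.sq 0, .cen 0] [1, 3, 2, 0],
  .stab 4 [.cen 0] [1, 2, 0],
  .candidate,
  .stab 4 [.cen 0] [1, 2, 0],
  .stab 4 [.cen 0] [1, 2, 0],
  .stab 1 [.sq 0, .cen 0] [1, 3, 2, 0],
  .stab 12 [.ord2 0] [1, 2, 0],
  .stab 1 [.sq 0, .cen 0] [1, 3, 2, 0],
  .stab 2 [.cen 0] [1, 2, 0],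
  .stab 13 [.sq 0, .cen 0] [1, 3, 2, 0],
  .stab 2 [.cen 0] [1, 2, 0],
  .stab 9 [.sq 0] [1, 2, 0],
  .stab 2 [.cen 0] [1, 2, 0],
  .stab 1 [.sq 0, .cen 0] [1, 3, 2, 0],
  .stab 2 [.cen 0] [1, 2, 0],
  .stab 2 [.cen 0] [1, 2, 0],
  .candidate,
  .stab 12 [.ord2 0] [1, 2, 0],
  .stab 1 [.sq 0, .cen 0] [1, 3, 2, 0],
  .stab 2 [.cen 0] [1, 2, 0],
  .stab 2 [.sq 0] [1, 2, 0],
  .stab 2 [.ord2 0] [1, 2, 0],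
  .stab 2 [.ord2 0] [1, 2, 0],
  .stab 2 [.cen 0] [1, 2, 0],
  .stab 2 [.cen 0] [1, 2, 0],
  .stab 32 [.ord2 0] [1, 2, 0],
  .stab 17 [.sq 0, .cen 0] [1, 3, 2, 0],
  .stab 16 [.ord2 0] [1, 2, 0],
  .stab 2 [.sq 0] [1, 2, 0],
  .stab 2 [.cen 0] [1, 2, 0],
  .stab 2 [.ord2 0] [1, 2, 0],
  .stab 2 [.cen 0] [1, 2, 0],
  .stab 32 [.ord2 0] [1, 2, 0],
  .stab 12 [.ord2 0] [1, 2, 0],
  .stab 2 [.cen 0] [1, 2, 0],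
  .stab 2 [.cen 0] [1, 2, 0],
  .stab 2 [.cen 0] [1, 2, 0],
  .stab 2 [.ord2 0] [1, 2, 0],
  .stab 1 [.sq 0] [1, 2, 0],
  .stab 1 [.sq 0] [1, 2, 0],
  .stab 7 [.sq 0] [1, 2, 0],
  .stab 1 [.sq 0] [1, 2, 0],
  .stab 1 [.sq 0] [1, 2, 0],
  .stab 2 [.cen 0] [1, 2, 0],
  .stab 2 [.ord2 0] [1, 2, 0],
  .stab 2 [.cen 0] [1, 2, 0],
  .stab 16 [.ord2 0] [1, 2, 0],
  .stab 7 [.sq 0] [1, 2, 0],
  .stab 32 [.ord2 0] [1, 2, 0],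
  .stab 1 [.sq 0] [1, 2, 0],
  .stab 1 [.sq 0] [1, 2, 0],
  .stab 1 [.sq 0] [1, 2, 0],
  .stab 1 [.sq 0] [1, 2, 0],
  .stab 1 [.sq 0, .cen 0] [1, 3, 2, 0],
  .stab 1 [.sq 0, .cen 0] [1, 3, 2, 0],
  .stab 2 [.cen 0] [1, 2, 0],
  .stab 2 [.sq 0] [1, 2, 0],
  .stab 2 [.cen 0] [1, 2, 0],
  .stab 2 [.ord2 0] [1, 2, 0],
  .stab 12 [.ord2 0] [1, 2, 0],
  .stab 4 [.sq 0, .cen 0] [1, 3, 2, 0],
  .stab 2 [.sq 0, .cen 0] [1, 3, 2, 0],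
  .stab 12 [.sq 0, .cen 2, .ord2 3] [1, 4, 0],
  .stab 8 [.sq 0, .ord2 0, .cen 2, .mul 3 2, .inter 5 4] [1, 6, 0],
  .stab 16 [.sq 0, .ord2 2] [1, 3, 0],
  .stab 4 [.sq 0, .cen 2, .ord2 2] [1, 4, 3, 0],
  .candidate,
  .stab 6 [.sq 0, .ord2 0, .cen 2, .mul 3 2, .inter 5 4] [1, 6, 0],
  .stab 2 [.sq 0, .cen 2, .ord2 2] [1, 4, 3, 0],
  .stab 16 [.sq 0] [1, 2, 0],
  .stab 8 [.sq 0] [1, 2, 0],
  .stab 8 [.sq 0] [1, 2, 0],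
  .stab 4 [.sq 0] [1, 2, 0],
  .stab 4 [.sq 0] [1, 2, 0],
  .stab 4 [.sq 0] [1, 2, 0],
  .stab 4 [.sq 0] [1, 2, 0],
  .stab 1 [.sq 0, .ord2 0, .cen 2, .mul 3 2, .inter 5 4] [1, 2, 6, 0],
  .stab 1 [.sq 0, .cen 0] [1, 3, 2, 0],
  .stab 1 [.sq 0, .ord2 0, .sq 2, .mul 3 2] [1, 4, 5, 0],
  .stab 2 [.sq 0] [1, 2, 0],
  .stab 2 [.sq 0] [1, 2, 0],
  .stab 1 [.sq 0, .ord2 0, .cen 2, .mul 3 2, .inter 5 4] [1, 2, 6, 0],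
  .stab 2 [.sq 0] [1, 2, 0],
  .stab 2 [.sq 0] [1, 2, 0],
  .stab 1 [.sq 0, .ord2 0, .sq 2, .mul 3 2] [1, 4, 5, 0],
  .stab 1 [.sq 0, .cen 0] [1, 3, 2, 0],
  .stab 2 [.sq 0] [1, 2, 0],
  .stab 2 [.sq 0] [1, 2, 0],
  .stab 2 [.sq 0] [1, 2, 0],
  .stab 1 [.sq 0, .ord2 0, .sq 2, .mul 3 2] [1, 4, 5, 0],
  .stab 2 [.sq 0] [1, 2, 0],
  .stab 1 [.sq 0, .cen 0] [1, 3, 2, 0],
  .stab 1 [.sq 0, .ord2 0, .cen 2, .mul 3 2, .inter 5 4] [1, 2, 6, 0],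
  .stab 4 [.sq 0, .ord2 2, .cen 3] [1, 3, 4, 0],
  .stab 2 [.sq 0, .ord2 2, .cen 3] [1, 3, 4, 0],
  .stab 2 [.sq 0, .ord2 2, .cen 3] [1, 3, 4, 0],
  .candidate,
  .stab 1 [.sq 0, .cen 0, .mul 2 2] [1, 3, 4, 0],
  .stab 1 [.sq 0, .cen 0, .mul 2 2] [1, 3, 4, 0],
  .stab 1 [.sq 0, .cen 0, .mul 2 2] [1, 3, 4, 0],
  .whole]

end CfsgLib.SylJanko
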