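import Cfsg.Agent.Lib.SylJanko.Labels

/-!
When the involution is central the automorphisms of the two elementary abelian candidates preserve
their intersection with the extraspecial subgroup.
-/

set_option autoImplicit false
set_option maxRecDepth 100000
set_option linter.style.haveILetI false

namespace CfsgLib.SylJanko

open Subgroup

universe u

/-- The elements of the elementary subgroups in coordinates. -/
def eList (i : Fin 2) : List ℕ :=
  if i = 0 then [0, 64, 32, 96, 2, 66, 34, 98, 20, 84, 52, 116, 22, 86, 54, 118]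
  else [0, 64, 32, 96, 4, 68, 36, 100, 26, 90, 58, 122, 62, 126, 30, 94]

/-- An element in coordinates. -/
def eAt (i : Fin 2) (v : Fin 16) : ℕ := (eList i).getD v 0

/-- Representatives of the automizer in the Sylow subgroup. -/
def eReps (i : Fin 2) : List ℕ := if i = 0 then [0, 4, 8, 12] else [0, 2, 8, 10]

/-- The linear map with given images. -/
def lin (a b c : Fin 16) (x : Fin 16) : Fin 16 :=
  (if (x : ℕ).testBit 0 then 1 else 0) ^^^ (if (x : ℕ).testBit 1 then a else 0) ^^^
    (if (x : ℕ).testBit 2 then b else 0) ^^^ (if (x : ℕ).testBit 3 then c else 0)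

/-- The action of a Sylow element in coordinates. -/
def uAct (i : Fin 2) (d : ℕ) (x : Fin 16) : Fin 16 :=
  ((List.finRange 16).find? fun y => Nat.beq (eAt i y) (cj d (eAt i x))).getD 0

/-- Two conjugates of the four-group with distinct fixed lines give an action of order four. -/
theorem order_four : ∀ i : Fin 2, ∀ a b c : Fin 16, a ≠ 2 →
    (∀ x, lin a b c (lin a b c x) = x) → ∃ d ∈ eReps i,
      (∃ x, uAct i d (lin a b c (uAct i d (lin a b c x))) ≠ x) ∧
      ∀ x, uAct i d (lin a b c (uAct i d (lin a b c (uAct i d (lin a b c (uAct i d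
        (lin a b c x))))))) = x := by
  decide +kernel

theorem eAt_injective : ∀ i : Fin 2, ∀ v w : Fin 16, eAt i v = eAt i w → v = w := by decide +kernel

theorem eAt_zero : ∀ i : Fin 2, eAt i 0 = 0 := by decide +kernel

theorem eAt_one : ∀ i : Fin 2, eAt i 1 = zIdx := by decide +kernel

theorem eReps_spec : ∀ i : Fin 2, ∀ d ∈ eReps i, ∀ v : Fin 16,
    cj d (eAt i v) = eAt i (uAct i d v) := by decide +kernel

theorem eReps_lt : ∀ i : Fin 2, ∀ d ∈ eReps i, d < 128 := by decide +kernel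

theorem eReps_mem : ∀ i : Fin 2, (eReps i).getD 1 0 ∈ eReps i := by decide +kernel

theorem eReps_fix : ∀ i : Fin 2, ∀ x : Fin 16,
    uAct i ((eReps i).getD 1 0) x = x ↔ x.val < 4 := by decide +kernel

theorem small_cases : ∀ w : Fin 16, w.val < 4 → w = 0 ∨ w = 1 ∨ w = 2 ∨ w = 3 := by decide +kernel

theorem xor_eq_two : ∀ w : Fin 16, w ^^^ 1 = 2 → w = 3 := by decide +kernel

variable {G : Type u} [Group G] {T : Subgroup G} (F : Frame T)

namespace Frame

theorem eAt_lt (i : Fin 2) (v : Fin 16) : eAt i v < 128 := by revert i v; decide +kernel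

theorem mem_E {i : Fin 2} {x : G} : x ∈ F.sub (eMask i) ↔ ∃ v, F.p (eAt i v) = x := by
  rw [← SetLike.mem_coe, F.coe_sub (closed_e i)]
  constructor
  · rintro ⟨d, hd, hm, rfl⟩
    have h : ((List.range 128).all fun d =>
        (List.finRange 2).all fun i => !mem (eMask i) d ||
          (List.finRange 16).any fun v => Nat.beq (eAt i v) d) = true := by decide +kernel
    have := List.all_eq_true.1 (List.all_eq_true.1 h d (List.mem_range.2 hd)) i (List.mem_finRange i)
    rw [hm] at this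
    simp only [Bool.not_true, Bool.false_or, List.any_eq_true, List.mem_finRange, true_and,
      beq_true] at this
    obtain ⟨v, hv⟩ := this
    exact ⟨v, by rw [hv]⟩
  · rintro ⟨v, rfl⟩
    refine ⟨_, eAt_lt i v, ?_, rfl⟩
    revert i v; decide +kernel

theorem eAt_inj {i : Fin 2} {v w : Fin 16} (h : F.p (eAt i v) = F.p (eAt i w)) : v = w := by
  exact eAt_injective i v w (F.inj _ (eAt_lt i v) _ (eAt_lt i w) h)

theorem eAt_mul (i : Fin 2) (v w : Fin 16) :
    F.p (eAt i v) * F.p (eAt i w) = F.p (eAt i (v ^^^ w)) := by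
  rw [F.mul _ (eAt_lt i v) _ (eAt_lt i w)]
  congr 1
  revert i v w; decide +kernel

variable (i : Fin 2)

/-- The action in coordinates. -/
noncomputable def eAct (n : ↥(normalizer (F.sub (eMask i) : Set G))) (v : Fin 16) : Fin 16 :=
  Classical.choose (F.mem_E.1 ((mem_normalizer_iff.1 n.2 _).1 (F.mem_E.2 ⟨v, rfl⟩)))

theorem eAct_spec (n : ↥(normalizer (F.sub (eMask i) : Set G))) (v : Fin 16) :
    F.p (eAt i (F.eAct i n v)) = (n : G) * F.p (eAt i v) * (n : G)⁻¹ :=
  Classical.choose_spec (F.mem_E.1 ((mem_normalizer_iff.1 n.2 _).1 (F.mem_E.2 ⟨v, rfl⟩)))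

theorem eAct_mul (m n : ↥(normalizer (F.sub (eMask i) : Set G))) (v : Fin 16) :
    F.eAct i (m * n) v = F.eAct i m (F.eAct i n v) := by
  refine F.eAt_inj (i := i) ?_
  rw [F.eAct_spec, F.eAct_spec, F.eAct_spec, coe_mul]; group

theorem eAct_one (v : Fin 16) : F.eAct i 1 v = v := by
  refine F.eAt_inj (i := i) ?_
  rw [F.eAct_spec]; simp

theorem eAct_xor (n : ↥(normalizer (F.sub (eMask i) : Set G))) (v w : Fin 16) :
    F.eAct i n (v ^^^ w) = F.eAct i n v ^^^ F.eAct i n w := by
  refine F.eAt_inj (i := i) ?_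
  rw [F.eAct_spec, ← F.eAt_mul, ← F.eAt_mul, F.eAct_spec, F.eAct_spec]; group

theorem eAct_eq_lin (n : ↥(normalizer (F.sub (eMask i) : Set G))) (h1 : F.eAct i n 1 = 1)
    (v : Fin 16) : F.eAct i n v = lin (F.eAct i n 2) (F.eAct i n 4) (F.eAct i n 8) v := by
  have h0 : F.eAct i n 0 = 0 := by
    refine F.eAt_inj (i := i) ?_
    rw [F.eAct_spec, eAt_zero i, F.p_zero, mul_one, mul_inv_cancel]
  have hv : v = (if (v : ℕ).testBit 0 then 1 else 0) ^^^ (if (v : ℕ).testBit 1 then 2 else 0) ^^^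
      (if (v : ℕ).testBit 2 then 4 else 0) ^^^ (if (v : ℕ).testBit 3 then 8 else 0) := by
    revert v; decide +kernel
  conv_lhs => rw [hv]
  simp only [eAct_xor, apply_ite (F.eAct i n), h0, h1, lin]

theorem p_mem_normalizer_E {d : ℕ} (hd : d ∈ eReps i) :
    d < 128 ∧ F.p d ∈ normalizer (F.sub (eMask i) : Set G) := by
  have hd128 : d < 128 := eReps_lt i d hd
  refine ⟨hd128, ?_⟩
  haveI : Finite (F.sub (eMask i) : Set G) :=
    Finite.of_surjective (fun v : Fin 16 => (⟨_, F.mem_E.2 ⟨v, rfl⟩⟩ : ↥(F.sub (eMask i))))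
      fun x => by
        obtain ⟨v, hv⟩ := F.mem_E.1 x.2
        exact ⟨v, Subtype.ext hv⟩
  refine mem_normalizer_fintype fun y hy => ?_
  obtain ⟨v, rfl⟩ := F.mem_E.1 hy
  rw [F.p_conj hd128 (eAt_lt i v)]
  exact F.mem_E.2 ⟨uAct i d v, congrArg F.p (eReps_spec i d hd v).symm⟩

theorem eAct_p {d : ℕ} (hd : d ∈ eReps i) (v : Fin 16) :
    F.eAct i ⟨F.p d, (F.p_mem_normalizer_E i hd).2⟩ v = uAct i d v := by
  refine F.eAt_inj (i := i) ?_
  rw [F.eAct_spec]
  show F.p d * _ * (F.p d)⁻¹ = _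
  rw [F.p_conj (F.p_mem_normalizer_E i hd).1 (eAt_lt i v)]
  exact congrArg F.p (eReps_spec i d hd v)

theorem sq_trivial_T {n : ↥(normalizer (F.sub (eMask i) : Set G))} (hn : (n : G) ∈ T)
    (v : Fin 16) : F.eAct i (n * n) v = v := by
  refine F.eAt_inj (i := i) ?_
  rw [F.eAct_spec, coe_mul]
  obtain ⟨d, hd, hdn⟩ := F.surj _ hn
  rw [← hdn, F.mul d hd d hd, F.p_conj (mt_lt d d) (eAt_lt i v)]
  refine congrArg F.p ?_
  have hnorm : ∀ w : Fin 16, ∃ w' : Fin 16, cj d (eAt i w) = eAt i w' := fun w => by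
    have := (mem_normalizer_iff.1 n.2 _).1 (F.mem_E.2 ⟨w, rfl⟩)
    rw [← hdn, F.p_conj hd (eAt_lt i w)] at this
    obtain ⟨w', hw'⟩ := F.mem_E.1 this
    exact ⟨w', (F.inj _ (eAt_lt i w') _ (mt_lt _ _) hw').symm⟩
  have key : ∀ i : Fin 2, ((List.range 128).all fun d =>
      ((List.finRange 16).any fun w => (List.finRange 16).all fun w' =>
        !Nat.beq (cj d (eAt i w)) (eAt i w')) ||
      (List.finRange 16).all fun w => Nat.beq (cj (mt d d) (eAt i w)) (eAt i w)) = true := by
    decide +kernel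
  have := List.all_eq_true.1 (key i) d (List.mem_range.2 hd)
  simp only [Bool.or_eq_true, List.any_eq_true, List.all_eq_true, List.mem_finRange, true_and,
    true_implies, Bool.not_eq_true', beq_true] at this
  rcases this with ⟨w, hw⟩ | h
  · obtain ⟨w', hw'⟩ := hnorm w
    have := hw w'; rw [hw'] at this; simp at this
  · exact h v

end Frame

/-- An element normalizing `E` fixes its intersection with `Q` when the involution is central. -/
theorem eAct_two [Finite G] (S : Sylow 2 G) (F : Frame (S : Subgroup G))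
    (hz : ∀ g : G, g * F.z = F.z * g) (i : Fin 2)
    (hfn : (Cfsg.groupFusionSystem (S : Subgroup G)).IsFullyNormalized (F.sub (eMask i)))
    (g : ↥(normalizer (F.sub (eMask i) : Set G))) :
    F.eAct i g 2 = 2 ∨ F.eAct i g 2 = 3 := by
  haveI : Fact (Nat.Prime 2) := ⟨Nat.prime_two⟩
  have hone : ∀ n : ↥(normalizer (F.sub (eMask i) : Set G)), F.eAct i n 1 = 1 := fun n => by
    refine F.eAt_inj (i := i) ?_
    rw [F.eAct_spec, eAt_one i]
    show (n : G) * F.z * (n : G)⁻¹ = F.z
    rw [hz, mul_inv_cancel_right]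
  -- a fourth power acting trivially forces the square to act trivially
  have key : ∀ n : ↥(normalizer (F.sub (eMask i) : Set G)), (∀ v, F.eAct i (n ^ 4) v = v) → ∀ v, F.eAct i (n ^ 2) v = v := by
    intro n hn4
    obtain ⟨e, o, ho, hcard⟩ := Nat.exists_eq_two_pow_mul_odd (orderOf_pos n).ne'
    obtain ⟨k, rfl⟩ := ho
    have hP : IsPGroup 2 (zpowers (n ^ (2 * k + 1))) := IsPGroup.of_card (n := e) (by
      rw [Nat.card_zpowers, orderOf_pow_of_dvd (by omega) (hcard ▸ dvd_mul_left _ _), hcard,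
        Nat.mul_div_cancel _ (by omega)])
    obtain ⟨W, hWeq⟩ := (Fusion.group_fullyNormalized_iff S (F.sub_le _)).1 hfn
    obtain ⟨Q, hQ⟩ := hP.exists_le_sylow
    obtain ⟨h, hh⟩ := MulAction.exists_smul_eq ↥(normalizer (F.sub (eMask i) : Set G)) Q W
    have hmem : ((h * n ^ (2 * k + 1) * h⁻¹ : ↥(normalizer (F.sub (eMask i) : Set G))) : G) ∈ (S : Subgroup G) := by
      have h1 : h * n ^ (2 * k + 1) * h⁻¹ ∈ (W : Subgroup ↥(normalizer (F.sub (eMask i) : Set G))) := by
        rw [← hh]; exact ⟨_, hQ (mem_zpowers _), rfl⟩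
      rw [hWeq, mem_subgroupOf] at h1
      exact h1.1
    have h2 : ∀ v, F.eAct i ((n ^ (2 * k + 1)) ^ 2) v = v := fun v => by
      have h3 := F.sq_trivial_T i (n := h * n ^ (2 * k + 1) * h⁻¹) hmem (F.eAct i h v)
      rw [← F.eAct_mul] at h3
      have e1 : (h * n ^ (2 * k + 1) * h⁻¹) * (h * n ^ (2 * k + 1) * h⁻¹) * h =
          h * (n ^ (2 * k + 1)) ^ 2 := by rw [pow_two]; group
      rw [e1, F.eAct_mul] at h3
      have := congrArg (F.eAct i h⁻¹) h3
      rwa [← F.eAct_mul, ← F.eAct_mul, ← F.eAct_mul, inv_mul_cancel, one_mul, F.eAct_one] at this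
    intro v
    have h4 : ∀ j v, F.eAct i ((n ^ 4) ^ j) v = v := fun j => by
      induction j with
      | zero =>
        intro v; rw [pow_zero]; refine F.eAt_inj (i := i) ?_
        rw [F.eAct_spec]; simp
      | succ j ih => intro v; rw [pow_succ, F.eAct_mul, hn4, ih]
    have := h2 v
    rw [← pow_mul, show (2 * k + 1) * 2 = 4 * k + 2 by ring, pow_add, pow_mul, F.eAct_mul, h4] at this
    exact this
  by_contra hne
  push Not at hne
  obtain ⟨hg2, hg3⟩ := hne
  -- a conjugate of an element of the four-group moving `g 2`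
  have hd : (eReps i).getD 1 0 ∈ eReps i := eReps_mem i
  set u₀ : ↥(normalizer (F.sub (eMask i) : Set G)) := ⟨F.p ((eReps i).getD 1 0), (F.p_mem_normalizer_E i hd).2⟩ with hu₀
  set v : ↥(normalizer (F.sub (eMask i) : Set G)) := g * u₀ * g⁻¹ with hv
  have hfix : ∀ x : Fin 16, uAct i ((eReps i).getD 1 0) x = x ↔ x.val < 4 := eReps_fix i
  have hv2 : ∀ x, F.eAct i v (F.eAct i v x) = x := fun x => by
    rw [← F.eAct_mul, hv,
      show g * u₀ * g⁻¹ * (g * u₀ * g⁻¹) = g * (u₀ * u₀) * g⁻¹ by group, F.eAct_mul, F.eAct_mul,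
      F.sq_trivial_T i (F.p_mem _ (F.p_mem_normalizer_E i hd).1), ← F.eAct_mul, mul_inv_cancel]
    refine F.eAt_inj (i := i) ?_
    rw [F.eAct_spec]; simp
  have hv2' : F.eAct i v 2 ≠ 2 := by
    intro hv2'
    rw [hv, F.eAct_mul, F.eAct_mul] at hv2'
    have h' := congrArg (F.eAct i g⁻¹) hv2'
    rw [← F.eAct_mul i g⁻¹ g, inv_mul_cancel, F.eAct_one, hu₀, F.eAct_p i hd, hfix] at h'
    have h2 : F.eAct i g (F.eAct i g⁻¹ 2) = 2 := by
      rw [← F.eAct_mul, mul_inv_cancel]
      exact F.eAt_inj (i := i) (by rw [F.eAct_spec]; simp)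
    have hg0 : F.eAct i g 0 = 0 := by
      refine F.eAt_inj (i := i) ?_
      rw [F.eAct_spec, eAt_zero i, F.p_zero, mul_one,
        mul_inv_cancel]
    generalize F.eAct i g⁻¹ 2 = w at h' h2
    rcases small_cases w h' with
      rfl | rfl | rfl | rfl
    · rw [hg0] at h2; exact absurd h2 (by decide)
    · rw [hone] at h2; exact absurd h2 (by decide)
    · exact hg2 h2
    · rw [show (3 : Fin 16) = 2 ^^^ 1 by decide, F.eAct_xor, hone] at h2
      exact hg3 (xor_eq_two _ h2)
  set a := F.eAct i v 2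
  set b := F.eAct i v 4
  set c := F.eAct i v 8
  have hlin : ∀ x, F.eAct i v x = lin a b c x := F.eAct_eq_lin i v (hone v)
  obtain ⟨d, hd', ⟨x, hx⟩, h4⟩ := order_four i a b c hv2'
    (fun x => by rw [← hlin, ← hlin]; exact hv2 x)
  set u : ↥(normalizer (F.sub (eMask i) : Set G)) := ⟨F.p d, (F.p_mem_normalizer_E i hd').2⟩
  have hu : ∀ y, F.eAct i u y = uAct i d y := F.eAct_p i hd'
  refine hx ?_
  have h := key (u * v) (fun y => by
    simp only [pow_succ, pow_zero, one_mul, F.eAct_mul, hlin, hu]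
    exact h4 y) x
  simpa only [pow_succ, pow_zero, one_mul, F.eAct_mul, hlin, hu] using h

end CfsgLib.SylJanko
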