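import Cfsg.Agent.Lib.SylJanko.Subgroups

/-!
The essential subgroups of a saturated system on the Sylow subgroup of the Hall-Janko group.
-/

set_option autoImplicit false
set_option maxRecDepth 100000
set_option linter.style.haveILetI false

namespace CfsgLib.SylJanko

open Subgroup

universe u

variable {G : Type u} [Group G] {T : Subgroup G} (F : Frame T)

theorem closed_q : closedOK qMask = true := closed_ok (i := 190) (by norm_num)

theorem closed_b : closedOK bMask = true := closed_ok (i := 220) (by norm_num)

theorem closed_e (i : Fin 2) : closedOK (eMask i) = true := by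
  unfold eMask
  split
  · exact closed_ok (by norm_num)
  · exact closed_ok (by norm_num)

theorem closed_top : closedOK (2 ^ 128 - 1) = true := by decide +kernel

theorem chainOK_spec {a : ℕ} : ∀ {ms : List ℕ}, chainOK a ms = true → ∀ i, i + 1 < ms.length →
    ms.getD i 0 &&& ms.getD (i + 1) 0 = ms.getD i 0 ∧
      ∀ h ∈ elems (ms.getD (i + 1) 0), mem (ms.getD i 0) (mt (iv h) (cj a h)) = true
  | [], _, i, hi => by simp at hi
  | [_], _, i, hi => by simp at hi
  | x :: y :: rest, h, i, hi => by
    simp only [chainOK, Bool.and_eq_true, List.all_eq_true, beq_true] at h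
    cases i with
    | zero => simpa using ⟨h.1.1, h.1.2⟩
    | succ i => simpa using chainOK_spec h.2 i (by simpa using hi)

namespace Frame

/-- The candidates for essential subgroups. -/
def cand : Fin 4 → Subgroup G :=
  ![F.sub qMask, F.sub bMask, F.sub (eMask 0), F.sub (eMask 1)]

theorem sub_top : F.sub (2 ^ 128 - 1) = T := by
  refine le_antisymm (F.sub_le _) fun x hx => ?_
  obtain ⟨d, hd, rfl⟩ := F.surj x hx
  refine subset_closure ((F.mem_set_p hd).2 ?_)
  rw [mem, Nat.testBit_two_pow_sub_one, decide_eq_true_eq]; exact hd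

theorem hasCandidates [Finite G] {E : Cfsg.FusionSystem T} (hE : E.IsSaturated 2) :
    Fusion.HasCandidates E 2 F.cand := by
  haveI : Fact (Nat.Prime 2) := ⟨Nat.prime_two⟩
  intro P hP
  have hPT : P ≤ T := hP.1.1
  have hc : Cfsg.FusionSystem.centralizerIn T P ≤ P := hP.1.2 P (Fusion.isConj_refl hPT)
  have hz : F.z ∈ P := hc ⟨F.z_mem, fun y hy => F.z_central (hPT hy)⟩
  obtain ⟨i, hi, hset⟩ := F.exists_index hPT hz
  have hsub : F.sub (maskTree.get i) = P := SetLike.coe_injective ((F.coe_sub_get hi).trans hset.symm)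
  refine (fun h : ∃ j, F.cand j = P => ?_) ?_
  · obtain ⟨j, hj⟩ := h
    exact ⟨j, 1, T.one_mem, by rw [hj, Fusion.conjSub_one]⟩
  have hw := wit_ok hi
  revert hw
  generalize witList.getD i Wit.whole = w
  intro hw
  have hg := gen_ok hi
  cases w with
  | notCentric c =>
    simp only [witOK, Bool.and_eq_true, List.all_eq_true, beq_true, Nat.blt_eq,
      Bool.not_eq_true'] at hw
    obtain ⟨⟨hc128, hcm⟩, hcc⟩ := hw
    exfalso
    refine Bool.eq_false_iff.1 hcm ((F.mem_sub (closed_ok hi) hc128).1 ?_)
    rw [hsub]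
    refine hc ⟨F.p_mem c hc128, fun y hy => ?_⟩
    have hy' : y ∈ closure (F.p '' {g | g ∈ genList.getD i []}) := by
      refine F.set_subset_closure_gens hg ?_
      rw [← hset]; exact hy
    clear hy
    induction hy' using closure_induction with
    | mem x hx =>
      obtain ⟨g, hg', rfl⟩ := hx
      exact ((F.comm_iff hc128 (F.gens_mem hg g hg').1).2 (hcc g hg')).symm
    | one => rw [one_mul, mul_one]
    | mul a b _ _ ha hb => rw [mul_assoc, hb, ← mul_assoc, ha, mul_assoc]
    | inv a _ ha => exact (Commute.inv_left (ha))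
  | whole =>
    simp only [witOK, beq_true] at hw
    have := Fusion.lt_of_essential F.isPGroup hE hP
    rw [← hsub, hw, F.sub_top] at this
    exact absurd this (lt_irrefl _)
  | candidate =>
    simp only [witOK, Bool.or_eq_true, beq_true] at hw
    rcases hw with ((hw | hw) | hw) | hw
    · exact ⟨0, by rw [← hsub, hw]; rfl⟩
    · exact ⟨1, by rw [← hsub, hw]; rfl⟩
    · exact ⟨2, by rw [← hsub, hw]; rfl⟩
    · exact ⟨3, by rw [← hsub, hw]; rfl⟩
  | stab a prog ch =>
    simp only [witOK, Bool.and_eq_true, List.all_eq_true, beq_true, Nat.blt_eq,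
      Bool.not_eq_true'] at hw
    obtain ⟨⟨⟨⟨⟨⟨ha, ham⟩, hgs⟩, hprog⟩, hfirst⟩, hlast⟩, hchain⟩ := hw
    exfalso
    set M := maskTree.get i with hM
    set ms := ch.map fun k => (runAll M prog).getD k 1 with hms
    have hinv : ∀ k, F.Inv (⊤ : Subgroup (MulAut ↥P)) ((runAll M prog).getD k 1) :=
      Frame.inv_runAll ⊤ hset prog (fun h => by
        obtain ⟨o, ho, ho'⟩ := List.any_eq_true.1 h
        rw [hprog o ho] at ho'; exact absurd ho' (by decide))
    have hlen : 1 ≤ ms.length := by
      rcases ms with _ | ⟨_, _⟩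
      · simp at hfirst
      · simp
    have hms_inv : ∀ k < ms.length, F.Inv (⊤ : Subgroup (MulAut ↥P)) (ms.getD k 0) := fun k hk => by
      rw [List.getD_eq_getElem?_getD, List.getElem?_eq_getElem hk, Option.getD_some]
      simp only [hms, List.getElem_map]
      exact hinv _
    let C : ℕ → Subgroup G := fun k =>
      if k < ms.length then closure (F.set (ms.getD k 0)) else ⊤
    have hCle : ∀ k, k < ms.length → C k = closure (F.set (ms.getD k 0)) := fun k hk => by
      simp [C, hk]
    refine Bool.eq_false_iff.1 ham ((F.mem_sub (closed_ok hi) ha).1 ?_)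
    rw [hsub]
    refine Fusion.mem_of_stabilizes F.isPGroup hP.1
      (Fusion.essential_isRadical F.isPGroup hE hP) ⊤ (ms.length - 1) C
      (monotone_nat_of_le_succ fun k => ?_) (fun k α _ x hx => ?_) ?_ (fun α _ => ⟨0, fun x hx => ?_⟩)
      ⟨F.p_mem a ha, ?_⟩ (fun α _ => Subgroup.mem_top _) fun k hk x hxP hx => ?_
    · rcases Nat.lt_or_ge (k + 1) ms.length with h | h
      · rw [hCle k (by omega), hCle _ h]
        exact closure_mono (F.set_mono (chainOK_spec hchain k h).1)
      · simp [C, Nat.not_lt.2 h]
    · rcases Nat.lt_or_ge k ms.length with h | h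
      · rw [hCle k h] at hx ⊢
        obtain ⟨hsubP, hinv'⟩ := hms_inv k h
        suffices ∀ y (hy : y ∈ closure (F.set (ms.getD k 0))) (hyP : y ∈ P),
            ((α ⟨y, hyP⟩ : P) : G) ∈ closure (F.set (ms.getD k 0)) from this x hx x.2
        intro y hy
        have hle : closure (F.set (ms.getD k 0)) ≤ P := (closure_le P).2 hsubP
        induction hy using closure_induction with
        | mem w hw => exact fun hwP => subset_closure (hinv' α trivial ⟨w, hwP⟩ hw)
        | one =>
          intro h1
          rw [show (⟨1, h1⟩ : ↥P) = 1 from rfl, map_one]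
          exact one_mem _
        | mul u v hu hv iu iv' =>
          intro huv
          rw [show (⟨u * v, huv⟩ : ↥P) = ⟨u, hle hu⟩ * ⟨v, hle hv⟩ from rfl, map_mul, coe_mul]
          exact mul_mem (iu _) (iv' _)
        | inv u hu iu =>
          intro hu'
          rw [show (⟨u⁻¹, hu'⟩ : ↥P) = (⟨u, hle hu⟩ : ↥P)⁻¹ from rfl, map_inv, coe_inv]
          exact inv_mem (iu _)
      · simp [C, Nat.not_lt.2 h]
    · rw [hCle _ (by omega), hlast, ← hsub]; rfl
    · rw [hCle 0 (by omega), hfirst, F.set_one, closure_singleton_one, Subgroup.mem_bot] at hx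
      rw [show x = 1 from Subtype.ext hx, map_one]
    · haveI : Finite (P : Set G) := Subtype.finite
      refine mem_normalizer_fintype fun y hy => ?_
      have hy' : y ∈ closure (F.p '' {g | g ∈ genList.getD i []}) := by
        refine F.set_subset_closure_gens hg ?_
        rw [← hset]; exact hy
      have hle : closure (F.p '' {g | g ∈ genList.getD i []}) ≤
          P.comap (MulAut.conj (F.p a)).toMonoidHom := by
        refine (closure_le _).2 ?_
        rintro _ ⟨g, hg', rfl⟩
        show F.p a * F.p g * (F.p a)⁻¹ ∈ P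
        have hg1 := (F.gens_mem hg g hg').1
        rw [F.p_conj ha hg1, ← hsub]
        exact (F.mem_sub (closed_ok hi) (mt_lt _ _)).2 (hgs g hg')
      exact hle hy'
    · have h : k + 1 < ms.length := by omega
      rw [hCle _ h] at hx
      rw [hCle k (by omega)]
      obtain ⟨hmono, hstab⟩ := chainOK_spec hchain k h
      induction hx using closure_induction with
      | mem w hw =>
        obtain ⟨d, hd, hm, rfl⟩ := hw
        refine subset_closure ?_
        rw [F.p_inv hd, F.p_conj ha hd, F.mul _ (iv_lt hd) (cj a d) (mt_lt _ _)]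
        exact (F.mem_set_p (mt_lt _ _)).2 (hstab d (mem_elems.2 ⟨hd, hm⟩))
      | one => simp
      | mul u v hu hv iu iv' =>
        have hcm : ∀ w ∈ closure (F.set (ms.getD (k + 1) 0)), ∀ c ∈ closure (F.set (ms.getD k 0)),
            w⁻¹ * c * w ∈ closure (F.set (ms.getD k 0)) := by
          intro w hw c hc'
          have hwP : w ∈ P := (closure_le P).2 (hms_inv (k + 1) h).1 hw
          have hcP : c ∈ P := (closure_le P).2 (hms_inv k (by omega)).1 hc'
          obtain ⟨-, hinv'⟩ := hms_inv k (by omega)
          suffices ∀ y ∈ closure (F.set (ms.getD k 0)), w⁻¹ * y * w ∈ closure (F.set (ms.getD k 0)) from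
            this c hc'
          intro y hy
          induction hy using closure_induction with
          | mem e he =>
            have := hinv' (MulAut.conj (⟨w, hwP⟩⁻¹ : ↥P)) trivial
              ⟨e, (hms_inv k (by omega)).1 he⟩ he
            exact subset_closure (by simpa using this)
          | one => simp
          | mul p q _ _ hp hq => exact (show w⁻¹ * (p * q) * w = (w⁻¹ * p * w) * (w⁻¹ * q * w) by group) ▸ mul_mem hp hq
          | inv p _ hp => exact (show w⁻¹ * p⁻¹ * w = (w⁻¹ * p * w)⁻¹ by group) ▸ inv_mem hp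
        have e1 := iu ((closure_le P).2 (hms_inv (k + 1) h).1 hu)
        have e2 := iv' ((closure_le P).2 (hms_inv (k + 1) h).1 hv)
        rw [show (u * v)⁻¹ * (F.p a * (u * v) * (F.p a)⁻¹) =
          (v⁻¹ * (u⁻¹ * (F.p a * u * (F.p a)⁻¹)) * v) * (v⁻¹ * (F.p a * v * (F.p a)⁻¹)) by group]
        exact mul_mem (hcm v hv _ e1) e2
      | inv u hu iu =>
        have huP : u ∈ P := (closure_le P).2 (hms_inv (k + 1) h).1 hu
        have e1 := iu huP
        have hcm : u * (u⁻¹ * (F.p a * u * (F.p a)⁻¹))⁻¹ * u⁻¹ ∈ closure (F.set (ms.getD k 0)) := by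
          suffices ∀ y ∈ closure (F.set (ms.getD k 0)), u * y * u⁻¹ ∈ closure (F.set (ms.getD k 0)) from
            this _ (inv_mem e1)
          intro y hy
          obtain ⟨hsubP, hinv'⟩ := hms_inv k (by omega)
          induction hy using closure_induction with
          | mem e he =>
            have := hinv' (MulAut.conj (⟨u, huP⟩ : ↥P)) trivial ⟨e, hsubP he⟩ he
            exact subset_closure (by simpa using this)
          | one => simp
          | mul p q _ _ hp hq => exact (show u * (p * q) * u⁻¹ = (u * p * u⁻¹) * (u * q * u⁻¹) by group) ▸ mul_mem hp hq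
          | inv p _ hp => exact (show u * p⁻¹ * u⁻¹ = (u * p * u⁻¹)⁻¹ by group) ▸ inv_mem hp
        rwa [show u * (u⁻¹ * (F.p a * u * (F.p a)⁻¹))⁻¹ * u⁻¹ =
          u⁻¹⁻¹ * (F.p a * u⁻¹ * (F.p a)⁻¹) by group] at hcm

end Frame

end CfsgLib.SylJanko
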