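import Cfsg.Agent.Lib.SylJanko.Essential
import Cfsg.Agent.Lib.Fusion.GroupFusion
import Cfsg.Agent.Lib.Transfer.Focal

/-!
Without a subgroup of index two, the normalizer of the extraspecial subgroup moves its intersection
with the subgroup of index two.
-/

set_option autoImplicit false
set_option maxRecDepth 100000
set_option linter.style.haveILetI false

open scoped commutatorElement

namespace CfsgLib.SylJanko

open Subgroup

universe u

/-- The common part of `qMask` and `bMask`. -/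
def wMask : ℕ := qMask &&& bMask

theorem closed_w : closedOK wMask = true := by decide +kernel

variable {G : Type u} [Group G] {T : Subgroup G} (F : Frame T)

namespace Frame

theorem apply_z (α : MulAut ↥T) (x : ↥T) (hx : (x : G) = F.z) : ((α x : ↥T) : G) = F.z := by
  refine (F.center_cases (α x).2 fun y hy => ?_).resolve_left fun h => F.z_ne_one ?_
  · obtain ⟨w, hw⟩ := α.surjective ⟨y, hy⟩
    have : x * w = w * x := Subtype.ext (by rw [coe_mul, coe_mul, hx]; exact (F.z_central w.2).symm)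
    have := congrArg (fun v => ((α v : ↥T) : G)) this
    simpa [map_mul, hw] using this
  · rw [← hx, show x = 1 from α.injective (by rw [map_one]; exact Subtype.ext h)]; rfl

theorem set_top : (T : Set G) = F.set (2 ^ 128 - 1) := by
  rw [← F.coe_sub closed_top, F.sub_top]

theorem inv_top (prog : List Op) (k : ℕ) :
    F.Inv (⊤ : Subgroup (MulAut ↥T)) ((runAll (2 ^ 128 - 1) prog).getD k 1) :=
  Frame.inv_runAll ⊤ F.set_top prog (fun _ α _ x hx => F.apply_z α x hx) k

theorem apply_mem_q (α : MulAut ↥T) (x : ↥T) (hx : (x : G) ∈ F.sub qMask) :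
    ((α x : ↥T) : G) ∈ F.sub qMask := by
  have h : (runAll (2 ^ 128 - 1) [.sq 0, .sqz 0, .mul 3 2]).getD 4 1 = qMask := by decide +kernel
  have h2 := (F.inv_top [.sq 0, .sqz 0, .mul 3 2] 4).2 α trivial x
  rw [h, ← F.coe_sub closed_q] at h2
  exact h2 hx

theorem apply_mem_b (α : MulAut ↥T) (x : ↥T) (hx : (x : G) ∈ F.sub bMask) :
    ((α x : ↥T) : G) ∈ F.sub bMask := by
  have h : (runAll (2 ^ 128 - 1) [.sq 0, .cen 2, .cen 3]).getD 4 1 = bMask := by decide +kernel
  have h2 := (F.inv_top [.sq 0, .cen 2, .cen 3] 4).2 α trivial x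
  rw [h, ← F.coe_sub closed_b] at h2
  exact h2 hx

theorem apply_mem_iff {U : Subgroup G}
    (h : ∀ (α : MulAut ↥T) (x : ↥T), (x : G) ∈ U → ((α x : ↥T) : G) ∈ U) (α : MulAut ↥T) (x : ↥T) :
    ((α x : ↥T) : G) ∈ U ↔ (x : G) ∈ U :=
  ⟨fun hx => by simpa using h α⁻¹ (α x) hx, h α x⟩

theorem mem_w {x : G} : x ∈ F.sub wMask ↔ x ∈ F.sub qMask ∧ x ∈ F.sub bMask := by
  simp only [← SetLike.mem_coe, F.coe_sub closed_w, F.coe_sub closed_q, F.coe_sub closed_b]
  constructor
  · rintro ⟨d, hd, hm, rfl⟩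
    exact ⟨⟨d, hd, (mem_and.1 hm).1, rfl⟩, ⟨d, hd, (mem_and.1 hm).2, rfl⟩⟩
  · rintro ⟨⟨d, hd, hm, rfl⟩, ⟨e, he, hm', e'⟩⟩
    obtain rfl := F.inj e he d hd e'
    exact ⟨e, he, mem_and.2 ⟨hm, hm'⟩, rfl⟩

theorem eMask_le_bMask (i : Fin 2) : F.sub (eMask i) ≤ F.sub bMask := by
  refine closure_mono (F.set_mono ?_)
  revert i; decide +kernel

omit F in
theorem conj_mem_of_T {U : Subgroup G}
    (h : ∀ (α : MulAut ↥T) (x : ↥T), (x : G) ∈ U → ((α x : ↥T) : G) ∈ U) :
    ∀ s ∈ T, ∀ x ∈ T, s * x * s⁻¹ ∈ U ↔ x ∈ U := fun s hs x hx => by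
  have := apply_mem_iff h (MulAut.conj (⟨s, hs⟩ : ↥T)) ⟨x, hx⟩
  simpa using this

end Frame

/-- The normalizer of `Q` does not preserve `Q ∩ B`. -/
theorem exists_mover {G : Type u} [Group G] [Finite G] (S : Sylow 2 G) (F : Frame (S : Subgroup G))
    (h2 : ∀ H : Subgroup G, H.Normal → H.index ≠ 2) :
    ∃ g ∈ normalizer (F.sub qMask : Set G), ∃ x ∈ F.sub wMask, g * x * g⁻¹ ∉ F.sub wMask := by
  haveI : Fact (Nat.Prime 2) := ⟨Nat.prime_two⟩
  by_contra hno
  push Not at hno
  let E := Cfsg.groupFusionSystem (S : Subgroup G)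
  have hsat : E.IsSaturated 2 := Fusion.group_isSaturated S
  have hQ : ∀ α ∈ E.autGroup (F.sub qMask), ∀ y : ↥(F.sub qMask),
      ((α y : ↥(F.sub qMask)) : G) ∈ F.sub bMask ↔ (y : G) ∈ F.sub bMask := by
    intro α hα y
    rw [Fusion.group_autGroup_eq S (F.sub_le _), Fusion.mem_autInducedBy_iff] at hα
    obtain ⟨a, -, ha⟩ := hα
    have e := ha y
    have haN : a ∈ normalizer (F.sub qMask : Set G) := Fusion.mem_normalizer_of_aut ha
    constructor
    · intro hb
      have h' := hno a⁻¹ (inv_mem haN) _ (F.mem_w.2 ⟨(α y).2, hb⟩)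
      rw [inv_inv, e, show a⁻¹ * (a * (y : G) * a⁻¹) * a = y by group] at h'
      exact (F.mem_w.1 h').2
    · intro hb
      have h' := hno a haN _ (F.mem_w.2 ⟨y.2, hb⟩)
      rw [← e] at h'
      exact (F.mem_w.1 h').2
  have key : ∀ g x : G, x ∈ (S : Subgroup G) → g * x * g⁻¹ ∈ (S : Subgroup G) →
      (g * x * g⁻¹ ∈ F.sub bMask ↔ x ∈ F.sub bMask) := by
    intro g x hx hgx
    have hm : Fusion.IsMap E (zpowers x) (fun y => g * y * g⁻¹) := by
      refine ((Fusion.isSystemOf_group (S : Subgroup G)).2 _ _).2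
        ⟨zpowers_le.2 hx, fun y hy => ?_, g, Subgroup.mem_top g, fun y _ => rfl⟩
      obtain ⟨k, rfl⟩ := mem_zpowers_iff.1 hy
      rw [← conj_zpow]; exact Subgroup.zpow_mem _ hgx k
    refine Fusion.invariant_of_candidates (p := 2) (E := F.cand) S.isPGroup' hsat
      (F.sub bMask : Set G) (Frame.conj_mem_of_T F.apply_mem_b) (F.hasCandidates hsat)
      (fun α _ y => Frame.apply_mem_iff F.apply_mem_b α y) (fun i hi _ α hα y => ?_) hm
      (mem_zpowers x)
    fin_cases i
    · exact hQ α hα y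
    · exact iff_of_true (α y).2 y.2
    · exact iff_of_true (F.eMask_le_bMask 0 (α y).2) (F.eMask_le_bMask 0 y.2)
    · exact iff_of_true (F.eMask_le_bMask 1 (α y).2) (F.eMask_le_bMask 1 y.2)
  -- index two in `S`
  have hidx : ((F.sub bMask).subgroupOf (S : Subgroup G)).index = 2 := by
    rw [index_eq_two_iff]
    refine ⟨⟨F.p 1, F.p_mem 1 (by norm_num)⟩, fun y => ?_⟩
    obtain ⟨d, hd, hy⟩ := F.surj _ y.2
    simp only [mem_subgroupOf, coe_mul]
    rw [← hy, F.mul d hd 1 (by norm_num), F.mem_sub closed_b (mt_lt _ _), F.mem_sub closed_b hd]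
    have h : ((List.range 128).all fun d => (mem bMask d).xor (mem bMask (mt d 1))) = true := by
      decide +kernel
    have := List.all_eq_true.1 h d (List.mem_range.2 hd)
    revert this
    cases mem bMask d <;> cases mem bMask (mt d 1) <;> simp
  have hfoc : (S : Subgroup G).focalSubgroup ≤ F.sub bMask := by
    rw [Subgroup.focalSubgroup_def, closure_le]
    rintro _ ⟨hmem, x, hx, u, rfl⟩
    have hy : u * x⁻¹ * u⁻¹ ∈ (S : Subgroup G) := by
      have := mul_mem (inv_mem hx) hmem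
      simpa [commutatorElement_def, mul_assoc] using this
    have hiff := key u x⁻¹ (inv_mem hx) hy
    rw [SetLike.mem_coe, show ⁅x, u⁆ = x * (u * x⁻¹ * u⁻¹) by
      rw [commutatorElement_def]; group]
    by_cases hb : x ∈ F.sub bMask
    · exact mul_mem hb (hiff.2 (inv_mem hb))
    · have h1 : (⟨x, hx⟩ : ↥(S : Subgroup G)) ∉ (F.sub bMask).subgroupOf (S : Subgroup G) := hb
      have h2 : (⟨_, hy⟩ : ↥(S : Subgroup G)) ∉ (F.sub bMask).subgroupOf (S : Subgroup G) :=
        fun h => hb (inv_mem_iff.1 (hiff.1 h))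
      exact (mul_mem_iff_of_index_two hidx).2 (iff_of_false h1 h2)
  haveI : ((F.sub bMask).subgroupOf (S : Subgroup G)).Normal := normal_of_index_eq_two hidx
  let φ : G →* ↥(S : Subgroup G) ⧸ (F.sub bMask).subgroupOf (S : Subgroup G) :=
    (QuotientGroup.map ((S : Subgroup G).focalSubgroupOf) ((F.sub bMask).subgroupOf (S : Subgroup G))
      (MonoidHom.id _) (fun x hx => hfoc hx)).comp (S : Subgroup G).transferFocal
  refine h2 φ.ker inferInstance ?_
  have hsurj : Function.Surjective φ := by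
    intro q
    obtain ⟨x, rfl⟩ := QuotientGroup.mk'_surjective _ q
    obtain ⟨g, hg⟩ := Subgroup.transferFocal_surjective S
      (x : ↥(S : Subgroup G) ⧸ (S : Subgroup G).focalSubgroupOf)
    refine ⟨g, ?_⟩
    simp only [φ, MonoidHom.comp_apply, hg]
    rfl
  rw [index_ker, MonoidHom.range_eq_top.2 hsurj, card_top, ← index_eq_card, hidx]

end CfsgLib.SylJanko
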