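import Cfsg.Agent.Lib.SylJanko.CheckTable
import Cfsg.Agent.Lib.Janko2.Sylow

/-!
A group with a subgroup indexed by the table: the meaning of the mask computations.
-/

set_option autoImplicit false
set_option maxRecDepth 100000

namespace CfsgLib.SylJanko

open Subgroup

universe u

theorem beq_true {a b : ℕ} : Nat.beq a b = true ↔ a = b :=
  ⟨Nat.eq_of_beq_eq_true, fun h => h ▸ Nat.beq_refl a⟩

theorem mt_lt (a b : ℕ) : mt a b < 128 := Nat.mod_lt _ (by norm_num)

theorem iv_lt {a : ℕ} (ha : a < 128) : iv a < 128 := by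
  have h := List.all_eq_true.1 check_iv a (List.mem_range.2 ha)
  simp only [Bool.and_eq_true, Nat.blt_eq] at h
  exact h.1.1

/-- A subgroup `T` numbered according to the table. -/
structure Frame {G : Type u} [Group G] (T : Subgroup G) where
  /-- The numbering. -/
  p : ℕ → G
  p_mem : ∀ d < 128, p d ∈ T
  surj : ∀ x ∈ T, ∃ d < 128, p d = x
  inj : ∀ a < 128, ∀ b < 128, p a = p b → a = b
  mul : ∀ a < 128, ∀ b < 128, p a * p b = p (mt a b)

/-- A group isomorphic to the Sylow subgroup of the Hall-Janko group has a frame. -/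
theorem exists_frame {G : Type u} [Group G] {T : Subgroup G} (P : Sylow 2 Cfsg.Spor.J2)
    (hT : Nonempty (↥T ≃* ↥(P : Subgroup Cfsg.Spor.J2))) : Nonempty (Frame T) := by
  classical
  haveI : Fact (Nat.Prime 2) := ⟨Nat.prime_two⟩
  open CfsgLib.Janko2 CfsgLib.Fusion in
  have H := syl_facts
  have hcard : Nat.card (Fusion.TableSylow.sylow H) = 128 := by
    rw [Fusion.TableSylow.sylow_card H]; rfl
  haveI : Finite Cfsg.Spor.J2 := Finite.of_equiv _ Janko2.equivPP.symm.toEquiv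
  have hq : Nat.card Janko2.PP = 604800 := Janko2.chain_top.2.2.1
  let S' : Sylow 2 Cfsg.Spor.J2 := Sylow.ofCard
    ((Fusion.TableSylow.sylow H).map Janko2.equivPP.symm.toMonoidHom) (by
      rw [card_map_of_injective Janko2.equivPP.symm.injective, hcard,
        Nat.card_congr Janko2.equivPP.toEquiv, hq,
        show (604800 : ℕ) = 2 ^ 7 * 4725 by norm_num, Nat.factorization_mul (by norm_num)
        (by norm_num), Nat.Prime.factorization_pow Nat.prime_two]
      rw [Finsupp.add_apply, Finsupp.single_eq_same,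
        Nat.factorization_eq_zero_of_not_dvd (by decide : ¬ 2 ∣ 4725)]
      norm_num)
  obtain ⟨e₀⟩ := hT
  let e₁ : ↥(Fusion.TableSylow.sylow H) ≃* ↥T :=
    ((equivMapOfInjective _ Janko2.equivPP.symm.toMonoidHom Janko2.equivPP.symm.injective).trans
      (S'.equiv P)).trans e₀.symm
  have hmem : ∀ d < 128, Janko2.sE d ∈ Fusion.TableSylow.sylow H := fun d hd =>
    ⟨d, hd, one_dvd _, rfl⟩
  refine ⟨⟨fun d => if h : d < 128 then (e₁ ⟨_, hmem d h⟩ : G) else 1, fun d hd => ?_,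
    fun x hx => ?_, fun a ha b hb e => ?_, fun a ha b hb => ?_⟩⟩
  · rw [dif_pos hd]; exact SetLike.coe_mem _
  · obtain ⟨d, hd', -, e⟩ := (e₁.symm ⟨x, hx⟩).2
    have hd : d < 128 := hd'
    refine ⟨d, hd, ?_⟩
    rw [dif_pos hd]
    have : (⟨_, hmem d hd⟩ : ↥(Fusion.TableSylow.sylow H)) = e₁.symm ⟨x, hx⟩ := Subtype.ext e
    rw [this, e₁.apply_symm_apply]
  · rw [dif_pos ha, dif_pos hb] at e
    have e' := congrArg Subtype.val (e₁.injective (Subtype.ext e))
    exact Fusion.TableSylow.P_injective H.nxt H.zero H.mul H.inv ha hb e' H.one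
  · rw [dif_pos ha, dif_pos hb, dif_pos (mt_lt a b), ← coe_mul, ← map_mul]
    refine congrArg (fun w => ((e₁ w : ↥T) : G)) (Subtype.ext ?_)
    obtain ⟨-, h, -⟩ := Fusion.TableSylow.mulT_spec H.nxt H.zero H.mul (a := a) (b := b) ha hb
    have := beq_true.1 (List.all_eq_true.1 (List.all_eq_true.1 check_mt a (List.mem_range.2 ha)) b
      (List.mem_range.2 hb))
    show Janko2.sE a * Janko2.sE b = Janko2.sE (mt a b)
    rw [this, h]

variable {G : Type u} [Group G] {T : Subgroup G} (F : Frame T)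

namespace Frame

theorem p_zero : F.p 0 = 1 := by
  have h := F.mul 0 (by norm_num) 0 (by norm_num)
  rw [show mt 0 0 = 0 by decide +kernel] at h
  exact mul_eq_left.1 h

theorem p_inv {a : ℕ} (ha : a < 128) : (F.p a)⁻¹ = F.p (iv a) := by
  refine inv_eq_of_mul_eq_one_right ?_
  rw [F.mul a ha _ (iv_lt ha)]
  have h := List.all_eq_true.1 check_iv a (List.mem_range.2 ha)
  simp only [Bool.and_eq_true] at h
  rw [beq_true.1 h.1.2, F.p_zero]

theorem p_conj {a b : ℕ} (ha : a < 128) (hb : b < 128) : F.p a * F.p b * (F.p a)⁻¹ = F.p (cj a b) := by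
  rw [F.p_inv ha, F.mul a ha b hb, F.mul _ (mt_lt a b) _ (iv_lt ha)]; rfl

theorem p_inj {a b : ℕ} (ha : a < 128) (hb : b < 128) : F.p a = F.p b ↔ a = b :=
  ⟨F.inj a ha b hb, fun h => h ▸ rfl⟩

theorem comm_iff {a b : ℕ} (ha : a < 128) (hb : b < 128) :
    F.p a * F.p b = F.p b * F.p a ↔ mt a b = mt b a := by
  rw [F.mul a ha b hb, F.mul b hb a ha, F.p_inj (mt_lt a b) (mt_lt b a)]

theorem eq_one_iff {a : ℕ} (ha : a < 128) : F.p a = 1 ↔ a = 0 := by
  rw [← F.p_zero, F.p_inj ha (by norm_num)]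

/-- The set coded by a mask. -/
def set (m : ℕ) : Set G := {x | ∃ d < 128, mem m d = true ∧ F.p d = x}

theorem mem_set_p {m d : ℕ} (hd : d < 128) : F.p d ∈ F.set m ↔ mem m d = true :=
  ⟨fun ⟨_, he, hm, e⟩ => (F.inj _ he d hd e) ▸ hm, fun h => ⟨d, hd, h, rfl⟩⟩

theorem set_subset (m : ℕ) : F.set m ⊆ T := fun _ ⟨_, hd, _, e⟩ => e ▸ F.p_mem _ hd

end Frame

theorem mem_maskOf {l : List ℕ} {d : ℕ} : mem (maskOf l) d = true ↔ d ∈ l := by
  have key : ∀ (l : List ℕ) (m : ℕ), (l.foldl (fun acc e => acc ||| 1 <<< e) m).testBit d = true ↔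
      (m.testBit d = true ∨ d ∈ l) := by
    intro l
    induction l with
    | nil => simp
    | cons a l ih =>
      intro m
      rw [List.foldl_cons, ih, Nat.testBit_or, Nat.shiftLeft_eq, one_mul, Nat.testBit_two_pow,
        Bool.or_eq_true, decide_eq_true_eq, List.mem_cons, or_assoc, @eq_comm _ a d]
  simpa [mem, maskOf] using key l 0

theorem mem_elems {m d : ℕ} : d ∈ elems m ↔ d < 128 ∧ mem m d = true := by
  simp [elems]

theorem mem_and {a b d : ℕ} : mem (a &&& b) d = true ↔ mem a d = true ∧ mem b d = true := by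
  simp [mem]

theorem mem_or {a b d : ℕ} : mem (a ||| b) d = true ↔ mem a d = true ∨ mem b d = true := by
  simp [mem]

theorem mem_one {d : ℕ} : mem 1 d = true ↔ d = 0 := by
  rw [mem, show (1 : ℕ) = 2 ^ 0 by norm_num, Nat.testBit_two_pow, decide_eq_true_eq, eq_comm]

theorem mem_of_and {a b d : ℕ} (h : a &&& b = a) (hd : mem a d = true) : mem b d = true := by
  rw [← h] at hd; exact (mem_and.1 hd).2

namespace Frame

theorem set_one : F.set 1 = {1} := by
  ext x
  simp only [set, mem_one, Set.mem_ofPred_eq, Set.mem_singleton_iff]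
  exact ⟨fun ⟨d, _, e, h⟩ => by subst e; rw [← h, F.p_zero],
    fun h => ⟨0, by norm_num, rfl, h ▸ F.p_zero⟩⟩

theorem set_mono {a b : ℕ} (h : a &&& b = a) : F.set a ⊆ F.set b :=
  fun _ ⟨d, hd, hm, e⟩ => ⟨d, hd, mem_of_and h hm, e⟩

theorem mem_set_maskOf {l : List ℕ} (hl : ∀ d ∈ l, d < 128) {x : G} :
    x ∈ F.set (maskOf l) ↔ ∃ d ∈ l, F.p d = x :=
  ⟨fun ⟨d, _, hm, e⟩ => ⟨d, mem_maskOf.1 hm, e⟩,
    fun ⟨d, hd, e⟩ => ⟨d, hl d hd, mem_maskOf.2 hd, e⟩⟩

theorem mem_set_union {m g : ℕ} (hg : g < 128) {x : G} :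
    x ∈ F.set (unionMask m g) ↔ x ∈ F.set m ∨ ∃ h ∈ F.set m, x = F.p g * h := by
  constructor
  · rintro ⟨d, hd, hm, rfl⟩
    rcases mem_or.1 hm with h | h
    · exact Or.inl ⟨d, hd, h, rfl⟩
    · obtain ⟨h', hh', rfl⟩ := List.mem_map.1 (mem_maskOf.1 h)
      obtain ⟨hlt, hh⟩ := mem_elems.1 hh'
      exact Or.inr ⟨_, ⟨h', hlt, hh, rfl⟩, (F.mul g hg h' hlt).symm⟩
  · rintro (⟨d, hd, h, rfl⟩ | ⟨_, ⟨h', hlt, hh, rfl⟩, rfl⟩)
    · exact ⟨d, hd, mem_or.2 (Or.inl h), rfl⟩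
    · exact ⟨mt g h', mt_lt _ _, mem_or.2 (Or.inr (mem_maskOf.2
        (List.mem_map.2 ⟨h', mem_elems.2 ⟨hlt, hh⟩, rfl⟩))), (F.mul g hg h' hlt).symm⟩

end Frame

end CfsgLib.SylJanko
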