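import Cfsg.Agent.S0948
import Cfsg.Agent.Lib.BlockA.KleinOrder
import Cfsg.Agent.Lib.Fusion.ZStarCenter
import Cfsg.Agent.Lib.Invol.Klein
import Cfsg.Agent.Lib.Invol.FusionBasics

/-!
# A bound from the order formula for a Klein four Sylow subgroup

If a proper subgroup contains a Klein four Sylow subgroup, fuses its involutions and contains the
centraliser of one of them, and there is no nontrivial normal subgroup of odd order, then that
centraliser has order four: the order formula bounds the index by six.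
-/

set_option autoImplicit false
set_option linter.style.haveILetI false

namespace CfsgLib.SylJanko

open Subgroup

universe u

variable {K : Type u} [Group K] [Finite K]

/-- The order formula squeezed between two constants. -/
theorem klein_bounds (P : Sylow 2 K) (hP : IsKleinFour (P : Subgroup K))
    (hone : ∀ s t : K, orderOf s = 2 → orderOf t = 2 → IsConj s t) {z : K}
    (hz : z ∈ (P : Subgroup K)) (hz1 : z ≠ 1) :
    3 * Nat.card (centralizer ({z} : Set K)) ^ 3 ≤
        Nat.card K * Nat.card (centralizer ((P : Subgroup K) : Set K)) ^ 2 ∧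
      Nat.card K * Nat.card (centralizer ((P : Subgroup K) : Set K)) ^ 2 ≤
        18 * Nat.card (centralizer ({z} : Set K)) ^ 3 := by
  obtain ⟨M, hM⟩ := CfsgLib.BlockB.exists_isPModular Nat.prime_two (p := 2)
  have := hM.2.1.isPrime
  obtain ⟨χ₁, χ₂, χ₃, ε, hε, h1, h2, h12, h13, h23, hB, hval, hd1, hd2, hd3, hrel⟩ :=
    Cfsg.Agent.S0948.result M hM P hP hone
  have hz2 : orderOf z = 2 := Invol.klein_orderOf hP hz hz1
  obtain ⟨v1, v2, v3⟩ := hval z hz2
  have h3 : (χ₃ : K → ℂ) ≠ fun _ => 1 := fun e => by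
    rw [e] at v3; norm_num at v3
  have hval' : (χ₁ : K → ℂ) z = ((1 : ℤ) : ℂ) ∧ (χ₂ : K → ℂ) z = ((ε : ℤ) : ℂ) ∧
      (χ₃ : K → ℂ) z = ((-1 : ℤ) : ℂ) := ⟨by simpa using v1, v2, by simpa using v3⟩
  have hord := BlockA.klein_order_formula hM hP hone hz hz1 hB ⟨h1, h2, h3, h12, h13, h23⟩ hval'
    ⟨Or.inl rfl, hε, Or.inr rfl⟩
  have hr := BlockA.klein_degree_relation hM hP hone hz hz1 hB ⟨h1, h2, h3, h12, h13, h23⟩ hval'
  set a := Cfsg.charDegree (χ₁ : K → ℂ)
  set b := Cfsg.charDegree (χ₂ : K → ℂ)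
  set c := Cfsg.charDegree (χ₃ : K → ℂ)
  set N := Nat.card K * Nat.card (centralizer ((P : Subgroup K) : Set K)) ^ 2 with hN
  set C := Nat.card (centralizer ({z} : Set K)) ^ 3 with hC
  have ha : 0 < a := Nat.pos_of_ne_zero (BlockB.irr_degree_ne_zero χ₁)
  have hb : 0 < b := Nat.pos_of_ne_zero (BlockB.irr_degree_ne_zero χ₂)
  have hc3 : 3 ≤ c := by
    have hc : 0 < c := Nat.pos_of_ne_zero (BlockB.irr_degree_ne_zero χ₃)
    omega
  have hord' : (N : ℤ) * (((a : ℤ) + 1) * (b + ε) * (c - 1)) = (C : ℤ) * (8 * (a * b * c)) := by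
    rw [hN, hC]; push_cast; linear_combination hord
  suffices h : 3 * (((a : ℤ) + 1) * (b + ε) * (c - 1)) ≤ 8 * (a * b * c) ∧
      8 * ((a : ℤ) * b * c) ≤ 18 * ((a + 1) * (b + ε) * (c - 1)) ∧
      0 < ((a : ℤ) + 1) * (b + ε) * (c - 1) by
    obtain ⟨hl, hu, hp⟩ := h
    constructor
    · have : (3 * C : ℤ) * (((a : ℤ) + 1) * (b + ε) * (c - 1)) ≤
          (N : ℤ) * (((a : ℤ) + 1) * (b + ε) * (c - 1)) := by
        rw [hord']; nlinarith [Int.natCast_nonneg C]
      exact_mod_cast le_of_mul_le_mul_right this hp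
    · have : (N : ℤ) * (((a : ℤ) + 1) * (b + ε) * (c - 1)) ≤
          (18 * C : ℤ) * (((a : ℤ) + 1) * (b + ε) * (c - 1)) := by
        rw [hord']; nlinarith [Int.natCast_nonneg C]
      exact_mod_cast le_of_mul_le_mul_right this hp
  have ha' : (1 : ℤ) ≤ a := by exact_mod_cast ha
  have hc' : (3 : ℤ) ≤ c := by exact_mod_cast hc3
  rcases hε with rfl | rfl
  · have hb' : (1 : ℤ) ≤ b := by exact_mod_cast hb
    have hs : (c : ℤ) = 1 + a + b := by linarith
    refine ⟨?_, ?_, by have : (0 : ℤ) < c - 1 := by linarith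
                       positivity⟩
    · rw [hs]
      obtain ⟨u, hu, hu'⟩ : ∃ u : ℤ, 0 ≤ u ∧ (a : ℤ) = u + 1 := ⟨a - 1, by omega, by ring⟩
      obtain ⟨v, hv, hv'⟩ : ∃ v : ℤ, 0 ≤ v ∧ (b : ℤ) = v + 1 := ⟨b - 1, by omega, by ring⟩
      rw [hu', hv']
      nlinarith [mul_nonneg hu hv, mul_nonneg (mul_nonneg hu hv) hu, mul_nonneg (mul_nonneg hu hv) hv,
        mul_nonneg hu hu, mul_nonneg hv hv]
    · calc 8 * ((a : ℤ) * b * c) ≤ 8 * ((a + 1) * (b + 1) * c) := by
            gcongr <;> linarith
        _ ≤ 18 * ((a + 1) * (b + 1) * (c - 1)) := by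
            nlinarith [mul_pos (show (0 : ℤ) < a + 1 by linarith) (show (0 : ℤ) < b + 1 by linarith)]
  · have hb' : (3 : ℤ) ≤ b := by omega
    have hp : (0 : ℤ) < (a + 1) * (b + -1) * (c - 1) :=
      mul_pos (mul_pos (by linarith) (by linarith)) (by linarith)
    refine ⟨?_, ?_, hp⟩
    · calc 3 * (((a : ℤ) + 1) * (b + -1) * (c - 1)) ≤ 3 * ((2 * a) * b * c) := by
            gcongr <;> linarith
        _ ≤ _ := by nlinarith [mul_pos (mul_pos (show (0 : ℤ) < a by linarith)
            (show (0 : ℤ) < b by linarith)) (show (0 : ℤ) < c by linarith)]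
    · have e : 8 * ((a : ℤ) * b * c) ≤ 8 * (a + 1) * (b * c) := by nlinarith
      have e2 : 4 * ((b : ℤ) * c) ≤ 9 * ((b + -1) * (c - 1)) := by nlinarith
      nlinarith

/-- A proper subgroup with the centraliser of an involution and its fusion. -/
theorem card_centralizer_eq_four (P : Sylow 2 K) (hP : IsKleinFour (P : Subgroup K))
    (hO : Cfsg.oddCore K = ⊥) (hone : ∀ s t : K, orderOf s = 2 → orderOf t = 2 → IsConj s t)
    {z : K} (hz : z ∈ (P : Subgroup K)) (hz1 : z ≠ 1) (N : Subgroup K)
    (hPN : (P : Subgroup K) ≤ N) (hCN : centralizer ({z} : Set K) ≤ N)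
    (hfus : ∀ t ∈ (P : Subgroup K), t ≠ 1 → ∃ n ∈ N, n * z * n⁻¹ = t) (hne : N ≠ ⊤) :
    Nat.card (centralizer ({z} : Set K)) = 4 := by
  classical
  haveI : Fact (Nat.Prime 2) := ⟨Nat.prime_two⟩
  have hz2 : orderOf z = 2 := Invol.klein_orderOf hP hz hz1
  set C := centralizer ({z} : Set K) with hCdef
  set CP := centralizer ((P : Subgroup K) : Set K) with hCPdef
  have hCPN : CP ≤ N := (centralizer_le (Set.singleton_subset_iff.2 hz)).trans hCN
  -- the formula inside `N`
  let PN : Sylow 2 ↥N := P.subtype hPN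
  have hPNk : IsKleinFour ↥(PN : Subgroup ↥N) :=
    { card_four := by
        show Nat.card ↥((P : Subgroup K).subgroupOf N) = 4
        rw [Nat.card_congr (subgroupOfEquivOfLe hPN).toEquiv]; exact hP.card_four
      exponent_two := (Monoid.exponent_eq_of_mulEquiv (subgroupOfEquivOfLe hPN)).trans
        hP.exponent_two }
  have honeN : ∀ s t : ↥N, orderOf s = 2 → orderOf t = 2 → IsConj s t := by
    have h : ∀ s : ↥N, orderOf s = 2 → IsConj (⟨z, hPN hz⟩ : ↥N) s := by
      intro s hs
      obtain ⟨m, hm⟩ := Invol.exists_conj_invol_mem_sylow PN hs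
      have hm' : (m : K) * s * (m : K)⁻¹ ∈ (P : Subgroup K) := hm
      obtain ⟨n, hn, e⟩ := hfus _ hm' fun e => Invol.invol_ne_one hs
        (Subtype.ext (conj_eq_one_iff.1 e))
      refine isConj_iff.2 ⟨m⁻¹ * ⟨n, hn⟩, Subtype.ext ?_⟩
      show (m : K)⁻¹ * n * z * ((m : K)⁻¹ * n)⁻¹ = s
      rw [show (m : K)⁻¹ * n * z * ((m : K)⁻¹ * n)⁻¹ = (m : K)⁻¹ * (n * z * n⁻¹) * m by group, e]
      group
    exact fun s t hs ht => (h s hs).symm.trans (h t ht)
  have hcz : Nat.card (centralizer ({(⟨z, hPN hz⟩ : ↥N)} : Set ↥N)) = Nat.card C := by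
    rw [← card_map_of_injective N.subtype_injective]
    refine congrArg (fun H : Subgroup K => Nat.card H) (le_antisymm ?_ ?_)
    · rintro _ ⟨g, hg, rfl⟩
      exact mem_centralizer_singleton_iff.2
        (congrArg Subtype.val (mem_centralizer_singleton_iff.1 hg))
    · intro g hg
      exact ⟨⟨g, hCN hg⟩, mem_centralizer_singleton_iff.2
        (Subtype.ext (mem_centralizer_singleton_iff.1 hg)), rfl⟩
  have hcp : Nat.card (centralizer ((PN : Subgroup ↥N) : Set ↥N)) = Nat.card CP := by
    rw [← card_map_of_injective N.subtype_injective]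
    refine congrArg (fun H : Subgroup K => Nat.card H) (le_antisymm ?_ ?_)
    · rintro _ ⟨g, hg, rfl⟩
      exact mem_centralizer_iff.2 fun p hp =>
        congrArg Subtype.val (mem_centralizer_iff.1 hg ⟨p, hPN hp⟩ hp)
    · intro g hg
      exact ⟨⟨g, hCPN hg⟩, mem_centralizer_iff.2 fun p hp =>
        Subtype.ext (mem_centralizer_iff.1 hg (p : K) hp), rfl⟩
  have hlow := (klein_bounds PN hPNk honeN (z := ⟨z, hPN hz⟩) hz
    fun e => hz1 (congrArg Subtype.val e)).1
  rw [hcz, hcp] at hlow
  have hup := (klein_bounds P hP hone hz hz1).2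
  -- the index
  have hidx : N.index ≤ 6 := by
    by_contra hlt
    have h7 : 7 ≤ N.index := by omega
    have h := (Nat.mul_le_mul h7 hlow).trans
      ((le_of_eq (by rw [← N.card_mul_index]; ring)).trans hup)
    have hpos : 0 < Nat.card C ^ 3 := pow_pos Nat.card_pos 3
    rw [hCdef] at h hpos
    nlinarith
  have hodd : Odd N.index := Nat.not_even_iff_odd.1 fun h =>
    P.not_dvd_index ((even_iff_two_dvd.1 h).trans (index_dvd_of_le hPN))
  -- the core
  have hcore : N.normalCore = ⊥ := by
    rcases Nat.even_or_odd (Nat.card N.normalCore) with he | ho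
    · exfalso
      obtain ⟨t, ht, ht2⟩ := Invol.exists_invol_mem he
      have hall : ∀ s : K, orderOf s = 2 → s ∈ N.normalCore := fun s hs => by
        obtain ⟨g, rfl⟩ := isConj_iff.1 (hone t s ht2 hs)
        exact N.normalCore_normal.conj_mem t ht g
      have hPc : (P : Subgroup K) ≤ N.normalCore := fun p hp => by
        by_cases hp1 : p = 1
        · exact hp1 ▸ one_mem _
        · exact hall p (Invol.klein_orderOf hP hp hp1)
      refine hne (eq_top_iff.2 fun g _ => ?_)
      haveI := N.normalCore_normal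
      obtain ⟨c, hc, n, hn, rfl⟩ : ∃ c ∈ N.normalCore, ∃ n ∈ normalizer ((P : Subgroup K) : Set K),
          c * n = g := by
        obtain ⟨k, hk⟩ := MulAction.exists_smul_eq ↥N.normalCore ((g • P : Sylow 2 K).subtype
          (fun y hy => by
            have h := Transfer.sylow_smul_mem_iff.1 hy
            have h' := N.normalCore_normal.conj_mem _ (hPc h) g
            simpa [mul_assoc] using h')) (P.subtype hPc)
        rw [Sylow.smul_subtype] at hk
        have e : ((k : K) * g) • P = P := by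
          rw [mul_smul]; exact Sylow.subtype_injective hk
        exact ⟨(k : K)⁻¹, inv_mem k.2, _, Sylow.smul_eq_iff_mem_normalizer.1 e, by group⟩
      refine mul_mem (N.normalCore_le hc) ?_
      obtain ⟨m, hm, e⟩ := hfus (n * z * n⁻¹) ((mem_normalizer_iff.1 hn z).1 hz)
        fun e => hz1 (conj_eq_one_iff.1 e)
      have : m⁻¹ * n ∈ C := mem_centralizer_singleton_iff.2 (by
        calc m⁻¹ * n * z = m⁻¹ * (n * z * n⁻¹) * n := by group
          _ = m⁻¹ * (m * z * m⁻¹) * n := by rw [e]
          _ = z * (m⁻¹ * n) := by group)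
      have := mul_mem hm (hCN this)
      rwa [mul_inv_cancel_left] at this
    · exact le_bot_iff.1 (hO ▸ Invol.le_oddCore N.normalCore_normal ho)
  have hdvd : Nat.card K ∣ N.index.factorial := by
    have hk : (MulAction.toPermHom K (K ⧸ N)).ker = ⊥ := by rw [← normalCore_eq_ker, hcore]
    have hd := card_dvd_of_injective _ ((MonoidHom.ker_eq_bot_iff _).1 hk)
    rwa [Nat.card_perm, ← index_eq_card] at hd
  -- the class of `z` in `N`
  have h4C : 4 ∣ Nat.card C := by
    have : (P : Subgroup K) ≤ C := fun p hp => mem_centralizer_singleton_iff.2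
      (congrArg Subtype.val (hP.isMulCommutative.is_comm.comm (⟨p, hp⟩ : ↥(P : Subgroup K)) ⟨z, hz⟩))
    exact hP.card_four ▸ card_dvd_of_le this
  have h3 : 3 * Nat.card C ≤ Nat.card N := by
    let f : {t : ↥(P : Subgroup K) // t ≠ 1} × ↥C → ↥N := fun p =>
      ⟨(hfus _ p.1.1.2 fun e => p.1.2 (Subtype.ext e)).choose * p.2,
        mul_mem (hfus _ p.1.1.2 fun e => p.1.2 (Subtype.ext e)).choose_spec.1 (hCN p.2.2)⟩
    have hf : ∀ p, (f p : K) * z * (f p : K)⁻¹ = (p.1.1 : K) := fun p => by
      show (hfus _ p.1.1.2 fun e => p.1.2 (Subtype.ext e)).choose * (p.2 : K) * z * (_ * (p.2 : K))⁻¹ = _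
      rw [mul_assoc _ (p.2 : K) z, mem_centralizer_singleton_iff.1 p.2.2]
      refine Eq.trans ?_ (hfus _ p.1.1.2 fun e => p.1.2 (Subtype.ext e)).choose_spec.2
      group
    have hinj : Function.Injective f := fun p q h => by
      have e : p.1 = q.1 := Subtype.ext (Subtype.ext (by rw [← hf p, ← hf q, h]))
      obtain ⟨t, c⟩ := p
      obtain ⟨t', c'⟩ := q
      obtain rfl : t = t' := e
      exact Prod.ext rfl (Subtype.ext (mul_left_cancel (congrArg Subtype.val h :)))
    have := Nat.card_le_card_of_injective f hinj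
    rw [Nat.card_prod] at this
    have h3 : Nat.card {t : ↥(P : Subgroup K) // t ≠ 1} = 3 := by
      have := Fintype.ofFinite (P : Subgroup K)
      rw [Nat.card_eq_fintype_card, Fintype.card_subtype_compl, Fintype.card_subtype_eq,
        ← Nat.card_eq_fintype_card, hP.card_four]
    rwa [h3] at this
  have hKi := N.card_mul_index
  have h4K : 4 ∣ Nat.card K := h4C.trans (card_subgroup_dvd_card C)
  have hle := Nat.le_of_dvd (Nat.factorial_pos _) hdvd
  have h4f := h4K.trans hdvd
  obtain ⟨j, hj⟩ := hodd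
  have hj2 : j ≤ 2 := by omega
  have hC0 : 0 < Nat.card C := Nat.card_pos
  have h8 : ¬ 8 ∣ Nat.card N := fun h => by
    have h' : 8 ∣ Nat.card K := h.trans (card_subgroup_dvd_card N)
    have h2 := P.pow_dvd_card_of_pow_dvd_card (n := 3) h'
    rw [hP.card_four] at h2
    norm_num at h2
  obtain ⟨d, hd⟩ := h4C
  obtain rfl : j = 2 := by
    rcases (show j = 0 ∨ j = 1 ∨ j = 2 by omega) with rfl | rfl | rfl
    · exact absurd (index_eq_one.1 hj) hne
    · rw [hj] at h4f; exact absurd h4f (by decide)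
    · rfl
  -- index five
  have hN24 : Nat.card N ∣ 24 := by
    have : Nat.card N * 5 ∣ 24 * 5 := by
      rw [← hKi, hj] at hdvd; exact hdvd
    exact Nat.dvd_of_mul_dvd_mul_right (by norm_num) this
  have := Nat.le_of_dvd (by norm_num) hN24
  obtain ⟨r, hr⟩ := card_dvd_of_le hCN
  rcases (show d = 1 ∨ d = 2 by omega) with rfl | rfl
  · simpa using hd
  · exfalso
    apply h8
    rw [hr, hd]
    exact dvd_mul_of_dvd_left (by norm_num) _

/-- An involution centralising no more than a Klein four Sylow subgroup does. -/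
theorem card_centralizer_of_eq (P : Sylow 2 K) (hP : IsKleinFour (P : Subgroup K))
    (hO : Cfsg.oddCore K = ⊥) (hone : ∀ s t : K, orderOf s = 2 → orderOf t = 2 → IsConj s t)
    {z : K} (hz : z ∈ (P : Subgroup K)) (hz1 : z ≠ 1)
    (heq : centralizer ({z} : Set K) ≤ centralizer ((P : Subgroup K) : Set K)) :
    Nat.card (centralizer ({z} : Set K)) = 4 := by
  haveI : Fact (Nat.Prime 2) := ⟨Nat.prime_two⟩
  have : IsMulCommutative ↥(P : Subgroup K) := hP.isMulCommutative
  set N := normalizer ((P : Subgroup K) : Set K) with hN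
  have hCN : centralizer ({z} : Set K) ≤ N := heq.trans (centralizer_le_normalizer _)
  have hfus : ∀ t ∈ (P : Subgroup K), t ≠ 1 → ∃ n ∈ N, n * z * n⁻¹ = t := fun t ht ht1 => by
    obtain ⟨g, hg⟩ := isConj_iff.1 (hone z t (Invol.klein_orderOf hP hz hz1)
      (Invol.klein_orderOf hP ht ht1))
    obtain ⟨v, hv, e⟩ := Transfer.abelian_sylow_controls P z hz g (hg.symm ▸ ht)
    exact ⟨v, hv, e.trans hg⟩
  by_cases hne : N = ⊤
  · haveI hPn : (P : Subgroup K).Normal := normalizer_eq_top_iff.1 hne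
    set M := centralizer ((P : Subgroup K) : Set K)
    have hPM : (P : Subgroup K) ≤ M := le_centralizer _
    have hMn : M.Normal := inferInstance
    have hrel : (P : Subgroup K).relIndex M ∣ (P : Subgroup K).index :=
      relIndex_dvd_index_of_normal _ _
    have hle := Fusion.le_of_central_of_odd (Z := ((P : Subgroup K).subgroupOf M)) (G := ↥M)
      (M := ⊤) ?_ inferInstance le_top ?_ ?_
    · have hM4 : M = (P : Subgroup K) := le_antisymm (fun x hx =>
        mem_subgroupOf.1 (hle (mem_top (⟨x, hx⟩ : ↥M)))) hPM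
      refine le_antisymm ?_ ?_
      · exact (Nat.le_of_dvd Nat.card_pos (card_dvd_of_le heq)).trans
          (by rw [hM4, hP.card_four])
      · rw [← hP.card_four]
        refine Nat.le_of_dvd Nat.card_pos (card_dvd_of_le ?_)
        exact fun p hp => mem_centralizer_singleton_iff.2
          (mem_centralizer_iff.1 (hPM hp) z hz).symm
    · refine le_bot_iff.1 fun x hx => mem_bot.2 (Subtype.ext ?_)
      haveI : (Cfsg.oddCore ↥M).Characteristic := CfsgLib.Solvable.pPrimeCore_characteristic 2 ↥M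
      have hm : ((Cfsg.oddCore ↥M).map M.subtype).Normal := inferInstance
      have h' := Invol.le_oddCore hm (by
        rw [card_map_of_injective M.subtype_injective]; exact Invol.odd_card_oddCore ↥M)
      rw [hO] at h'
      exact mem_bot.1 (h' ⟨x, hx, rfl⟩)
    · intro p hp
      exact mem_center_iff.2 fun q => Subtype.ext
        (mem_centralizer_iff.1 q.2 (p : K) (mem_subgroupOf.1 hp)).symm
    · rw [relIndex_top_right]
      exact Nat.not_even_iff_odd.1 fun h => P.not_dvd_index ((even_iff_two_dvd.1 h).trans hrel)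
  · exact card_centralizer_eq_four P hP hO hone hz hz1 N le_normalizer hCN hfus hne

end CfsgLib.SylJanko
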