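import Cfsg.Agent.Lib.SylJanko.Focal

/-!
The action of the normalizer of the extraspecial subgroup `Q` on its five pairs of non-central
involutions.
-/

set_option autoImplicit false
set_option maxRecDepth 100000
set_option linter.style.haveILetI false

namespace CfsgLib.SylJanko

open Subgroup Equiv

universe u

/-- Representatives of the five pairs. -/
def rep : Fin 5 → ℕ := ![1, 45, 49, 61, 32]

theorem rep_lt (i : Fin 5) : rep i < 128 := by fin_cases i <;> decide

theorem rep_q (i : Fin 5) : mem qMask (rep i) = true := by revert i; decide +kernel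

/-- The pair of an element of `Q`. -/
def isPt (i : Fin 5) (d : ℕ) : Bool := Nat.beq d (rep i) || Nat.beq d (mt (rep i) zIdx)

/-- The permutation of the pairs induced by `d`. -/
def permFun (d : ℕ) (i : Fin 5) : Fin 5 :=
  if isPt 0 (cj d (rep i)) then 0 else if isPt 1 (cj d (rep i)) then 1
  else if isPt 2 (cj d (rep i)) then 2 else if isPt 3 (cj d (rep i)) then 3 else 4

/-- A change of signs compatible with the relation is induced by an element of `Q`. -/
theorem sign_vectors : ∀ f : Fin 5 → Bool,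
    (mt (mt (mt (if f 0 then mt (rep 0) zIdx else rep 0) (if f 1 then mt (rep 1) zIdx else rep 1))
      (if f 2 then mt (rep 2) zIdx else rep 2)) (if f 3 then mt (rep 3) zIdx else rep 3)) =
    mt (if f 4 then mt (rep 4) zIdx else rep 4)
      (mt (iv (rep 4)) (mt (mt (mt (rep 0) (rep 1)) (rep 2)) (rep 3))) →
    ((List.range 128).any fun c => mem qMask c && (List.finRange 5).all fun i =>
      Nat.beq (cj c (rep i)) (if f i then mt (rep i) zIdx else rep i)) = true := by
  decide +kernel

variable {G : Type u} [Group G] {T : Subgroup G} (F : Frame T)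

namespace Frame

/-- The subgroup `Q`. -/
abbrev Q : Subgroup G := F.sub qMask

theorem Q_le : F.Q ≤ T := F.sub_le _

theorem r_mem (i : Fin 5) : F.p (rep i) ∈ F.Q := (F.mem_sub closed_q (rep_lt i)).2 (rep_q i)

theorem z_mem_Q : F.z ∈ F.Q := (F.mem_sub closed_q (by decide)).2 (by decide +kernel)

theorem rz (i : Fin 5) : F.p (mt (rep i) zIdx) = F.p (rep i) * F.z :=
  (F.mul _ (rep_lt i) _ (by decide)).symm

theorem center_Q {x : G} (hx : x ∈ F.Q) (h : ∀ i : Fin 5, x * F.p (rep i) = F.p (rep i) * x) :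
    x = 1 ∨ x = F.z := by
  obtain ⟨d, hd, rfl⟩ := F.surj x (F.Q_le hx)
  have hc : ((List.range 128).all fun d => !mem qMask d || Nat.beq d 0 || Nat.beq d zIdx ||
      (List.finRange 5).any fun i => !Nat.beq (mt d (rep i)) (mt (rep i) d)) = true := by
    decide +kernel
  have := List.all_eq_true.1 hc d (List.mem_range.2 hd)
  simp only [Bool.or_eq_true, List.any_eq_true, List.mem_finRange, true_and, beq_true,
    Bool.not_eq_true'] at this
  rcases this with ((h' | rfl) | rfl) | ⟨i, hne⟩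
  · rw [(F.mem_sub closed_q hd).1 hx] at h'; exact absurd h' (by decide)
  · exact Or.inl F.p_zero
  · exact Or.inr rfl
  · rw [(F.comm_iff hd (rep_lt i)).1 (h i)] at hne; simp at hne

theorem conj_z {n : G} (hn : n ∈ normalizer (F.Q : Set G)) : n * F.z * n⁻¹ = F.z := by
  refine (F.center_Q ((mem_normalizer_iff.1 hn _).1 F.z_mem_Q) fun i => ?_).resolve_left
    fun h => F.z_ne_one (conj_eq_one_iff.1 h)
  have hr : n⁻¹ * F.p (rep i) * n ∈ F.Q := (mem_normalizer_iff''.1 hn _).1 (F.r_mem i)
  have := F.z_central (F.Q_le hr)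
  calc n * F.z * n⁻¹ * F.p (rep i) = n * (F.z * (n⁻¹ * F.p (rep i) * n)) * n⁻¹ := by group
    _ = n * ((n⁻¹ * F.p (rep i) * n) * F.z) * n⁻¹ := by rw [this]
    _ = F.p (rep i) * (n * F.z * n⁻¹) := by group

/-- Membership in the pair of `i`. -/
def InPair (i : Fin 5) (x : G) : Prop := x = F.p (rep i) ∨ x = F.p (rep i) * F.z

theorem pair_unique {i j : Fin 5} {x : G} (hi : F.InPair i x) (hj : F.InPair j x) : i = j := by
  have h : ∀ i j : Fin 5, (rep i = rep j ∨ rep i = mt (rep j) zIdx ∨ mt (rep i) zIdx = rep j ∨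
      mt (rep i) zIdx = mt (rep j) zIdx) → i = j := by decide +kernel
  refine h i j ?_
  unfold InPair at hi hj
  rw [← F.rz i] at hi
  rw [← F.rz j] at hj
  rcases hi with rfl | rfl <;> rcases hj with e | e
  · exact Or.inl (F.inj _ (rep_lt i) _ (rep_lt j) e)
  · exact Or.inr (Or.inl (F.inj _ (rep_lt i) _ (mt_lt _ _) e))
  · exact Or.inr (Or.inr (Or.inl (F.inj _ (mt_lt _ _) _ (rep_lt j) e)))
  · exact Or.inr (Or.inr (Or.inr (F.inj _ (mt_lt _ _) _ (mt_lt _ _) e)))

theorem exists_pair {x : G} (hx : x ∈ F.Q) (h1 : x * x = 1) (hne : x ≠ 1) (hnz : x ≠ F.z) :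
    ∃ i, F.InPair i x := by
  obtain ⟨d, hd, rfl⟩ := F.surj x (F.Q_le hx)
  have hc : ((List.range 128).all fun d => !mem qMask d || Nat.beq d 0 || Nat.beq d zIdx ||
      !Nat.beq (mt d d) 0 || (List.finRange 5).any fun i => isPt i d) = true := by decide +kernel
  have := List.all_eq_true.1 hc d (List.mem_range.2 hd)
  simp only [Bool.or_eq_true, List.any_eq_true, List.mem_finRange, true_and, beq_true,
    Bool.not_eq_true', isPt] at this
  rcases this with (((h' | rfl) | rfl) | h') | ⟨i, h' | h'⟩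
  · rw [(F.mem_sub closed_q hd).1 hx] at h'; exact absurd h' (by decide)
  · exact absurd F.p_zero hne
  · exact absurd rfl hnz
  · rw [F.mul d hd d hd, F.eq_one_iff (mt_lt _ _)] at h1
    rw [h1] at h'; exact absurd h' (by decide)
  · exact ⟨i, Or.inl (by rw [h'])⟩
  · exact ⟨i, Or.inr (by rw [h', F.rz])⟩

theorem r_sq (i : Fin 5) : F.p (rep i) * F.p (rep i) = 1 := by
  rw [F.mul _ (rep_lt i) _ (rep_lt i), show mt (rep i) (rep i) = 0 by revert i; decide +kernel,
    F.p_zero]

theorem exists_image {n : G} (hn : n ∈ normalizer (F.Q : Set G)) (i : Fin 5) :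
    ∃ j, F.InPair j (n * F.p (rep i) * n⁻¹) := by
  refine F.exists_pair ((mem_normalizer_iff.1 hn _).1 (F.r_mem i)) ?_ (fun h => ?_) fun h => ?_
  · rw [show n * F.p (rep i) * n⁻¹ * (n * F.p (rep i) * n⁻¹) = n * (F.p (rep i) * F.p (rep i)) * n⁻¹
      by group, F.r_sq, mul_one, mul_inv_cancel]
  · have := (F.eq_one_iff (rep_lt i)).1 (conj_eq_one_iff.1 h)
    revert this; fin_cases i <;> decide
  · rw [← F.conj_z hn] at h
    have := F.inj _ (rep_lt i) _ (by decide) ((MulAut.conj n).injective h : F.p (rep i) = F.p zIdx)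
    revert this; fin_cases i <;> decide

/-- The image of a pair. -/
noncomputable def pairImg (n : ↥(normalizer (F.Q : Set G))) (i : Fin 5) : Fin 5 :=
  Classical.choose (F.exists_image n.2 i)

theorem pairImg_spec (n : ↥(normalizer (F.Q : Set G))) (i : Fin 5) :
    F.InPair (F.pairImg n i) ((n : G) * F.p (rep i) * (n : G)⁻¹) :=
  Classical.choose_spec (F.exists_image n.2 i)

theorem pairImg_mul (m n : ↥(normalizer (F.Q : Set G))) (i : Fin 5) :
    F.pairImg (m * n) i = F.pairImg m (F.pairImg n i) := by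
  refine F.pair_unique (F.pairImg_spec (m * n) i) ?_
  have e : ((m * n : ↥(normalizer (F.Q : Set G))) : G) * F.p (rep i) *
      ((m * n : ↥(normalizer (F.Q : Set G))) : G)⁻¹ =
      (m : G) * ((n : G) * F.p (rep i) * (n : G)⁻¹) * (m : G)⁻¹ := by
    rw [coe_mul]; group
  rw [e]
  rcases F.pairImg_spec n i with h | h <;> rw [h] <;>
    rcases F.pairImg_spec m (F.pairImg n i) with h' | h'
  · exact Or.inl h'
  · exact Or.inr h'
  · right
    rw [← h']
    conv_lhs => rw [show (m : G) * (F.p (rep (F.pairImg n i)) * F.z) * (m : G)⁻¹ =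
      (m : G) * F.p (rep (F.pairImg n i)) * (m : G)⁻¹ * ((m : G) * F.z * (m : G)⁻¹) by group]
    rw [F.conj_z m.2]
  · left
    rw [show (m : G) * (F.p (rep (F.pairImg n i)) * F.z) * (m : G)⁻¹ =
      (m : G) * F.p (rep (F.pairImg n i)) * (m : G)⁻¹ * ((m : G) * F.z * (m : G)⁻¹) by group,
      F.conj_z m.2, h', mul_assoc, F.z_sq, mul_one]

theorem pairImg_one (i : Fin 5) : F.pairImg 1 i = i := by
  refine F.pair_unique (F.pairImg_spec 1 i) (Or.inl ?_)
  simp

/-- The action on the five pairs. -/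
noncomputable def π : ↥(normalizer (F.Q : Set G)) →* Perm (Fin 5) where
  toFun n :=
    { toFun := F.pairImg n
      invFun := F.pairImg n⁻¹
      left_inv := fun i => by rw [← pairImg_mul, inv_mul_cancel, pairImg_one]
      right_inv := fun i => by rw [← pairImg_mul, mul_inv_cancel, pairImg_one] }
  map_one' := Equiv.ext F.pairImg_one
  map_mul' m n := Equiv.ext (F.pairImg_mul m n)

theorem π_spec (n : ↥(normalizer (F.Q : Set G))) (i : Fin 5) :
    F.InPair (F.π n i) ((n : G) * F.p (rep i) * (n : G)⁻¹) := F.pairImg_spec n i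

theorem T_le_normalizer : T ≤ normalizer (F.Q : Set G) := by
  intro x hx
  obtain ⟨d, hd, rfl⟩ := F.surj x hx
  have h : ((List.range 128).all fun d => (List.range 128).all fun e =>
      !mem qMask e || (mem qMask (cj d e) && mem qMask (cj (iv d) e))) = true := by decide +kernel
  have hh : ∀ e < 128, mem qMask e = true → mem qMask (cj d e) = true ∧
      mem qMask (cj (iv d) e) = true := fun e he hm => by
    simpa [hm] using List.all_eq_true.1 (List.all_eq_true.1 h d (List.mem_range.2 hd)) e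
      (List.mem_range.2 he)
  rw [mem_normalizer_iff]
  intro y
  constructor
  · intro hy
    obtain ⟨e, he, rfl⟩ := F.surj y (F.Q_le hy)
    rw [F.p_conj hd he]
    exact (F.mem_sub closed_q (mt_lt _ _)).2 (hh e he ((F.mem_sub closed_q he).1 hy)).1
  · intro hy
    have hyT : y ∈ T := by
      have := T.mul_mem (T.mul_mem (T.inv_mem hx) (F.Q_le hy)) hx
      simpa [mul_assoc] using this
    obtain ⟨e, he, e'⟩ := F.surj _ (F.Q_le hy)
    have : y = (F.p d)⁻¹ * F.p e * ((F.p d)⁻¹)⁻¹ := by rw [e']; group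
    rw [this, F.p_inv hd, F.p_conj (iv_lt hd) he]
    exact (F.mem_sub closed_q (mt_lt _ _)).2
      (hh e he ((F.mem_sub closed_q he).1 (e' ▸ hy))).2

theorem π_T {d : ℕ} (hd : d < 128) (i : Fin 5) :
    F.π ⟨F.p d, F.T_le_normalizer (F.p_mem d hd)⟩ i = permFun d i := by
  refine F.pair_unique (F.π_spec _ i) ?_
  show F.InPair _ (F.p d * F.p (rep i) * (F.p d)⁻¹)
  rw [F.p_conj hd (rep_lt i)]
  have h : ((List.range 128).all fun d => (List.finRange 5).all fun i =>
      isPt (permFun d i) (cj d (rep i))) = true := by decide +kernel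
  have := List.all_eq_true.1 (List.all_eq_true.1 h d (List.mem_range.2 hd)) i (List.mem_finRange i)
  simp only [isPt, Bool.or_eq_true, beq_true] at this
  rcases this with e | e
  · exact Or.inl (by rw [e])
  · exact Or.inr (by rw [e, F.rz])

theorem π_eq_one {n : ↥(normalizer (F.Q : Set G))} (h : F.π n = 1) :
    ∃ q ∈ F.Q, ∀ x ∈ F.Q, (n : G) * x * (n : G)⁻¹ = q * x * q⁻¹ := by
  classical
  have hi : ∀ i, F.InPair i ((n : G) * F.p (rep i) * (n : G)⁻¹) := fun i => by
    have := F.π_spec n i; rwa [h] at this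
  let ε : Fin 5 → Bool := fun i =>
    decide ((n : G) * F.p (rep i) * (n : G)⁻¹ ≠ F.p (rep i))
  have hε : ∀ i, (n : G) * F.p (rep i) * (n : G)⁻¹ =
      F.p (if ε i then mt (rep i) zIdx else rep i) := by
    intro i
    by_cases hc : (n : G) * F.p (rep i) * (n : G)⁻¹ = F.p (rep i)
    · simp [ε, hc]
    · rw [if_pos (by simpa [ε] using hc), F.rz]
      exact (hi i).resolve_left hc
  -- the five representatives satisfy one relation
  have hpar : ∃ c ∈ List.range 128, mem qMask c = true ∧
      ∀ i, cj c (rep i) = if ε i then mt (rep i) zIdx else rep i := by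
    have hlt : ∀ i, (if ε i then mt (rep i) zIdx else rep i) < 128 := fun i => by
      split
      · exact mt_lt _ _
      · exact rep_lt i
    have hrel : F.p (mt (mt (mt (rep 0) (rep 1)) (rep 2)) (rep 3)) =
        F.p (rep 4) * F.p (mt (iv (rep 4)) (mt (mt (mt (rep 0) (rep 1)) (rep 2)) (rep 3))) := by
      rw [← F.mul _ (iv_lt (rep_lt 4)) _ (mt_lt _ _), ← F.p_inv (rep_lt 4), mul_inv_cancel_left]
    have hc : mt (iv (rep 4)) (mt (mt (mt (rep 0) (rep 1)) (rep 2)) (rep 3)) = 0 ∨
        mt (iv (rep 4)) (mt (mt (mt (rep 0) (rep 1)) (rep 2)) (rep 3)) = zIdx := by decide +kernel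
    have := sign_vectors ε (by
      refine F.inj _ (mt_lt _ _) _ (mt_lt _ _) ?_
      rw [← F.mul _ (hlt 4) _ (mt_lt _ _), ← F.mul _ (mt_lt _ _) _ (hlt 3),
        ← F.mul _ (mt_lt _ _) _ (hlt 2), ← F.mul _ (hlt 0) _ (hlt 1), ← hε 0, ← hε 1, ← hε 2,
        ← hε 3, ← hε 4]
      have hz : (n : G) * F.p (mt (iv (rep 4)) (mt (mt (mt (rep 0) (rep 1)) (rep 2)) (rep 3))) *
          (n : G)⁻¹ = F.p (mt (iv (rep 4)) (mt (mt (mt (rep 0) (rep 1)) (rep 2)) (rep 3))) := by
        rcases hc with e | e <;> rw [e]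
        · rw [F.p_zero]; simp
        · exact F.conj_z n.2
      have h' := congrArg (fun x => (n : G) * x * (n : G)⁻¹) hrel
      simp only [← F.mul _ (mt_lt _ _) _ (rep_lt 3), ← F.mul _ (mt_lt _ _) _ (rep_lt 2),
        ← F.mul _ (rep_lt 0) _ (rep_lt 1)] at h'
      conv_rhs => rw [← hz]
      simp only [mul_assoc, inv_mul_cancel_left] at h' ⊢
      exact h')
    simp only [List.any_eq_true, Bool.and_eq_true, List.all_eq_true, beq_true] at this
    obtain ⟨c, hc1, hc2, hc3⟩ := this
    exact ⟨c, hc1, hc2, fun i => hc3 i (List.mem_finRange i)⟩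
  obtain ⟨c, hc1, hc2, hc3⟩ := hpar
  rw [List.mem_range] at hc1
  refine ⟨F.p c, (F.mem_sub closed_q hc1).2 hc2, fun x hx => ?_⟩
  have hgen : F.Q ≤ closure (F.p '' (Set.range rep ∪ {zIdx})) := by
    refine (closure_le _).2 fun y hy => ?_
    have hg : genOK qMask [zIdx, rep 0, rep 1, rep 2, rep 3, rep 4] = true := by decide +kernel
    refine closure_mono (Set.image_mono ?_) (F.set_subset_closure_gens hg hy)
    intro g hg'
    simp only [Set.mem_ofPred_eq, List.mem_cons, List.not_mem_nil, or_false] at hg'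
    rcases hg' with rfl | rfl | rfl | rfl | rfl | rfl <;> simp
  have heq : closure (F.p '' (Set.range rep ∪ {zIdx})) ≤
      ((MulAut.conj (n : G)).toMonoidHom).eqLocus (MulAut.conj (F.p c)).toMonoidHom := by
    refine (closure_le _).2 ?_
    rintro _ ⟨g, hg | hg, rfl⟩
    · obtain ⟨i, rfl⟩ := hg
      show (n : G) * F.p (rep i) * (n : G)⁻¹ = F.p c * F.p (rep i) * (F.p c)⁻¹
      rw [F.p_conj hc1 (rep_lt i), hc3, hε]
    · rw [Set.mem_singleton_iff] at hg
      subst hg
      show (n : G) * F.z * (n : G)⁻¹ = F.p c * F.z * (F.p c)⁻¹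
      rw [F.conj_z n.2, F.z_central (F.p_mem c hc1)]
      group
  exact heq (hgen hx)

theorem mem_w_of_fix {n : ↥(normalizer (F.Q : Set G))} (h : F.π n 4 = 4) {x : G}
    (hx : x ∈ F.sub wMask) : (n : G) * x * (n : G)⁻¹ ∈ F.sub wMask := by
  have hw : ((List.range 128).all fun d => !mem qMask d ||
      (mem wMask d == Nat.beq (mt d (rep 4)) (mt (rep 4) d))) = true := by decide +kernel
  have key : ∀ y ∈ F.Q, y ∈ F.sub wMask ↔ y * F.p (rep 4) = F.p (rep 4) * y := by
    intro y hy
    obtain ⟨d, hd, rfl⟩ := F.surj y (F.Q_le hy)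
    have := List.all_eq_true.1 hw d (List.mem_range.2 hd)
    rw [(F.mem_sub closed_q hd).1 hy] at this
    rw [F.mem_sub closed_w hd, F.comm_iff hd (rep_lt 4), ← beq_true]
    simp only [Bool.not_true, Bool.false_or, beq_iff_eq] at this
    rw [this]
  have hxQ : x ∈ F.Q := (F.mem_w.1 hx).1
  have hc := (key x hxQ).1 hx
  refine (key _ ((mem_normalizer_iff.1 n.2 _).1 hxQ)).2 ?_
  have hs := F.π_spec n 4
  rw [h] at hs
  have hy : (n : G) * x * (n : G)⁻¹ * ((n : G) * F.p (rep 4) * (n : G)⁻¹) =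
      ((n : G) * F.p (rep 4) * (n : G)⁻¹) * ((n : G) * x * (n : G)⁻¹) := by
    calc _ = (n : G) * (x * F.p (rep 4)) * (n : G)⁻¹ := by group
      _ = (n : G) * (F.p (rep 4) * x) * (n : G)⁻¹ := by rw [hc]
      _ = _ := by group
  rcases hs with e | e <;> rw [e] at hy
  · exact hy
  · have hzc := F.z_central (F.Q_le ((mem_normalizer_iff.1 n.2 _).1 hxQ))
    rw [← mul_assoc, mul_assoc _ F.z, ← hzc, ← mul_assoc] at hy
    exact mul_right_cancel hy

end Frame

/-- The four permutations of the Sylow subgroup. -/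
def four : List (Perm (Fin 5)) :=
  [1, swap 0 3 * swap 1 2, swap 0 2 * swap 1 3, swap 0 1 * swap 2 3]

theorem four_of_T : ∀ d : Fin 128, ∃ v ∈ four, ∀ i, permFun d i = v i := by decide +kernel

theorem four_surj : ∀ v ∈ four, ∃ d : Fin 128, ∀ i, permFun d i = v i := by decide +kernel

theorem four_sign : ∀ v ∈ four, Perm.sign v = 1 := by decide +kernel

/-- An even permutation moving the last point together with the four-group generates the
alternating group. -/
theorem eq_alternating {I : Subgroup (Perm (Fin 5))} (hI : I ≤ alternatingGroup (Fin 5))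
    (hv : ∀ v ∈ four, v ∈ I) {σ : Perm (Fin 5)} (hσ : σ ∈ I) (h4 : σ 4 ≠ 4) :
    I = alternatingGroup (Fin 5) := by
  have key : ∀ τ : Perm (Fin 5), Perm.sign τ = 1 → τ 4 ≠ 4 →
      (∃ x ∈ four.map (τ * ·) ++ four.flatMap (fun v => four.map (fun u => τ * v * τ⁻¹ * u)),
        x ^ 3 = 1 ∧ x ≠ 1) ∧
      ∃ x ∈ four.map (τ * ·) ++ four.flatMap (fun v => four.map (fun u => τ * v * τ⁻¹ * u)),
        x ^ 5 = 1 ∧ x ≠ 1 := by decide +kernel
  have hmem : ∀ x ∈ four.map (σ * ·) ++ four.flatMap (fun v => four.map (fun u => σ * v * σ⁻¹ * u)),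
      x ∈ I := by
    intro x hx
    rcases List.mem_append.1 hx with hx | hx
    · obtain ⟨v, hv', rfl⟩ := List.mem_map.1 hx; exact mul_mem hσ (hv v hv')
    · obtain ⟨v, hv', hx⟩ := List.mem_flatMap.1 hx
      obtain ⟨u, hu, rfl⟩ := List.mem_map.1 hx
      exact mul_mem (mul_mem (mul_mem hσ (hv v hv')) (inv_mem hσ)) (hv u hu)
  obtain ⟨⟨a, ha, ha3, ha1⟩, ⟨b, hb, hb5, hb1⟩⟩ := key σ (hI hσ) h4
  have h3 : 3 ∣ Nat.card I := orderOf_eq_prime (hp := ⟨Nat.prime_three⟩) ha3 ha1 ▸
    I.orderOf_dvd_natCard (hmem a ha)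
  have h5 : 5 ∣ Nat.card I := by
    have := I.orderOf_dvd_natCard (hmem b hb)
    rwa [orderOf_eq_prime (hp := ⟨Nat.prime_five⟩) hb5 hb1] at this
  have h4' : 4 ∣ Nat.card I := by
    let V : Subgroup (Perm (Fin 5)) :=
      { carrier := {x | x ∈ four}
        one_mem' := by simp [four]
        mul_mem' := fun {a b} ha hb => by
          revert a b; simp only [Set.mem_ofPred_eq]; decide +kernel
        inv_mem' := fun {a} ha => by
          revert a; simp only [Set.mem_ofPred_eq]; decide +kernel }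
    have hVI : V ≤ I := fun x hx => hv x hx
    have hV : Nat.card V = 4 := by
      have : Nat.card V = (four.toFinset).card := by
        rw [← Nat.card_eq_finsetCard]
        exact Nat.card_congr (Equiv.subtypeEquivRight fun x => (List.mem_toFinset (a := x)).symm)
      rw [this]; decide +kernel
    exact hV ▸ card_dvd_of_le hVI
  have h60 : 60 ∣ Nat.card I := by
    have : (4 * 3) * 5 ∣ Nat.card I :=
      Nat.Coprime.mul_dvd_of_dvd_of_dvd (by norm_num)
        (Nat.Coprime.mul_dvd_of_dvd_of_dvd (by norm_num) h4' h3) h5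
    simpa using this
  refine eq_of_le_of_card_ge hI ?_
  rw [nat_card_alternatingGroup, Nat.card_fin]
  exact Nat.le_of_dvd Nat.card_pos h60

/-- The normalizer of `Q` induces the alternating group on the pairs. -/
theorem range_π [Finite G] (S : Sylow 2 G) (F : Frame (S : Subgroup G))
    (hmove : ∃ g ∈ normalizer (F.Q : Set G), ∃ x ∈ F.sub wMask, g * x * g⁻¹ ∉ F.sub wMask) :
    F.π.range = alternatingGroup (Fin 5) := by
  haveI : Fact (Nat.Prime 2) := ⟨Nat.prime_two⟩
  have hSN : (S : Subgroup G) ≤ normalizer (F.Q : Set G) := F.T_le_normalizer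
  have hv : ∀ v ∈ four, v ∈ F.π.range := fun v hv => by
    obtain ⟨d, hd⟩ := four_surj v hv
    exact ⟨⟨F.p d, hSN (F.p_mem d d.2)⟩, Equiv.ext fun i => (F.π_T d.2 i).trans (hd i)⟩
  have hI : F.π.range ≤ alternatingGroup (Fin 5) := by
    rintro _ ⟨n, rfl⟩
    let ψ : ↥(normalizer (F.Q : Set G)) →* ℤˣ := Perm.sign.comp F.π
    by_contra hn
    have hS : ((S : Subgroup G).subgroupOf (normalizer (F.Q : Set G))) ≤ ψ.ker := fun x hx => by
      obtain ⟨d, hd, e⟩ := F.surj (x : G) hx
      obtain ⟨v, hv', hdv⟩ := four_of_T ⟨d, hd⟩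
      have : F.π x = v := by
        rw [show x = ⟨F.p d, hSN (F.p_mem d hd)⟩ from Subtype.ext e.symm]
        exact Equiv.ext fun i => (F.π_T hd i).trans (hdv i)
      show Perm.sign (F.π x) = 1
      rw [this]
      exact four_sign v hv'
    have h2 : ψ.ker.index = 2 := by
      rw [index_ker]
      have hne : ψ.range ≠ ⊥ := fun h => hn (by
        have : ψ n ∈ ψ.range := ⟨n, rfl⟩
        rw [h, mem_bot] at this; exact this)
      have hle : Nat.card ψ.range ≤ 2 :=
        (card_le_card_group _).trans (by simp [Nat.card_eq_fintype_card, Fintype.card_units_int])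
      have := Finite.one_lt_card_iff_nontrivial.2 ((nontrivial_iff_ne_bot _).2 hne)
      omega
    have hodd : ¬ 2 ∣ ((S : Subgroup G).subgroupOf (normalizer (F.Q : Set G))).index :=
      fun hd => S.not_dvd_index (hd.trans (relIndex_dvd_index_of_le hSN))
    have hd := index_dvd_of_le hS
    rw [h2] at hd
    exact hodd hd
  obtain ⟨g, hg, x, hx, hgx⟩ := hmove
  exact eq_alternating hI hv ⟨⟨g, hg⟩, rfl⟩ fun h => hgx (F.mem_w_of_fix h hx)

end CfsgLib.SylJanko
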