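import Cfsg.Agent.Lib.SylJanko.Unique
import Cfsg.Agent.Lib.Janko2.Centralizer
import Cfsg.Agent.Lib.Fusion.ZStarCenter
import Cfsg.Agent.S1620

/-!
The centraliser of a central involution modulo its odd core.
-/

set_option autoImplicit false
set_option maxRecDepth 100000
set_option linter.style.haveILetI false

namespace CfsgLib.SylJanko

open Subgroup

universe u

/-- The setting in the centraliser modulo its odd core, numbered by the images of the numbering. -/
theorem exists_setting' {G : Type u} [Group G] [Finite G] (S : Sylow 2 G)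
    (F : Frame (S : Subgroup G)) (h2 : ∀ H : Subgroup G, H.Normal → H.index ≠ 2) :
    ∃ D : Setting (↥(centralizer ({F.z} : Set G)) ⧸ Cfsg.oddCore ↥(centralizer ({F.z} : Set G))),
      ∀ (d : ℕ) (hd : d < 128), D.F.p d = QuotientGroup.mk'
        (Cfsg.oddCore ↥(centralizer ({F.z} : Set G)))
        ⟨F.p d, mem_centralizer_singleton_iff.2 (F.z_central (F.p_mem d hd))⟩ := by
  haveI : Fact (Nat.Prime 2) := ⟨Nat.prime_two⟩
  set C := centralizer ({F.z} : Set G)
  haveI hOn : (Cfsg.oddCore ↥C).Normal := Cfsg.pPrimeCore_normal 2 ↥C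
  have hSC : (S : Subgroup G) ≤ C := fun x hx => mem_centralizer_singleton_iff.2 (F.z_central hx)
  let q : ↥C →* ↥C ⧸ Cfsg.oddCore ↥C := QuotientGroup.mk' _
  have hqs : Function.Surjective q := QuotientGroup.mk'_surjective _
  let SC : Sylow 2 ↥C := S.subtype hSC
  have hinj : ∀ x ∈ (SC : Subgroup ↥C), q x = 1 → x = 1 := by
    intro x hx h
    have ho : x ∈ Cfsg.oddCore ↥C := (QuotientGroup.eq_one_iff x).1 h
    have h1 := (Cfsg.oddCore ↥C).orderOf_dvd_natCard ho
    obtain ⟨k, hk⟩ := IsPGroup.iff_card.1 SC.2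
    have h2 := (SC : Subgroup ↥C).orderOf_dvd_natCard hx
    rw [hk] at h2
    exact orderOf_eq_one_iff.1 (Nat.eq_one_of_dvd_coprimes
      (Nat.Coprime.pow_left k (Nat.coprime_two_left.2 (Invol.odd_card_oddCore ↥C))) h2 h1)
  have hinj' : ∀ x ∈ (SC : Subgroup ↥C), ∀ y ∈ (SC : Subgroup ↥C), q x = q y → x = y := by
    intro x hx y hy h
    refine eq_of_mul_inv_eq_one (hinj _ (mul_mem hx (inv_mem hy)) ?_)
    rw [map_mul, map_inv, h, mul_inv_cancel]
  let p' : ℕ → ↥C ⧸ Cfsg.oddCore ↥C := fun d =>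
    if h : d < 128 then q ⟨F.p d, hSC (F.p_mem d h)⟩ else 1
  have hp' : ∀ d (h : d < 128), p' d = q ⟨F.p d, hSC (F.p_mem d h)⟩ := fun d h => dif_pos h
  let F' : Frame ((Sylow.mapSurjective hqs SC : Sylow 2 _) : Subgroup (↥C ⧸ Cfsg.oddCore ↥C)) :=
    { p := p'
      p_mem := fun d hd => by rw [hp' d hd]; exact ⟨_, F.p_mem d hd, rfl⟩
      surj := fun x hx => by
        obtain ⟨y, hy, rfl⟩ := hx
        obtain ⟨d, hd, e⟩ := F.surj _ hy
        exact ⟨d, hd, by rw [hp' d hd]; exact congrArg q (Subtype.ext e)⟩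
      inj := fun a ha b hb h => by
        rw [hp' a ha, hp' b hb] at h
        exact F.inj a ha b hb (congrArg Subtype.val
          (hinj' _ (F.p_mem a ha) _ (F.p_mem b hb) h))
      mul := fun a ha b hb => by
        rw [hp' a ha, hp' b hb, hp' _ (mt_lt a b), ← map_mul]
        exact congrArg q (Subtype.ext (F.mul a ha b hb)) }
  have hz' : F'.z = q ⟨F.z, hSC F.z_mem⟩ := hp' zIdx (by decide)
  have hset : ∀ {m : ℕ}, closedOK m = true → ∀ x : ↥C, x ∈ (SC : Subgroup ↥C) →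
      (q x ∈ F'.sub m ↔ (x : G) ∈ F.sub m) := by
    intro m hm x hx
    obtain ⟨d, hd, e⟩ := F.surj (x : G) hx
    rw [show x = ⟨F.p d, hSC (F.p_mem d hd)⟩ from Subtype.ext e.symm, ← hp' d hd]
    show F'.p d ∈ F'.sub m ↔ F.p d ∈ F.sub m
    rw [F'.mem_sub hm hd, F.mem_sub hm hd]
  refine ⟨⟨Sylow.mapSurjective hqs SC, F', fun g => ?_,
    Fusion.oddCore_quotient_oddCore, ?_⟩, hp'⟩
  · obtain ⟨c, rfl⟩ := hqs g
    rw [hz', ← map_mul, ← map_mul]
    exact congrArg q (Subtype.ext (mem_centralizer_singleton_iff.1 c.2))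
  · obtain ⟨g, hg, x, hx, hgx⟩ := exists_mover S F h2
    have hgC : g ∈ C := mem_centralizer_singleton_iff.2 (mul_inv_eq_iff_eq_mul.1 (F.conj_z hg))
    have hxQ : x ∈ F.Q := (F.mem_w.1 hx).1
    haveI : Finite (F'.Q : Set (↥C ⧸ Cfsg.oddCore ↥C)) := Subtype.finite
    refine ⟨q ⟨g, hgC⟩, mem_normalizer_fintype fun y hy => ?_,
      q ⟨x, hSC (F.Q_le hxQ)⟩, (hset closed_w _ (F.Q_le hxQ)).2 hx, fun h => hgx ?_⟩
    · obtain ⟨d, hd, rfl⟩ := F'.surj y (F'.Q_le hy)
      have hdQ : F.p d ∈ F.Q :=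
        (F.mem_sub closed_q hd).2 ((F'.mem_sub closed_q hd).1 hy)
      have hcQ : g * F.p d * g⁻¹ ∈ F.Q := (mem_normalizer_iff.1 hg _).1 hdQ
      rw [show F'.p d = q ⟨F.p d, hSC (F.p_mem d hd)⟩ from hp' d hd, ← map_inv, ← map_mul, ← map_mul]
      exact (hset closed_q _ (F.Q_le hcQ)).2 hcQ
    · have hcS : g * x * g⁻¹ ∈ (S : Subgroup G) := F.Q_le ((mem_normalizer_iff.1 hg _).1 hxQ)
      rw [← map_inv, ← map_mul, ← map_mul] at h
      exact (hset closed_w _ hcS).1 h

/-- The setting in the centraliser modulo its odd core. -/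
theorem exists_setting {G : Type u} [Group G] [Finite G] (S : Sylow 2 G)
    (F : Frame (S : Subgroup G)) (h2 : ∀ H : Subgroup G, H.Normal → H.index ≠ 2) :
    Nonempty (Setting (↥(centralizer ({F.z} : Set G)) ⧸
      Cfsg.oddCore ↥(centralizer ({F.z} : Set G)))) :=
  ⟨(exists_setting' S F h2).choose⟩

/-- A central involution of a Sylow subgroup of `J₂` has a centraliser of order `1920`. -/
theorem exists_j2_central : ∃ (z' : Cfsg.Spor.J2) (Q : Sylow 2 Cfsg.Spor.J2), orderOf z' = 2 ∧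
    z' ∈ (Q : Subgroup Cfsg.Spor.J2) ∧ (∀ s ∈ (Q : Subgroup Cfsg.Spor.J2), s * z' = z' * s) ∧
    Nat.card (centralizer ({z'} : Set Cfsg.Spor.J2)) = 1920 := by
  classical
  haveI : Fact (Nat.Prime 2) := ⟨Nat.prime_two⟩
  haveI : Finite Cfsg.Spor.J2 := Finite.of_equiv _ Janko2.equivPP.symm.toEquiv
  set z' : Cfsg.Spor.J2 := Janko2.equivPP.symm (Janko2.cP Janko2.pt0) with hz'
  have hC : Nat.card (centralizer ({z'} : Set Cfsg.Spor.J2)) = 1920 := by
    have he : (centralizer ({z'} : Set Cfsg.Spor.J2)).map Janko2.equivPP.toMonoidHom =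
        centralizer {Janko2.cP Janko2.pt0} := by
      ext x
      rw [mem_map_equiv, mem_centralizer_singleton_iff, mem_centralizer_singleton_iff, hz']
      constructor
      · intro h
        simpa using congrArg Janko2.equivPP h
      · intro h
        refine Janko2.equivPP.injective ?_
        simpa using h
    rw [← card_map_of_injective (f := Janko2.equivPP.toMonoidHom) Janko2.equivPP.injective, he,
      Janko2.centralizer_cP 1 (one_smul _ _), card_map_of_injective (MulAut.conj 1).injective,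
      Janko2.card_stabilizer]
  have hord : orderOf z' = 2 := by
    refine orderOf_eq_prime ?_ fun h => ?_
    · rw [pow_two, hz', ← map_mul, Janko2.cP_sq, map_one]
    · have h604 : Nat.card Cfsg.Spor.J2 = 604800 :=
        (Nat.card_congr Janko2.equivPP.toEquiv).trans Janko2.card_PP
      rw [h, show centralizer ({1} : Set Cfsg.Spor.J2) = ⊤ from eq_top_iff.2 fun x _ =>
        mem_centralizer_singleton_iff.2 (by simp), card_top, h604] at hC
      omega
  set C := centralizer ({z'} : Set Cfsg.Spor.J2)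
  obtain ⟨R⟩ : Nonempty (Sylow 2 ↥C) := inferInstance
  obtain ⟨Q, hQ⟩ := (R.2.map C.subtype).exists_le_sylow
  have hR128 : 128 ≤ Nat.card (R : Subgroup ↥C) :=
    Nat.le_of_dvd Nat.card_pos (R.pow_dvd_card_of_pow_dvd_card (show 2 ^ 7 ∣ Nat.card ↥C by
      rw [hC]; norm_num))
  have hQeq : (R : Subgroup ↥C).map C.subtype = (Q : Subgroup Cfsg.Spor.J2) := by
    refine eq_of_le_of_card_ge hQ ?_
    obtain ⟨k, hk⟩ := IsPGroup.iff_card.1 Q.2
    have hd : Nat.card (Q : Subgroup Cfsg.Spor.J2) ∣ 604800 := by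
      have := card_subgroup_dvd_card (Q : Subgroup Cfsg.Spor.J2)
      rwa [(Nat.card_congr Janko2.equivPP.toEquiv).trans Janko2.card_PP] at this
    rw [card_map_of_injective C.subtype_injective, hk]
    rw [hk] at hd
    refine le_trans ?_ hR128
    by_contra hlt
    have : 2 ^ 8 ∣ 604800 := (pow_dvd_pow 2 (show 8 ≤ k by
      by_contra hk8
      exact hlt ((Nat.pow_le_pow_right (by norm_num) (show k ≤ 7 by omega)).trans le_rfl))).trans hd
    revert this; decide
  refine ⟨z', Q, hord, ?_, fun s hs => ?_, hC⟩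
  · have hzC : z' ∈ C := mem_centralizer_singleton_iff.2 rfl
    have hzR : (⟨z', hzC⟩ : ↥C) ∈ (R : Subgroup ↥C) := by
      haveI : (zpowers (⟨z', hzC⟩ : ↥C)).Normal := ⟨fun n hn g => by
        obtain ⟨k, hk⟩ := mem_zpowers_iff.1 hn
        have hc : Commute g (⟨z', hzC⟩ : ↥C) :=
          Subtype.ext (mem_centralizer_singleton_iff.1 g.2)
        rw [← hk, (hc.zpow_right k).eq, mul_inv_cancel_right]
        exact zpow_mem (mem_zpowers _) k⟩
      refine Solvable.normal_pgroup_le_sylow (N := zpowers (⟨z', hzC⟩ : ↥C)) ?_ R (mem_zpowers _)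
      refine IsPGroup.of_card (n := 1) ?_
      rw [Nat.card_zpowers, ← Subgroup.orderOf_coe, hord, pow_one]
    rw [← hQeq]; exact ⟨_, hzR, rfl⟩
  · rw [← hQeq] at hs
    obtain ⟨r, -, rfl⟩ := hs
    exact mem_centralizer_singleton_iff.1 r.2

theorem j2_no_index_two : ∀ H : Subgroup Cfsg.Spor.J2, H.Normal → H.index ≠ 2 := by
  obtain ⟨hs, a, b, hab⟩ := Cfsg.Agent.S1620.result
  intro H hH hidx
  rcases hH.eq_bot_or_eq_top with h | h
  · haveI : Finite Cfsg.Spor.J2 := Finite.of_equiv _ Janko2.equivPP.symm.toEquiv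
    rw [h, index_bot, (Nat.card_congr Janko2.equivPP.toEquiv).trans Janko2.card_PP] at hidx
    omega
  · rw [h, index_top] at hidx; omega

theorem z_eq {G : Type u} [Group G] {T : Subgroup G} (F : Frame T) {z : G} (hz : orderOf z = 2)
    (hzS : z ∈ T) (hzc : ∀ s ∈ T, s * z = z * s) : z = F.z :=
  (F.center_cases hzS fun y hy => (hzc y hy).symm).resolve_left fun h => by
    rw [h, orderOf_one] at hz; omega

/-- The centraliser modulo its odd core is that of `J₂`. -/
theorem centralizer_quotient {G : Type u} [Group G] [Finite G] (S : Sylow 2 G)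
    (P : Sylow 2 Cfsg.Spor.J2) (hS : Nonempty (↥(S : Subgroup G) ≃* ↥(P : Subgroup Cfsg.Spor.J2)))
    (h2 : ∀ H : Subgroup G, H.Normal → H.index ≠ 2) (z : G) (hz : orderOf z = 2)
    (hzS : z ∈ (S : Subgroup G)) (hzc : ∀ s ∈ (S : Subgroup G), s * z = z * s) :
    ∃ (z' : Cfsg.Spor.J2) (Q : Sylow 2 Cfsg.Spor.J2), orderOf z' = 2 ∧
      z' ∈ (Q : Subgroup Cfsg.Spor.J2) ∧ (∀ s ∈ (Q : Subgroup Cfsg.Spor.J2), s * z' = z' * s) ∧
      Nonempty ((↥(centralizer ({z} : Set G)) ⧸ Cfsg.oddCore ↥(centralizer ({z} : Set G))) ≃*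
        ↥(centralizer ({z'} : Set Cfsg.Spor.J2))) := by
  haveI : Fact (Nat.Prime 2) := ⟨Nat.prime_two⟩
  haveI : Finite Cfsg.Spor.J2 := Finite.of_equiv _ Janko2.equivPP.symm.toEquiv
  obtain ⟨z', Q, ho, hzQ, hQc, hC⟩ := exists_j2_central
  obtain ⟨F⟩ := exists_frame P hS
  obtain ⟨F₂⟩ := exists_frame (T := (Q : Subgroup Cfsg.Spor.J2)) P ⟨Q.equiv P⟩
  obtain rfl := z_eq F hz hzS hzc
  obtain rfl := z_eq F₂ ho hzQ hQc
  obtain ⟨D₁⟩ := exists_setting S F h2
  obtain ⟨D₂⟩ := exists_setting Q F₂ j2_no_index_two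
  obtain ⟨e⟩ := nonempty_equiv D₁ D₂
  set C := centralizer ({F₂.z} : Set Cfsg.Spor.J2)
  haveI : (Cfsg.oddCore ↥C).Normal := Cfsg.pPrimeCore_normal 2 ↥C
  have hbij : Function.Bijective (QuotientGroup.mk' (Cfsg.oddCore ↥C)) :=
    (Nat.bijective_iff_surjective_and_card _).2 ⟨QuotientGroup.mk'_surjective _,
      hC.trans D₂.structure_thm.2.2.2.symm⟩
  exact ⟨F₂.z, Q, ho, hzQ, hQc, ⟨e.trans (MulEquiv.ofBijective _ hbij).symm⟩⟩

end CfsgLib.SylJanko
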