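import Cfsg.Agent.Lib.SylJanko.Closed
import Cfsg.Agent.Lib.SylAltEight.Main
import Cfsg.Agent.Lib.Solvable.PCore

/-!
With a central involution and trivial odd core, the extraspecial subgroup is normal and the group
is an extension of it by the alternating group of degree five.
-/

set_option autoImplicit false
set_option maxRecDepth 100000
set_option linter.style.haveILetI false

namespace CfsgLib.SylJanko

open Subgroup Equiv

universe u

theorem Frame.card_sub {G : Type u} [Group G] {T : Subgroup G} (F : Frame T) {m : ℕ}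
    (h : closedOK m = true) : Nat.card (F.sub m) = (elems m).length := by
  classical
  rw [← Fintype.card_fin (elems m).length, ← Nat.card_eq_fintype_card]
  have hm : ∀ k : Fin (elems m).length, (elems m)[k] < 128 ∧ mem m (elems m)[k] = true :=
    fun k => mem_elems.1 (List.getElem_mem _)
  refine (Nat.card_congr (Equiv.ofBijective
    (fun k : Fin (elems m).length => (⟨F.p (elems m)[k], (F.mem_sub h (hm k).1).2 (hm k).2⟩ :
      ↥(F.sub m))) ⟨fun a b e => ?_, fun x => ?_⟩)).symm
  · have := F.inj _ (hm a).1 _ (hm b).1 (congrArg Subtype.val e)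
    exact Fin.ext ((List.nodup_range.filter _).getElem_inj_iff.1 this)
  · obtain ⟨d, hd, e⟩ := F.surj x (F.sub_le m x.2)
    have hd' : mem m d = true := by rw [← F.mem_sub h hd, e]; exact x.2
    obtain ⟨k, hk, e'⟩ := List.mem_iff_getElem.1 (mem_elems.2 ⟨hd, hd'⟩)
    exact ⟨⟨k, hk⟩, Subtype.ext (by simp only [Fin.getElem_fin, e', e])⟩

/-- The hypotheses on the centraliser modulo its odd core. -/
structure Setting (Y : Type u) [Group Y] [Finite Y] where
  /-- The Sylow subgroup. -/
  S : Sylow 2 Y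
  /-- Its numbering. -/
  F : Frame (S : Subgroup Y)
  hz : ∀ g : Y, g * F.z = F.z * g
  hO : Cfsg.oddCore Y = ⊥
  hmove : ∃ g ∈ normalizer (F.Q : Set Y), ∃ x ∈ F.sub wMask, g * x * g⁻¹ ∉ F.sub wMask

/-- An odd normal subgroup of `Y / ⟨z⟩` is trivial when `O(Y) = 1`. -/
theorem eq_bot_of_odd_image {Y X : Type u} [Group Y] [Finite Y] [Group X] (q : Y →* X) {z : Y}
    (hzc : ∀ g, g * z = z * g) (hz2 : orderOf z = 2) (hker : q.ker = zpowers z)
    (hO : Cfsg.oddCore Y = ⊥) {L : Subgroup Y} [L.Normal] (hzL : z ∈ L)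
    (hodd : Odd (Nat.card (L.map q))) : L ≤ zpowers z := by
  haveI : Fact (Nat.Prime 2) := ⟨Nat.prime_two⟩
  let N : Subgroup ↥L := (zpowers z).subgroupOf L
  haveI : N.Normal := ⟨fun n hn g => by
    simp only [N, mem_subgroupOf, coe_mul, InvMemClass.coe_inv] at hn ⊢
    obtain ⟨k, hk⟩ := mem_zpowers_iff.1 hn
    rw [← hk]
    have : Commute (g : Y) (z ^ k) := Commute.zpow_right (hzc (g : Y)) k
    rw [this.eq, mul_inv_cancel_right]
    exact zpow_mem (mem_zpowers z) k⟩
  have hzle : zpowers z ≤ L := zpowers_le.2 hzL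
  have hN2 : Nat.card N = 2 := by
    rw [Nat.card_congr (subgroupOfEquivOfLe hzle).toEquiv, Nat.card_zpowers, hz2]
  have hidx : Odd N.index := by
    let ψ : ↥L →* X := q.comp L.subtype
    have hk : ψ.ker = N := by rw [← MonoidHom.comap_ker, hker]; rfl
    rw [← hk, index_ker, MonoidHom.range_comp, range_subtype]
    exact hodd
  obtain ⟨K, hK⟩ := exists_right_complement'_of_coprime (N := N)
    (by rw [hN2]; exact Nat.coprime_two_left.2 hidx)
  have hKodd : Odd (Nat.card K) := by rw [← hK.symm.index_eq_card]; exact hidx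
  set m := Nat.card K with hm
  have hmem : ∀ x : ↥L, x ∈ K ↔ x ^ m = 1 := by
    intro x
    refine ⟨fun hx => ?_, fun hx => ?_⟩
    · have := orderOf_dvd_iff_pow_eq_one.1 (K.orderOf_dvd_natCard hx); exact this
    obtain ⟨⟨n, k⟩, hnk⟩ := hK.2 x
    have hnk' : (n : ↥L) * (k : ↥L) = x := hnk
    have hc : Commute (n : ↥L) (k : ↥L) := by
      refine Subtype.ext ?_
      obtain ⟨j, hj⟩ := mem_zpowers_iff.1 (mem_subgroupOf.1 n.2)
      simp only [coe_mul, ← hj]
      exact (Commute.zpow_right (hzc ((k : ↥L) : Y)) j).symm.eq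
    rw [← hnk', hc.mul_pow] at hx
    rw [show (k : ↥L) ^ m = 1 from orderOf_dvd_iff_pow_eq_one.1 (K.orderOf_dvd_natCard k.2),
      mul_one] at hx
    have h1 : orderOf (n : ↥L) ∣ 2 := hN2 ▸ N.orderOf_dvd_natCard n.2
    have h2 : orderOf (n : ↥L) ∣ m := orderOf_dvd_of_pow_eq_one hx
    have : (n : ↥L) = 1 := orderOf_eq_one_iff.1
      (Nat.eq_one_of_dvd_coprimes (Nat.coprime_two_left.2 hKodd) h1 h2)
    rw [← hnk', this, one_mul]
    exact k.2
  have hKn : (K.map L.subtype).Normal := ⟨by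
    rintro _ ⟨k, hk, rfl⟩ g
    have hg : g * (k : Y) * g⁻¹ ∈ L := Normal.conj_mem inferInstance _ k.2 g
    refine ⟨⟨_, hg⟩, (hmem _).2 (Subtype.ext ?_), rfl⟩
    rw [SubmonoidClass.coe_pow, conj_pow, ← SubmonoidClass.coe_pow, (hmem k).1 hk,
      OneMemClass.coe_one, mul_one, mul_inv_cancel]⟩
  have hKbot : K.map L.subtype = ⊥ := by
    rw [← le_bot_iff, ← hO]
    refine Solvable.le_pPrimeCore hKn ?_
    rw [card_map_of_injective L.subtype_injective]
    exact Nat.coprime_two_right.2 hKodd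
  intro x hx
  obtain ⟨⟨n, k⟩, hnk⟩ := hK.2 ⟨x, hx⟩
  have : ((k : ↥L) : Y) = 1 := by
    have h' : ((k : ↥L) : Y) ∈ K.map L.subtype := ⟨_, k.2, rfl⟩
    rwa [hKbot, mem_bot] at h'
  have e : ((n : ↥L) : Y) * ((k : ↥L) : Y) = x := congrArg Subtype.val hnk
  rw [← e, this, mul_one]
  exact n.2

namespace Setting

variable {Y : Type u} [Group Y] [Finite Y] (D : Setting Y)

theorem zpowers_normal : (zpowers D.F.z).Normal :=
  ⟨fun n hn g => by
    obtain ⟨k, hk⟩ := mem_zpowers_iff.1 hn
    rw [← hk, (Commute.zpow_right (D.hz g) k).eq, mul_inv_cancel_right]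
    exact zpow_mem (mem_zpowers _) k⟩

theorem mem_zpowers_cases {g : Y} (h : g ∈ zpowers D.F.z) : g = 1 ∨ g = D.F.z := by
  obtain ⟨k, hk⟩ := mem_zpowers_iff.1 h
  rw [← hk, ← zpow_mod_orderOf, D.F.orderOf_z]
  rcases Int.emod_two_eq_zero_or_one k with e | e <;> simp [e]

theorem S_le : (D.S : Subgroup Y) ≤ normalizer (D.F.Q : Set Y) := D.F.T_le_normalizer

theorem π_Q {n : ↥(normalizer (D.F.Q : Set Y))} (hn : (n : Y) ∈ D.F.Q) : D.F.π n = 1 := by
  obtain ⟨d, hd, e⟩ := D.F.surj _ (D.F.Q_le hn)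
  have h : ((List.range 128).all fun d => !mem qMask d ||
      (List.finRange 5).all fun i => permFun d i == i) = true := by decide +kernel
  have := List.all_eq_true.1 h d (List.mem_range.2 hd)
  rw [(D.F.mem_sub closed_q hd).1 (e ▸ hn)] at this
  simp only [Bool.not_true, Bool.false_or, List.all_eq_true, List.mem_finRange, true_implies,
    beq_iff_eq] at this
  rw [show n = ⟨D.F.p d, D.F.T_le_normalizer (D.F.p_mem d hd)⟩ from Subtype.ext e.symm]
  exact Equiv.ext fun i => (D.F.π_T hd i).trans (this i)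

/-- The structure: `Q` is normal, its centraliser is `⟨z⟩`, the order is `1920`, and the kernel of
the action on the pairs is `Q`. -/
theorem structure_thm :
    D.F.Q.Normal ∧ centralizer (D.F.Q : Set Y) ≤ zpowers D.F.z ∧
      (∀ n, D.F.π n = 1 ↔ (n : Y) ∈ D.F.Q) ∧ Nat.card Y = 1920 := by
  classical
  haveI : Fact (Nat.Prime 2) := ⟨Nat.prime_two⟩
  have hrange := range_π D.S D.F D.hmove
  set z := D.F.z with hzdef
  haveI := D.zpowers_normal
  let q : Y →* Y ⧸ zpowers z := QuotientGroup.mk' _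
  have hqs : Function.Surjective q := QuotientGroup.mk'_surjective _
  have hker : q.ker = zpowers z := QuotientGroup.ker_mk' _
  have hzQ : zpowers z ≤ D.F.Q := zpowers_le.2 D.F.z_mem_Q
  let A := D.F.Q.map q
  have hcomapA : A.comap q = D.F.Q := by
    rw [comap_map_eq, hker, sup_eq_left]; exact hzQ
  have h2z : Nat.card q.ker = 2 := by rw [hker, Nat.card_zpowers, D.F.orderOf_z]
  have hcard : ∀ H : Subgroup Y, zpowers z ≤ H → Nat.card H = Nat.card (H.map q) * 2 := by
    intro H hH
    let ψ : ↥H →* Y ⧸ zpowers z := q.comp H.subtype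
    have hk : ψ.ker = (zpowers z).subgroupOf H := by rw [← MonoidHom.comap_ker, hker]; rfl
    rw [card_eq_card_quotient_mul_card_subgroup ψ.ker,
      Nat.card_congr (QuotientGroup.quotientKerEquivRange ψ).toEquiv, hk,
      Nat.card_congr (subgroupOfEquivOfLe hH).toEquiv, Nat.card_zpowers, D.F.orderOf_z,
      MonoidHom.range_comp, range_subtype]
  have hQ32 : Nat.card D.F.Q = 32 := by rw [D.F.card_sub closed_q]; decide +kernel
  have hA16 : Nat.card A = 16 := by
    have := hcard _ hzQ; rw [hQ32] at this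
    show Nat.card (D.F.Q.map q) = 16
    omega
  let S' : Sylow 2 (Y ⧸ zpowers z) := Sylow.mapSurjective hqs D.S
  have hS' : (S' : Subgroup (Y ⧸ zpowers z)) = (D.S : Subgroup Y).map q := rfl
  have hS64 : Nat.card (S' : Subgroup (Y ⧸ zpowers z)) = 64 := by
    have := hcard _ (hzQ.trans D.F.Q_le)
    rw [D.F.card_T] at this; rw [hS']; omega
  have hqz : q z = 1 := (QuotientGroup.eq_one_iff _).2 (mem_zpowers z)
  have hsame : ∀ {a b : Y}, q a = q b → ∃ c, (c = 1 ∨ c = z) ∧ b = a * c := by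
    intro a b h
    exact ⟨a⁻¹ * b, D.mem_zpowers_cases ((QuotientGroup.eq).1 h), (mul_inv_cancel_left a b).symm⟩
  have hqp : ∀ {a b : ℕ}, a < 128 → b < 128 → (a = b ∨ a = mt b zIdx) →
      q (D.F.p a) = q (D.F.p b) := by
    rintro a b ha hb (rfl | rfl)
    · rfl
    · rw [← D.F.mul _ hb _ (by decide), map_mul]
      show q (D.F.p b) * q z = _
      rw [hqz, mul_one]
  have hAel : Cfsg.IsElementaryAbelian 2 A := by
    have hc : ((List.range 128).all fun a => !mem qMask a ||
        ((Nat.beq (mt a a) 0 || Nat.beq (mt a a) zIdx) && (List.range 128).all fun b =>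
          !mem qMask b || Nat.beq (mt a b) (mt b a) ||
            Nat.beq (mt a b) (mt (mt b a) zIdx))) = true := by decide +kernel
    have hspec : ∀ a < 128, mem qMask a = true → ((mt a a = 0 ∨ mt a a = zIdx) ∧
        ∀ b < 128, mem qMask b = true → (mt a b = mt b a ∨ mt a b = mt (mt b a) zIdx)) := by
      intro a ha hm
      have h := List.all_eq_true.1 hc a (List.mem_range.2 ha)
      rw [hm] at h
      simp only [Bool.not_true, Bool.false_or, Bool.and_eq_true, Bool.or_eq_true, beq_true,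
        List.all_eq_true, List.mem_range, Bool.not_eq_true'] at h
      refine ⟨h.1, fun b hb hmb => ?_⟩
      rcases h.2 b hb with (h' | h') | h'
      · rw [hmb] at h'; exact absurd h' (by decide)
      · exact Or.inl h'
      · exact Or.inr h'
    refine ⟨⟨⟨fun x y => Subtype.ext ?_⟩⟩, fun x hx => ?_⟩
    · obtain ⟨a, ha, hxa⟩ := x.2
      obtain ⟨b, hb, hyb⟩ := y.2
      obtain ⟨a', ha', rfl⟩ := D.F.surj a (D.F.Q_le ha)
      obtain ⟨b', hb', rfl⟩ := D.F.surj b (D.F.Q_le hb)
      show (x : Y ⧸ zpowers z) * y = y * x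
      rw [← hxa, ← hyb, ← map_mul, ← map_mul, D.F.mul _ ha' _ hb', D.F.mul _ hb' _ ha']
      exact hqp (mt_lt _ _) (mt_lt _ _) ((hspec a' ha' ((D.F.mem_sub closed_q ha').1 ha)).2 b' hb'
        ((D.F.mem_sub closed_q hb').1 hb))
    · obtain ⟨a, ha, rfl⟩ := hx
      obtain ⟨a', ha', rfl⟩ := D.F.surj a (D.F.Q_le ha)
      rw [← map_pow, pow_two, D.F.mul _ ha' _ ha']
      rcases (hspec a' ha' ((D.F.mem_sub closed_q ha').1 ha)).1 with e | e <;> rw [e]
      · rw [D.F.p_zero, map_one]
      · exact hqz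
  have hZ : Nat.card (center ↥(S' : Subgroup (Y ⧸ zpowers z))) ≤ 2 := by
    have hc : ((List.range 128).all fun d =>
        Nat.beq d 0 || Nat.beq d 32 || Nat.beq d 64 || Nat.beq d 96 ||
        (List.range 128).any fun e => !Nat.beq (mt d e) (mt e d) &&
          !Nat.beq (mt d e) (mt (mt e d) zIdx)) = true := by decide +kernel
    let f : Fin 2 → ↥(S' : Subgroup (Y ⧸ zpowers z)) := fun j =>
      ⟨q (D.F.p (32 * j.val)), ⟨_, D.F.p_mem _ (by omega), rfl⟩⟩
    refine le_trans (Nat.card_le_card_of_injective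
      (β := Set.range f) (fun c => ⟨c.1, ?_⟩) fun c c' h => Subtype.ext (congrArg Subtype.val h :)) ?_
    · obtain ⟨y, hy, hyc⟩ := c.1.2
      obtain ⟨d, hd, rfl⟩ := D.F.surj y hy
      have h := List.all_eq_true.1 hc d (List.mem_range.2 hd)
      simp only [Bool.or_eq_true, beq_true, List.any_eq_true, List.mem_range, Bool.and_eq_true,
        Bool.not_eq_true'] at h
      rcases h with (((rfl | rfl) | rfl) | rfl) | ⟨e, he, h1, h2⟩
      · exact ⟨0, Subtype.ext hyc⟩
      · exact ⟨1, Subtype.ext hyc⟩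
      · exact ⟨0, Subtype.ext ((hqp (by norm_num) (by norm_num) (Or.inr (by decide +kernel))).symm.trans hyc)⟩
      · exact ⟨1, Subtype.ext ((hqp (by norm_num) (by norm_num) (Or.inr (by decide +kernel))).symm.trans hyc)⟩
      · exfalso
        have hcomm := congrArg Subtype.val
          (mem_center_iff.1 c.2 ⟨q (D.F.p e), ⟨_, D.F.p_mem e he, rfl⟩⟩)
        simp only [coe_mul, ← hyc, ← map_mul, D.F.mul e he d hd, D.F.mul d hd e he] at hcomm
        obtain ⟨w, hw, hw'⟩ := hsame hcomm
        rcases hw with rfl | rfl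
        · rw [mul_one] at hw'
          rw [D.F.inj _ (mt_lt d e) _ (mt_lt e d) hw', Nat.beq_refl] at h1; exact absurd h1 (by decide)
        · rw [show z = D.F.p zIdx from rfl, D.F.mul _ (mt_lt e d) _ (by decide)] at hw'
          rw [D.F.inj _ (mt_lt d e) _ (mt_lt _ _) hw', Nat.beq_refl] at h2; exact absurd h2 (by decide)
    · exact (Nat.card_le_card_of_surjective _ Set.rangeFactorization_surjective).trans
        (le_of_eq (Nat.card_fin 2))
  -- the normalizer of `A`
  let N := normalizer (A : Set (Y ⧸ zpowers z))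
  have hNeq : N.comap q = normalizer (D.F.Q : Set Y) := by
    have := comap_normalizer_eq_of_surjective A hqs
    rw [hcomapA] at this
    exact this
  let p₀ : ↥(normalizer (D.F.Q : Set Y)) →* ↥N :=
    (q.comp (normalizer (D.F.Q : Set Y)).subtype).codRestrict N fun n => by
      show q (n : Y) ∈ N
      rw [← mem_comap, hNeq]; exact n.2
  have hp₀ : Function.Surjective p₀ := fun m => by
    obtain ⟨n, hn⟩ := hqs (m : Y ⧸ zpowers z)
    exact ⟨⟨n, by rw [← hNeq, mem_comap, hn]; exact m.2⟩, Subtype.ext hn⟩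
  have hkle : ∀ n, p₀ n = 1 → D.F.π n = 1 := fun n hn => by
    refine D.π_Q (hzQ ?_)
    rw [← hker]; exact congrArg Subtype.val hn
  obtain ⟨φ₀, hφ₀⟩ : ∃ φ : ↥N →* Perm (Fin 5), ∀ n, φ (p₀ n) = D.F.π n :=
    ⟨(p₀.liftOfSurjective hp₀) ⟨D.F.π, fun n hn => hkle n hn⟩,
      fun n => MonoidHom.liftOfRightInverse_comp_apply _ _ _ _ _⟩
  have hφ₀r : φ₀.range = alternatingGroup (Fin 5) := by
    rw [← hrange]
    ext σ
    constructor
    · rintro ⟨m, rfl⟩; obtain ⟨n, rfl⟩ := hp₀ m; exact ⟨n, (hφ₀ n).symm⟩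
    · rintro ⟨n, rfl⟩; exact ⟨p₀ n, hφ₀ n⟩
  -- the centralizer of `Q`
  let C := centralizer (D.F.Q : Set Y)
  have hzC : z ∈ C := mem_centralizer_iff.2 fun h _ => D.hz h
  have hCN : C ≤ normalizer (D.F.Q : Set Y) := centralizer_le_normalizer _
  have hCodd : Odd (Nat.card (C.map q)) := by
    let C₀ : Subgroup ↥(normalizer (D.F.Q : Set Y)) := C.subgroupOf _
    haveI : C₀.Normal := normal_subgroupOf_centralizer_normalizer _
    let S₀ : Sylow 2 ↥(normalizer (D.F.Q : Set Y)) := D.S.subtype D.S_le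
    obtain ⟨R⟩ : Nonempty (Sylow 2 ↥C₀) := inferInstance
    obtain ⟨W, hW⟩ := (R.2.map C₀.subtype).exists_le_sylow
    obtain ⟨n, hn⟩ := MulAction.exists_smul_eq ↥(normalizer (D.F.Q : Set Y)) W S₀
    have hR2 : Nat.card (R : Subgroup ↥C₀) ≤ 2 := by
      refine le_trans (Nat.card_le_card_of_injective
        (fun r => (⟨((n * ((r : ↥C₀) : ↥(normalizer (D.F.Q : Set Y))) * n⁻¹ :
          ↥(normalizer (D.F.Q : Set Y))) : Y), ?_⟩ : ↥(zpowers z)))
        fun r r' h => ?_) (by rw [Nat.card_zpowers, D.F.orderOf_z])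
      · have hrS : ((n * ((r : ↥C₀) : ↥(normalizer (D.F.Q : Set Y))) * n⁻¹ :
            ↥(normalizer (D.F.Q : Set Y))) : Y) ∈ (D.S : Subgroup Y) := by
          have h' : n * ((r : ↥C₀) : ↥(normalizer (D.F.Q : Set Y))) * n⁻¹ ∈
              ((n • W : Sylow 2 _) : Subgroup _) := ⟨_, hW ⟨_, r.2, rfl⟩, rfl⟩
          rw [hn] at h'
          exact h'
        have hrC : ((n * ((r : ↥C₀) : ↥(normalizer (D.F.Q : Set Y))) * n⁻¹ :
            ↥(normalizer (D.F.Q : Set Y))) : Y) ∈ C :=
          Normal.conj_mem (inferInstance : C₀.Normal) _ (r : ↥C₀).2 n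
        obtain ⟨d, hd, e⟩ := D.F.surj _ hrS
        rw [← e] at hrC ⊢
        have hc : ((List.range 128).all fun d => Nat.beq d 0 || Nat.beq d zIdx ||
            (List.finRange 5).any fun i => !Nat.beq (mt d (rep i)) (mt (rep i) d)) = true := by
          decide +kernel
        have h := List.all_eq_true.1 hc d (List.mem_range.2 hd)
        simp only [Bool.or_eq_true, List.any_eq_true, List.mem_finRange, true_and, beq_true,
          Bool.not_eq_true'] at h
        rcases h with (rfl | rfl) | ⟨i, hne⟩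
        · rw [D.F.p_zero]; exact one_mem _
        · exact mem_zpowers z
        · rw [((D.F.comm_iff hd (rep_lt i)).1
            (mem_centralizer_iff.1 hrC _ (D.F.r_mem i)).symm), Nat.beq_refl] at hne
          exact absurd hne (by decide)
      · refine Subtype.ext (Subtype.ext ?_)
        exact mul_left_cancel (mul_right_cancel (Subtype.ext (congrArg Subtype.val h :)))
    have hCcard := hcard C (zpowers_le.2 hzC)
    have hC0 : Nat.card C₀ = Nat.card C := Nat.card_congr (subgroupOfEquivOfLe hCN).toEquiv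
    by_contra hev
    rw [Nat.not_odd_iff_even] at hev
    obtain ⟨j, hj⟩ := hev
    have h4 : 2 ^ 2 ∣ Nat.card C₀ := ⟨j, by rw [hC0, hCcard, hj]; ring⟩
    have := Nat.le_of_dvd Nat.card_pos (R.pow_dvd_card_of_pow_dvd_card h4)
    omega
  -- the quotient
  have hkφ : φ₀.ker = A.subgroupOf N ⊔ Cfsg.oddCore ↥N := by
    haveI : (Cfsg.oddCore ↥N).Normal := Cfsg.pPrimeCore_normal 2 ↥N
    refine le_antisymm (fun m hm => ?_) (sup_le (fun m hm => ?_) ?_)
    · obtain ⟨n, rfl⟩ := hp₀ m
      rw [MonoidHom.mem_ker, hφ₀] at hm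
      obtain ⟨c, hc, hcn⟩ := D.F.π_eq_one hm
      have hcN : c ∈ normalizer (D.F.Q : Set Y) := le_normalizer hc
      have hw : c⁻¹ * (n : Y) ∈ C := mem_centralizer_iff.2 fun x hx => by
        have h' := hcn x hx
        calc x * (c⁻¹ * (n : Y)) = c⁻¹ * (c * x * c⁻¹) * (n : Y) := by group
          _ = c⁻¹ * ((n : Y) * x * (n : Y)⁻¹) * (n : Y) := by rw [h']
          _ = c⁻¹ * (n : Y) * x := by group
      rw [show n = ⟨c, hcN⟩ * ⟨_, hCN hw⟩ from Subtype.ext (by simp), map_mul]
      refine mul_mem_sup (mem_subgroupOf.2 ⟨c, hc, rfl⟩) ?_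
      let K : Subgroup ↥N := (C.subgroupOf (normalizer (D.F.Q : Set Y))).map p₀
      haveI : (C.subgroupOf (normalizer (D.F.Q : Set Y))).Normal :=
        normal_subgroupOf_centralizer_normalizer _
      have hKn : K.Normal := Normal.map inferInstance _ hp₀
      have hKc : Nat.card K = Nat.card (C.map q) := by
        refine Nat.card_congr (Equiv.ofBijective (fun k => (⟨((k : ↥N) : Y ⧸ zpowers z), ?_⟩ :
          ↥(C.map q))) ⟨fun a b h => Subtype.ext (Subtype.ext (congrArg Subtype.val h :)), ?_⟩)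
        · obtain ⟨w, hw', e⟩ := k.2; exact ⟨w, hw', congrArg Subtype.val e⟩
        · rintro ⟨_, w, hw', rfl⟩; exact ⟨⟨p₀ ⟨w, hCN hw'⟩, ⟨_, hw', rfl⟩⟩, rfl⟩
      exact Solvable.le_pPrimeCore hKn (hKc ▸ Nat.coprime_two_right.2 hCodd)
        ⟨⟨_, hCN hw⟩, hw, rfl⟩
    · obtain ⟨n, rfl⟩ := hp₀ m
      rw [MonoidHom.mem_ker, hφ₀]
      refine D.π_Q ?_
      exact hcomapA.le hm
    · -- an odd normal subgroup maps trivially to the simple group
      intro m hm
      let I : Subgroup ↥φ₀.range := (Cfsg.oddCore ↥N).map φ₀.rangeRestrict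
      haveI hIn : I.Normal := Normal.map inferInstance _ φ₀.rangeRestrict_surjective
      haveI : IsSimpleGroup ↥φ₀.range := by
        rw [hφ₀r]; exact alternatingGroup.isSimpleGroup (by simp)
      have hIodd : Odd (Nat.card I) :=
        (Invol.odd_card_oddCore ↥N).of_dvd_nat (card_map_dvd _ _)
      rcases hIn.eq_bot_or_eq_top with h | h
      · have : φ₀.rangeRestrict m ∈ I := ⟨m, hm, rfl⟩
        rw [h, mem_bot] at this
        exact congrArg Subtype.val this
      · rw [h, card_top, hφ₀r, nat_card_alternatingGroup, Nat.card_fin] at hIodd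
        exact absurd hIodd (by decide)
  have hKN : (A.subgroupOf N ⊔ Cfsg.oddCore ↥N).Normal := hkφ ▸ inferInstance
  obtain ⟨d, hd⟩ := SylAltEight.exists_data A hAel hA16 S' hS64 hZ
    ⟨hKN, ⟨((QuotientGroup.quotientMulEquivOfEq hkφ).symm.trans
      (QuotientGroup.quotientKerEquivRange φ₀)).trans (MulEquiv.subgroupCongr hφ₀r)⟩⟩
  have h3 : SylAltEight.Data.ThreeClasses (Y ⧸ zpowers z) := by
    have hord : ∀ k < 128, mt k k = 0 ∨ mt k k = zIdx → k ≠ 0 → k ≠ zIdx →
        orderOf (q (D.F.p k)) = 2 := by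
      intro k hk hkk hk0 hkz
      refine orderOf_eq_prime ?_ fun h => ?_
      · rw [← map_pow, pow_two, D.F.mul k hk k hk]
        rcases hkk with e | e <;> rw [e]
        · rw [D.F.p_zero, map_one]
        · exact hqz
      · rcases D.mem_zpowers_cases ((QuotientGroup.eq_one_iff _).1 h) with e | e
        · exact hk0 ((D.F.eq_one_iff hk).1 e)
        · exact hkz (D.F.inj k hk _ (by decide) e)
    -- squares distinguish the classes inside `A`
    have h12 : ¬ IsConj (q (D.F.p 32)) (q (D.F.p 12)) := by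
      intro h
      obtain ⟨c, hc⟩ := isConj_iff.1 h
      obtain ⟨g, rfl⟩ := hqs c
      rw [← map_inv, ← map_mul, ← map_mul] at hc
      obtain ⟨w, hw, e⟩ := hsame hc
      have hsq : D.F.p 12 * D.F.p 12 = 1 := by
        rw [e]
        rcases hw with rfl | rfl
        · rw [mul_one, conj_mul, D.F.mul 32 (by norm_num) 32 (by norm_num),
            show mt 32 32 = 0 by decide +kernel, D.F.p_zero, mul_one, mul_inv_cancel]
        · rw [show g * D.F.p 32 * g⁻¹ * z * (g * D.F.p 32 * g⁻¹ * z) =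
            g * D.F.p 32 * g⁻¹ * (z * (g * D.F.p 32 * g⁻¹)) * z by group, ← D.hz,
            show g * D.F.p 32 * g⁻¹ * (g * D.F.p 32 * g⁻¹ * z) * z =
              g * (D.F.p 32 * D.F.p 32) * g⁻¹ * (z * z) by group,
            D.F.mul 32 (by norm_num) 32 (by norm_num),
            show mt 32 32 = 0 by decide +kernel, D.F.p_zero, D.F.z_sq, mul_one, mul_one,
            mul_inv_cancel]
      rw [D.F.mul 12 (by norm_num) 12 (by norm_num), D.F.eq_one_iff (mt_lt _ _)] at hsq
      revert hsq; decide +kernel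
    -- strong closure separates the third class
    have h3' : ∀ a < 128, mem qMask a = true → ¬ IsConj (q (D.F.p a)) (q (D.F.p 2)) := by
      intro a ha hm h
      obtain ⟨c, hc⟩ := isConj_iff.1 h
      obtain ⟨g, rfl⟩ := hqs c
      rw [← map_inv, ← map_mul, ← map_mul] at hc
      obtain ⟨w, hw, e⟩ := hsame hc
      have hgx : g * D.F.p a * g⁻¹ ∈ (D.S : Subgroup Y) ∧ g * D.F.p a * g⁻¹ ∉ D.F.Q := by
        have e' : g * D.F.p a * g⁻¹ = D.F.p 2 * w := by
          rw [e]
          rcases hw with rfl | rfl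
          · rw [mul_one, mul_one]
          · rw [mul_assoc (g * D.F.p a * g⁻¹) D.F.z D.F.z, D.F.z_sq, mul_one]
        rw [e']
        rcases hw with rfl | rfl
        · rw [mul_one]
          exact ⟨D.F.p_mem 2 (by norm_num), fun h => by
            have := (D.F.mem_sub closed_q (show 2 < 128 by norm_num)).1 h
            revert this; decide +kernel⟩
        · rw [show z = D.F.p zIdx from rfl, D.F.mul 2 (by norm_num) _ (by decide)]
          exact ⟨D.F.p_mem _ (mt_lt _ _), fun h => by
            have := (D.F.mem_sub closed_q (mt_lt _ _)).1 h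
            revert this; decide +kernel⟩
      exact hgx.2 ((mem_q_of_fused D.S D.F D.hz (D.F.p_mem a ha) hgx.1).2
        ((D.F.mem_sub closed_q ha).2 hm))
    intro u v
    by_contra hne
    push Not at hne
    have e1 := hne _ (hord 32 (by norm_num) (by decide +kernel) (by norm_num) (by decide))
    have e2 := hne _ (hord 12 (by norm_num) (by decide +kernel) (by norm_num) (by decide))
    have e3 := hne _ (hord 2 (by norm_num) (by decide +kernel) (by norm_num) (by decide))
    have h13 := h3' 32 (by norm_num) (by decide +kernel)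
    have h23 := h3' 12 (by norm_num) (by decide +kernel)
    by_cases a1 : IsConj u (q (D.F.p 32)) <;> by_cases a2 : IsConj u (q (D.F.p 12)) <;>
      by_cases a3 : IsConj u (q (D.F.p 2))
    all_goals first
      | exact h12 (a1.symm.trans a2)
      | exact h13 (a1.symm.trans a3)
      | exact h23 (a2.symm.trans a3)
      | exact h12 ((e1 a1).symm.trans (e2 a2))
      | exact h13 ((e1 a1).symm.trans (e3 a3))
      | exact h23 ((e2 a2).symm.trans (e3 a3))
  have hmain := d.main h3
  rw [hd] at hmain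
  -- the odd core of the quotient
  have hOX : Cfsg.oddCore (Y ⧸ zpowers z) = ⊥ := by
    haveI : (Cfsg.oddCore (Y ⧸ zpowers z)).Normal := Cfsg.pPrimeCore_normal 2 _
    have hle := eq_bot_of_odd_image q D.hz D.F.orderOf_z hker D.hO
      (L := (Cfsg.oddCore (Y ⧸ zpowers z)).comap q)
      (by rw [mem_comap, hqz]; exact one_mem _)
      (by rw [map_comap_eq_self_of_surjective hqs]; exact Invol.odd_card_oddCore _)
    rw [eq_bot_iff]
    intro x hx
    obtain ⟨y, rfl⟩ := hqs x
    rw [mem_bot, ← MonoidHom.mem_ker, hker]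
    exact hle hx
  rw [hOX, sup_bot_eq] at hmain
  have hQn : D.F.Q.Normal := hcomapA ▸ hmain.comap q
  have hCz : C ≤ zpowers z := eq_bot_of_odd_image q D.hz D.F.orderOf_z hker D.hO
    (L := C) hzC hCodd
  have hk : ∀ n, D.F.π n = 1 ↔ (n : Y) ∈ D.F.Q := by
    intro n
    refine ⟨fun h => ?_, D.π_Q⟩
    obtain ⟨c, hc, hcn⟩ := D.F.π_eq_one h
    have hw : c⁻¹ * (n : Y) ∈ C := mem_centralizer_iff.2 fun x hx => by
      calc x * (c⁻¹ * (n : Y)) = c⁻¹ * (c * x * c⁻¹) * (n : Y) := by group
        _ = c⁻¹ * ((n : Y) * x * (n : Y)⁻¹) * (n : Y) := by rw [hcn x hx]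
        _ = c⁻¹ * (n : Y) * x := by group
    have := mul_mem hc (hzQ (hCz hw))
    rwa [mul_inv_cancel_left] at this
  refine ⟨hQn, hCz, hk, ?_⟩
  have htop : normalizer (D.F.Q : Set Y) = ⊤ := normalizer_eq_top_iff.2 hQn
  have hkerπ : D.F.π.ker = D.F.Q.subgroupOf _ := by
    ext n; rw [MonoidHom.mem_ker, hk, mem_subgroupOf]
  have := card_eq_card_quotient_mul_card_subgroup D.F.π.ker
  rw [Nat.card_congr (QuotientGroup.quotientKerEquivRange D.F.π).toEquiv, hrange, hkerπ,
    Nat.card_congr (subgroupOfEquivOfLe le_normalizer).toEquiv, hQ32, nat_card_alternatingGroup,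
    Nat.card_fin, htop, card_top] at this
  rw [this]; decide

end Setting

end CfsgLib.SylJanko
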