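import Cfsg.Agent.Lib.SylJanko.Frame
import Cfsg.Agent.Lib.SylJanko.Checks
import Cfsg.Agent.Lib.Fusion.NormalCriteria
import Cfsg.Agent.Lib.Fusion.CandidateEngine

/-!
The subgroups through the central involution, and programs computing invariant subsets.
-/

set_option autoImplicit false
set_option maxRecDepth 100000
set_option linter.style.haveILetI false

namespace CfsgLib.SylJanko

open Subgroup

universe u

variable {G : Type u} [Group G] {T : Subgroup G} (F : Frame T)

namespace Frame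

/-- The subgroup generated by the set of a mask. -/
def sub (m : ℕ) : Subgroup G := closure (F.set m)

theorem sub_le (m : ℕ) : F.sub m ≤ T := (closure_le _).2 (F.set_subset m)

theorem coe_sub {m : ℕ} (h : closedOK m = true) : (F.sub m : Set G) = F.set m := by
  simp only [closedOK, Bool.and_eq_true, List.all_eq_true] at h
  let S : Subgroup G :=
    { carrier := F.set m
      one_mem' := ⟨0, by norm_num, h.1, F.p_zero⟩
      mul_mem' := by
        rintro _ _ ⟨a, ha, ha', rfl⟩ ⟨b, hb, hb', rfl⟩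
        exact ⟨mt a b, mt_lt a b, (h.2 a (mem_elems.2 ⟨ha, ha'⟩)).2 b (mem_elems.2 ⟨hb, hb'⟩),
          (F.mul a ha b hb).symm⟩
      inv_mem' := by
        rintro _ ⟨a, ha, ha', rfl⟩
        exact ⟨iv a, iv_lt ha, (h.2 a (mem_elems.2 ⟨ha, ha'⟩)).1, (F.p_inv ha).symm⟩ }
  exact Set.Subset.antisymm ((closure_le S).2 (subset_refl _)) subset_closure

theorem mem_sub {m d : ℕ} (h : closedOK m = true) (hd : d < 128) :
    F.p d ∈ F.sub m ↔ mem m d = true := by
  rw [← F.mem_set_p hd (m := m), ← F.coe_sub h]; rfl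

theorem coe_sub_get {i : ℕ} (hi : i < 225) :
    (F.sub (maskTree.get i) : Set G) = F.set (maskTree.get i) := F.coe_sub (closed_ok hi)

theorem finite (F : Frame T) : Finite ↥T :=
  Finite.of_surjective (fun d : Fin 128 => (⟨F.p d, F.p_mem d d.2⟩ : ↥T)) fun x => by
    obtain ⟨d, hd, e⟩ := F.surj x x.2
    exact ⟨⟨d, hd⟩, Subtype.ext e⟩

theorem card_T (F : Frame T) : Nat.card ↥T = 128 := by
  rw [← Nat.card_fin 128]
  refine (Nat.card_congr (Equiv.ofBijective
    (fun d : Fin 128 => (⟨F.p d, F.p_mem d d.2⟩ : ↥T)) ⟨fun a b e => ?_, fun x => ?_⟩)).symm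
  · exact Fin.ext (F.inj _ a.2 _ b.2 (congrArg Subtype.val e))
  · obtain ⟨d, hd, e⟩ := F.surj x x.2
    exact ⟨⟨d, hd⟩, Subtype.ext e⟩

theorem isPGroup (F : Frame T) : IsPGroup 2 ↥T := IsPGroup.of_card (n := 7) F.card_T

/-- The central involution. -/
def z : G := F.p zIdx

theorem z_mem : F.z ∈ T := F.p_mem _ (by decide)

theorem z_central {x : G} (hx : x ∈ T) : x * F.z = F.z * x := by
  obtain ⟨d, hd, rfl⟩ := F.surj x hx
  have h : ((List.range 128).all fun d => Nat.beq (mt d zIdx) (mt zIdx d)) = true := by decide +kernel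
  exact (F.comm_iff hd (by decide)).2 (beq_true.1 (List.all_eq_true.1 h d (List.mem_range.2 hd)))

theorem z_ne_one : F.z ≠ 1 := fun h => by
  have := (F.eq_one_iff (show zIdx < 128 by decide)).1 h; exact absurd this (by decide)

theorem z_sq : F.z * F.z = 1 := by
  rw [z, F.mul _ (by decide) _ (by decide), show mt zIdx zIdx = 0 by decide +kernel, F.p_zero]

theorem orderOf_z : orderOf F.z = 2 :=
  orderOf_eq_prime (hp := ⟨Nat.prime_two⟩) (by rw [pow_two, F.z_sq]) F.z_ne_one

theorem center_cases {x : G} (hx : x ∈ T) (h : ∀ y ∈ T, x * y = y * x) : x = 1 ∨ x = F.z := by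
  obtain ⟨d, hd, rfl⟩ := F.surj x hx
  have hc : ((List.range 128).all fun d => Nat.beq d 0 || Nat.beq d zIdx ||
      (List.range 128).any fun e => !Nat.beq (mt d e) (mt e d)) = true := by decide +kernel
  have := List.all_eq_true.1 hc d (List.mem_range.2 hd)
  simp only [Bool.or_eq_true, List.any_eq_true, List.mem_range, beq_true, Bool.not_eq_true'] at this
  rcases this with (rfl | rfl) | ⟨e, he, hne⟩
  · exact Or.inl F.p_zero
  · exact Or.inr rfl
  · exact absurd ((F.comm_iff hd he).1 (h _ (F.p_mem e he))) fun e' => by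
      rw [e'] at hne; simp at hne

theorem set_subset_closure_gens {m : ℕ} {gs : List ℕ} (h : genOK m gs = true) :
    F.set m ⊆ (closure (F.p '' {g | g ∈ gs}) : Set G) := by
  simp only [genOK, Bool.and_eq_true, List.all_eq_true, beq_true, Nat.blt_eq] at h
  rw [← h.2]
  have key : ∀ (l : List ℕ), (∀ g ∈ l, g < 128) → ∀ (K : Subgroup G), (∀ g ∈ l, F.p g ∈ K) →
      ∀ acc, F.set acc ⊆ (K : Set G) →
      F.set (l.foldl (fun acc g => unionMask acc g) acc) ⊆ (K : Set G) := by
    intro l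
    induction l with
    | nil => exact fun _ _ _ acc ha => ha
    | cons g l ih =>
      intro hl K hK acc ha
      refine ih (fun e he => hl e (List.mem_cons_of_mem _ he)) K
        (fun e he => hK e (List.mem_cons_of_mem _ he)) _ fun x hx => ?_
      rcases (F.mem_set_union (hl g List.mem_cons_self)).1 hx with h' | ⟨y, hy, rfl⟩
      · exact ha h'
      · exact K.mul_mem (hK g List.mem_cons_self) (ha hy)
  refine key gs (fun g hg => (h.1 g hg).1) _ (fun g hg => subset_closure (Set.mem_image_of_mem F.p (show g ∈ {e | e ∈ gs} from hg))) 1 ?_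
  rw [F.set_one]; exact Set.singleton_subset_iff.2 (one_mem _)

theorem gens_mem {m : ℕ} {gs : List ℕ} (h : genOK m gs = true) :
    ∀ g ∈ gs, g < 128 ∧ F.p g ∈ F.set m := by
  simp only [genOK, Bool.and_eq_true, List.all_eq_true, Nat.blt_eq] at h
  exact fun g hg => ⟨(h.1 g hg).1, (F.mem_set_p (h.1 g hg).1).2 (h.1 g hg).2⟩

/-- Every subgroup through the central involution is on the list. -/
theorem exists_index {P : Subgroup G} (hPT : P ≤ T) (hz : F.z ∈ P) :
    ∃ i < 225, (P : Set G) = F.set (maskTree.get i) := by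
  classical
  haveI := F.finite
  haveI : Finite ↥P := Finite.of_injective _ (inclusion_injective hPT)
  haveI : Fact (Nat.Prime 2) := ⟨Nat.prime_two⟩
  let good := (Finset.range 225).filter fun i => F.sub (maskTree.get i) ≤ P
  have hne : good.Nonempty := ⟨0, Finset.mem_filter.2 ⟨Finset.mem_range.2 (by norm_num),
    (closure_le _).2 fun x ⟨d, hd, hm, e⟩ => by
      have h0 : ((List.range 128).all fun d =>
          !mem (maskTree.get 0) d || Nat.beq d 0 || Nat.beq d zIdx) = true := by decide +kernel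
      have := List.all_eq_true.1 h0 d (List.mem_range.2 hd)
      simp only [Bool.or_eq_true, Bool.not_eq_true', beq_true] at this
      rcases this with (h' | rfl) | rfl
      · rw [h'] at hm; exact absurd hm (by decide)
      · rw [← e, F.p_zero]; exact P.one_mem
      · rw [← e]; exact hz⟩⟩
  obtain ⟨i, hi, hmax⟩ :=
    good.exists_max_image (fun i => Nat.card ↥(F.sub (maskTree.get i))) hne
  obtain ⟨hi', hle⟩ := Finset.mem_filter.1 hi
  rw [Finset.mem_range] at hi'
  refine ⟨i, hi', ?_⟩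
  rw [← F.coe_sub_get hi', SetLike.coe_set_eq]
  refine le_antisymm ?_ hle |>.trans rfl
  by_contra hPH
  set H := F.sub (maskTree.get i) with hH
  have hlt : H < P := lt_of_le_not_ge hle hPH
  obtain ⟨g₀, hg₀, hg₀H⟩ :=
    SetLike.exists_of_lt (Fusion.lt_normalizerIn (F.isPGroup.to_le hPT) hlt)
  -- the last power outside `H`
  obtain ⟨g, hgP, hgN, hgH, hg2⟩ : ∃ g, g ∈ P ∧ g ∈ normalizer (H : Set G) ∧ g ∉ H ∧ g * g ∈ H := by
    obtain ⟨k, hk⟩ := F.isPGroup.to_le hPT ⟨g₀, hg₀.1⟩
    have hex : ∃ j, g₀ ^ 2 ^ j ∈ H :=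
      ⟨k, by rw [show g₀ ^ 2 ^ k = 1 from congrArg Subtype.val hk]; exact H.one_mem⟩
    obtain ⟨j, hj⟩ : ∃ j, Nat.find hex = j + 1 := by
      refine ⟨Nat.find hex - 1, ?_⟩
      have : Nat.find hex ≠ 0 := fun e => hg₀H (by simpa [e] using Nat.find_spec hex)
      omega
    refine ⟨g₀ ^ 2 ^ j, pow_mem hg₀.1 _, pow_mem hg₀.2 _,
      Nat.find_min hex (by omega), ?_⟩
    rw [← pow_two, ← pow_mul, ← pow_succ, ← hj]
    exact Nat.find_spec hex
  obtain ⟨d, hd, rfl⟩ := F.surj g (hPT hgP)
  have hcl := closed_ok hi'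
  have h := sup_ok hi'
  simp only [supOK, List.all_eq_true, List.mem_range, Bool.or_eq_true, Bool.not_eq_true',
    List.any_eq_true, Bool.and_eq_true, Nat.blt_eq, beq_true] at h
  rcases h d hd with ((h1 | h1) | h1) | ⟨k, -, hk, hu⟩
  · exact hgH ((F.mem_sub hcl hd).2 (by simpa using h1)) |>.elim
  · refine absurd ?_ (Bool.eq_false_iff.1 h1)
    rw [← F.mem_sub hcl (mt_lt d d), ← F.mul d hd d hd]
    exact hg2
  · refine absurd ?_ (Bool.eq_false_iff.1 h1)
    rw [List.all_eq_true]
    intro e he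
    obtain ⟨he', hem⟩ := F.gens_mem (gen_ok hi') e he
    rw [← F.mem_sub hcl (Nat.lt_of_lt_of_le (mt_lt _ _) le_rfl : cj d e < 128),
      ← F.p_conj hd he']
    exact (mem_normalizer_iff.1 hgN _).1 (subset_closure hem)
  have hk' : F.sub (maskTree.get k) ≤ P := by
    rw [← hu]
    refine (closure_le _).2 fun x hx => ?_
    rcases (F.mem_set_union hd).1 hx with h' | ⟨y, hy, rfl⟩
    · exact hle (subset_closure h')
    · exact P.mul_mem hgP (hle (subset_closure hy))
  have hHk : H < F.sub (maskTree.get k) := by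
    refine lt_of_le_of_ne (closure_mono fun x hx => ?_) fun e => hgH ?_
    · rw [← hu]; exact (F.mem_set_union hd).2 (Or.inl hx)
    · rw [e, ← hu]
      refine subset_closure ((F.mem_set_union hd).2 (Or.inr ⟨1, ?_, (mul_one _).symm⟩))
      rw [← F.coe_sub_get hi']; exact H.one_mem
  have hmx := hmax k (Finset.mem_filter.2 ⟨Finset.mem_range.2 hk, hk'⟩)
  haveI : Finite ↥(F.sub (maskTree.get k)) :=
    Finite.of_injective _ (inclusion_injective (hk'.trans hPT))
  exact absurd (Fusion.eq_of_le_of_card_le hHk.le hmx) hHk.ne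

section Programs

variable {F} {P : Subgroup G}

/-- The set is invariant under the automorphisms in `A`. -/
def Inv (F : Frame T) (A : Subgroup (MulAut P)) (m : ℕ) : Prop :=
  F.set m ⊆ (P : Set G) ∧ ∀ α ∈ A, ∀ x : P, (x : G) ∈ F.set m → ((α x : P) : G) ∈ F.set m

theorem inv_runAll (A : Subgroup (MulAut P)) {M : ℕ} (hM : (P : Set G) = F.set M) (prog : List Op)
    (hz : prog.any Op.needsZ = true →
      ∀ α ∈ A, ∀ x : P, (x : G) = F.z → ((α x : P) : G) = F.z) :
    ∀ k, F.Inv A ((runAll M prog).getD k 1) := by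
  have hone : F.Inv A 1 := by
    refine ⟨by rw [F.set_one]; exact Set.singleton_subset_iff.2 P.one_mem, fun α _ x hx => ?_⟩
    rw [F.set_one, Set.mem_singleton_iff] at hx ⊢
    rw [show x = 1 from Subtype.ext hx, map_one]; rfl
  have key : ∀ (l : List Op),
      (l.any Op.needsZ = true → ∀ α ∈ A, ∀ x : P, (x : G) = F.z → ((α x : P) : G) = F.z) →
      ∀ v : List ℕ, (∀ w ∈ v, F.Inv A w) → ∀ w ∈ run M l v, F.Inv A w := by
    intro l
    induction l with
    | nil => exact fun _ v hv w hw => hv w hw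
    | cons o l ih =>
      intro hz v hv w hw
      refine ih (fun h => hz (by rw [List.any_cons, h, Bool.or_true])) _
        (fun w hw => ?_) w hw
      rcases List.mem_append.1 hw with hw | hw
      · exact hv w hw
      rw [List.mem_singleton.1 hw]
      have hget : ∀ i, F.Inv A (v.getD i 1) := fun i => by
        rw [List.getD_eq_getElem?_getD]
        rcases Nat.lt_or_ge i v.length with h | h
        · rw [List.getElem?_eq_getElem h]; exact hv _ (List.getElem_mem h)
        · rw [List.getElem?_eq_none h]; exact hone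
      have hP : ∀ {d}, d < 128 → (mem M d = true ↔ F.p d ∈ P) := fun hd => by
        rw [← F.mem_set_p hd, ← hM]; rfl
      cases o with
      | bot => exact hone
      | sq i =>
        have hlt : ∀ d ∈ (elems (v.getD i 1)).map (fun h => mt h h), d < 128 := by
          simp only [List.mem_map]; rintro _ ⟨a, -, rfl⟩; exact mt_lt a a
        refine ⟨fun x hx => ?_, fun α hα x hx => ?_⟩ <;>
          obtain ⟨_, he, e⟩ := (F.mem_set_maskOf hlt).1 hx <;>
          obtain ⟨a, ha, rfl⟩ := List.mem_map.1 he <;>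
          obtain ⟨ha1, ha2⟩ := mem_elems.1 ha <;>
          have haP : F.p a ∈ P := (hget i).1 ⟨a, ha1, ha2, rfl⟩
        · rw [← e, ← F.mul a ha1 a ha1]; exact P.mul_mem haP haP
        · obtain ⟨b, hb1, hb2, hb⟩ := (hget i).2 α hα ⟨_, haP⟩ ⟨a, ha1, ha2, rfl⟩
          refine (F.mem_set_maskOf hlt).2 ⟨mt b b, List.mem_map.2 ⟨b, mem_elems.2 ⟨hb1, hb2⟩, rfl⟩, ?_⟩
          rw [← F.mul b hb1 b hb1, hb, ← coe_mul, ← map_mul]
          exact congrArg (fun w => ((α w : P) : G)) (Subtype.ext (by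
            rw [coe_mul, F.mul a ha1 a ha1, e]))
      | cen i =>
        have hlt : ∀ d ∈ (elems M).filter (fun g => (elems (v.getD i 1)).all
            fun h => Nat.beq (mt g h) (mt h g)), d < 128 :=
          fun d hd => (mem_elems.1 (List.mem_filter.1 hd).1).1
        refine ⟨fun x hx => ?_, fun α hα x hx => ?_⟩ <;>
          obtain ⟨a, ha, e⟩ := (F.mem_set_maskOf hlt).1 hx <;>
          obtain ⟨ha, hc⟩ := List.mem_filter.1 ha <;>
          obtain ⟨ha1, ha2⟩ := mem_elems.1 ha
        · rw [← e]; exact (hP ha1).1 ha2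
        · obtain ⟨b, hb1, hb2, hb⟩ : ∃ b < 128, mem M b = true ∧ F.p b = ((α x : P) : G) := by
            have := (α x).2; rw [← SetLike.mem_coe, hM] at this; exact this
          refine (F.mem_set_maskOf hlt).2 ⟨b, List.mem_filter.2 ⟨mem_elems.2 ⟨hb1, hb2⟩, ?_⟩, hb⟩
          rw [List.all_eq_true]
          intro c hc'
          obtain ⟨hc1, hc2⟩ := mem_elems.1 hc'
          rw [beq_true, ← F.comm_iff hb1 hc1, hb]
          have hcP : F.p c ∈ P := (hget i).1 ⟨c, hc1, hc2, rfl⟩
          obtain ⟨c', h1, h2, h3⟩ :=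
            (hget i).2 α⁻¹ (A.inv_mem hα) ⟨_, hcP⟩ ⟨c, hc1, hc2, rfl⟩
          have := beq_true.1 (List.all_eq_true.1 hc c' (mem_elems.2 ⟨h1, h2⟩))
          rw [← F.comm_iff ha1 h1, e, h3, ← coe_mul, ← coe_mul] at this
          have := congrArg (fun w => ((α w : P) : G)) (Subtype.ext this)
          simpa [map_mul] using this
      | ord2 i =>
        have hlt : ∀ d ∈ (elems (v.getD i 1)).filter (fun h => Nat.beq (mt h h) 0), d < 128 :=
          fun d hd => (mem_elems.1 (List.mem_filter.1 hd).1).1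
        refine ⟨fun x hx => ?_, fun α hα x hx => ?_⟩ <;>
          obtain ⟨a, ha, e⟩ := (F.mem_set_maskOf hlt).1 hx <;>
          obtain ⟨ha, hc⟩ := List.mem_filter.1 ha <;>
          obtain ⟨ha1, ha2⟩ := mem_elems.1 ha
        · exact (hget i).1 ⟨a, ha1, ha2, e⟩
        · obtain ⟨b, hb1, hb2, hb⟩ := (hget i).2 α hα x ⟨a, ha1, ha2, e⟩
          refine (F.mem_set_maskOf hlt).2 ⟨b, List.mem_filter.2 ⟨mem_elems.2 ⟨hb1, hb2⟩, ?_⟩, hb⟩
          rw [beq_true, ← F.p_inj (mt_lt b b) (by norm_num), ← F.mul b hb1 b hb1, hb, ← coe_mul,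
            ← map_mul, show x * x = 1 from Subtype.ext (by
              rw [coe_mul, ← e, F.mul a ha1 a ha1, beq_true.1 hc, F.p_zero]; rfl),
            map_one, F.p_zero]
          rfl
      | sqz i =>
        have hz' := hz (by rw [List.any_cons]; rfl)
        have hlt : ∀ d ∈ (elems (v.getD i 1)).filter (fun h => Nat.beq (mt h h) zIdx), d < 128 :=
          fun d hd => (mem_elems.1 (List.mem_filter.1 hd).1).1
        refine ⟨fun x hx => ?_, fun α hα x hx => ?_⟩ <;>
          obtain ⟨a, ha, e⟩ := (F.mem_set_maskOf hlt).1 hx <;>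
          obtain ⟨ha, hc⟩ := List.mem_filter.1 ha <;>
          obtain ⟨ha1, ha2⟩ := mem_elems.1 ha
        · exact (hget i).1 ⟨a, ha1, ha2, e⟩
        · obtain ⟨b, hb1, hb2, hb⟩ := (hget i).2 α hα x ⟨a, ha1, ha2, e⟩
          refine (F.mem_set_maskOf hlt).2 ⟨b, List.mem_filter.2 ⟨mem_elems.2 ⟨hb1, hb2⟩, ?_⟩, hb⟩
          rw [beq_true, ← F.p_inj (mt_lt b b) (show zIdx < 128 by decide), ← F.mul b hb1 b hb1, hb,
            ← coe_mul, ← map_mul]
          exact hz' α hα (x * x) (by rw [coe_mul, ← e, F.mul a ha1 a ha1, beq_true.1 hc]; rfl)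
      | inter i j =>
        refine ⟨fun x hx => ?_, fun α hα x hx => ?_⟩ <;> obtain ⟨d, hd, hm, e⟩ := hx
        · exact (hget i).1 ⟨d, hd, (mem_and.1 hm).1, e⟩
        · obtain ⟨b, hb1, hb2, hb⟩ := (hget i).2 α hα x ⟨d, hd, (mem_and.1 hm).1, e⟩
          obtain ⟨c, hc1, hc2, hc⟩ := (hget j).2 α hα x ⟨d, hd, (mem_and.1 hm).2, e⟩
          obtain rfl := F.inj b hb1 c hc1 (hb.trans hc.symm)
          exact ⟨b, hb1, mem_and.2 ⟨hb2, hc2⟩, hb⟩
      | mul i j =>
        have hlt : ∀ d ∈ (elems (v.getD i 1)).flatMap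
            (fun a => (elems (v.getD j 1)).map fun b => mt a b), d < 128 := by
          simp only [List.mem_flatMap, List.mem_map]
          rintro _ ⟨a, -, b, -, rfl⟩; exact mt_lt a b
        refine ⟨fun x hx => ?_, fun α hα x hx => ?_⟩ <;>
          obtain ⟨_, he, e⟩ := (F.mem_set_maskOf hlt).1 hx <;>
          obtain ⟨a, ha, he⟩ := List.mem_flatMap.1 he <;>
          obtain ⟨c, hc, rfl⟩ := List.mem_map.1 he <;>
          obtain ⟨ha1, ha2⟩ := mem_elems.1 ha <;>
          obtain ⟨hc1, hc2⟩ := mem_elems.1 hc <;>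
          have haP : F.p a ∈ P := (hget i).1 ⟨a, ha1, ha2, rfl⟩ <;>
          have hcP : F.p c ∈ P := (hget j).1 ⟨c, hc1, hc2, rfl⟩
        · rw [← e, ← F.mul a ha1 c hc1]; exact P.mul_mem haP hcP
        · obtain ⟨b, hb1, hb2, hb⟩ := (hget i).2 α hα ⟨_, haP⟩ ⟨a, ha1, ha2, rfl⟩
          obtain ⟨d, hd1, hd2, hd⟩ := (hget j).2 α hα ⟨_, hcP⟩ ⟨c, hc1, hc2, rfl⟩
          refine (F.mem_set_maskOf hlt).2 ⟨mt b d, List.mem_flatMap.2 ⟨b, mem_elems.2 ⟨hb1, hb2⟩,
            List.mem_map.2 ⟨d, mem_elems.2 ⟨hd1, hd2⟩, rfl⟩⟩, ?_⟩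
          rw [← F.mul b hb1 d hd1, hb, hd, ← coe_mul, ← map_mul]
          exact congrArg (fun w => ((α w : P) : G)) (Subtype.ext (by
            rw [coe_mul, F.mul a ha1 c hc1, e]))
  intro k
  rw [List.getD_eq_getElem?_getD]
  rcases Nat.lt_or_ge k (runAll M prog).length with h | h
  · rw [List.getElem?_eq_getElem h]
    refine key prog hz [M, 1] (fun w hw => ?_) _ (List.getElem_mem h)
    rcases List.mem_pair.1 hw with rfl | rfl
    · exact ⟨hM.symm.subset, fun α _ x _ => hM ▸ SetLike.coe_mem _⟩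
    · exact hone
  · rw [List.getElem?_eq_none h]; exact hone

end Programs

end Frame

end CfsgLib.SylJanko
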