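import Cfsg.Agent.Lib.SylJanko.TypeFour
import Cfsg.Agent.Lib.FT.OddOrder

/-!
Twisted elements of the core of `C(z)` in the centraliser of an outer involution: a minimal
configuration and the subgroup generated by its cores.
-/

set_option autoImplicit false
set_option maxRecDepth 100000
set_option linter.style.haveILetI false
set_option linter.unusedSectionVars false

namespace CfsgLib.SylJanko

open Subgroup CfsgLib.InvChar
open scoped commutatorElement Pointwise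
open CfsgLib.SylAltEight (odd_core core_le le_core core_conj core_conj_self mem_core_iff)

universe u

theorem transfer_reps : ∀ v : Fin 16, 4 ≤ v.val → ∃ d ∈ eReps 0, uAct 0 d v = v ^^^ 1 ∧
    ((uAct 0 d 2).val = 2 ∨ (uAct 0 d 2).val = 3) := by decide +kernel

theorem small_two_three : ∀ u : Fin 16, (u.val = 2 ∨ u.val = 3) → (u = 2 ∨ u = 3) := by
  decide +kernel

namespace Ctx

variable {G : Type u} [Group G] [Finite G] [IsSimpleGroup G]

/-- Conjugation by an element of `A`. -/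
def σ (T : Ctx G) (s : Fin 16) (k : G) : G := T.e s * k * T.e s

theorem σ_mul (T : Ctx G) (s : Fin 16) (k l : G) : T.σ s (k * l) = T.σ s k * T.σ s l := by
  calc T.σ s (k * l) = T.e s * k * (T.e s * T.e s) * l * T.e s := by
        rw [T.e_sq, mul_one, σ]; group
    _ = T.σ s k * T.σ s l := by simp only [σ]; group

theorem σ_inv (T : Ctx G) (s : Fin 16) (k : G) : T.σ s k⁻¹ = (T.σ s k)⁻¹ := by
  simp only [σ, mul_inv_rev, inv_eq_of_mul_eq_one_right (T.e_sq s), mul_assoc]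

theorem σ_comp (T : Ctx G) (s t : Fin 16) (k : G) : T.σ s (T.σ t k) = T.σ (s ^^^ t) k := by
  have e : T.e (s ^^^ t) = T.e t * T.e s := by rw [T.e_mul, Fin.xor_comm]
  calc T.σ s (T.σ t k) = T.e s * T.e t * k * (T.e t * T.e s) := by simp only [σ]; group
    _ = T.σ (s ^^^ t) k := by rw [T.e_mul, ← e]; rfl

theorem σ_zero (T : Ctx G) (k : G) : T.σ 0 k = k := by
  rw [σ, T.e_zero, one_mul, mul_one]

theorem σ_σ (T : Ctx G) (s : Fin 16) (k : G) : T.σ s (T.σ s k) = k := by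
  rw [σ_comp, Fin.xor_self, σ_zero]

theorem σ_fix (T : Ctx G) {s : Fin 16} {k : G} : T.σ s k = k ↔ k * T.e s = T.e s * k := by
  refine ⟨fun h => ?_, fun h => ?_⟩
  · conv_rhs => rw [← h, σ]
    rw [← mul_assoc, ← mul_assoc, T.e_sq, one_mul]
  · rw [σ, ← h, mul_assoc, T.e_sq, mul_one]

theorem σ_conj (T : Ctx G) (s : Fin 16) (k : G) : T.σ s k = T.e s * k * (T.e s)⁻¹ := by
  rw [σ, inv_eq_of_mul_eq_one_right (T.e_sq s)]

theorem σ_comm {T : Ctx G} {s t : Fin 16} {k : G} (h : k * T.e t = T.e t * k) :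
    T.σ s k * T.e t = T.e t * T.σ s k := by
  rw [← σ_fix, σ_comp, Fin.xor_comm, ← σ_comp, (T.σ_fix).2 h]

theorem σ_core {T : Ctx G} {s w : Fin 16} {k : G}
    (hk : k ∈ Cfsg.centralizerPPrimeCore 2 (T.e w)) :
    T.σ s k ∈ Cfsg.centralizerPPrimeCore 2 (T.e w) := by
  rw [T.σ_conj]
  exact core_conj_self (A_le_cent_e w (T.e_mem_A s)) hk

/-- An element of `O(C(z))` centralising `e v`, inverted by `x` and outside the core of `C(e v)`. -/
def Bad (T : Ctx G) (v : Fin 16) : Prop :=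
  ∃ y ∈ T.W, y * T.e v = T.e v * y ∧ T.σ 2 y = y⁻¹ ∧
    y ∉ Cfsg.centralizerPPrimeCore 2 (T.e v)

/-- Without moving elements the core is as large as possible. -/
theorem mem_core_of_not_moves {T : Ctx G} (h : T.Two) {v : Fin 16} (hv : 4 ≤ v.val)
    (hm : ¬ T.Moves v) {y : G} (hy : y * T.e v = T.e v * y) (ho : Odd (orderOf y)) :
    y ∈ Cfsg.centralizerPPrimeCore 2 (T.e v) := by
  set O := Cfsg.centralizerPPrimeCore 2 (T.e v)
  have hyC : y ∈ centralizer ({T.e v} : Set G) := mem_centralizer_singleton_iff.2 hy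
  obtain ⟨x, hx, hxy⟩ := split_of_not_moves h hv hm hyC
  obtain ⟨w, rfl⟩ := T.mem_A.1 hx
  rw [inv_eq_of_mul_eq_one_right (T.e_sq w)] at hxy
  haveI : (Cfsg.oddCore ↥(centralizer ({T.e v} : Set G))).Normal := Cfsg.pPrimeCore_normal 2 _
  set π := QuotientGroup.mk' (Cfsg.oddCore ↥(centralizer ({T.e v} : Set G)))
  set w' : ↥(centralizer ({T.e v} : Set G)) := ⟨T.e w, A_le_cent_e v (T.e_mem_A w)⟩
  have h1 : π (w' * ⟨y, hyC⟩) = 1 := by
    obtain ⟨_, h'⟩ := mem_core_iff.1 hxy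
    exact (QuotientGroup.eq_one_iff _).2 h'
  rw [map_mul, mul_eq_one_iff_inv_eq] at h1
  have h2 : π ⟨y, hyC⟩ * π ⟨y, hyC⟩ = 1 := by
    rw [← h1, ← mul_inv_rev, ← map_mul, show w' * w' = 1 from Subtype.ext (T.e_sq w), map_one,
      inv_one]
  have h3 : Odd (orderOf (π ⟨y, hyC⟩)) := ho.of_dvd_nat (by
    rw [show orderOf y = orderOf (⟨y, hyC⟩ : ↥(centralizer ({T.e v} : Set G))) from
      (Subgroup.orderOf_mk y hyC).symm]
    exact orderOf_map_dvd π _)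
  exact mem_core_iff.2
    ⟨hyC, (QuotientGroup.eq_one_iff _).1 (Invol.eq_one_of_sq_of_odd h2 h3)⟩

theorem Bad.moves {T : Ctx G} (h : T.Two) {v : Fin 16} (hv : 4 ≤ v.val) (hb : T.Bad v) :
    T.Moves v := by
  obtain ⟨y, hy, hyv, -, hyO⟩ := hb
  by_contra hm
  exact hyO (mem_core_of_not_moves h hv hm hyv (SylAltEight.odd_orderOf_of_mem T.W_odd hy))

theorem σ_three {T : Ctx G} {y : G} (hy : y ∈ T.W) : T.σ 3 y = T.σ 2 y := by
  rw [show (3 : Fin 16) = 2 ^^^ 1 by decide, ← σ_comp, (T.σ_fix (s := 1) (k := y)).2 (by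
    rw [T.e_one]; exact mem_centralizer_singleton_iff.1 (T.W_le hy))]

/-- A twisted element at `e v` gives one at `e (v z)`. -/
theorem Bad.transfer {T : Ctx G} {v : Fin 16} (hv : 4 ≤ v.val) (hb : T.Bad v) :
    T.Bad (v ^^^ 1) := by
  obtain ⟨y, hy, hyv, hyx, hyO⟩ := hb
  obtain ⟨d, hd, hdv, hd2⟩ := transfer_reps v hv
  obtain ⟨hd128, hdN⟩ := T.F.p_mem_normalizer_E 0 hd
  set t := T.F.p d
  have htC : t ∈ T.C := T.p_mem_C hd128
  have htv : ∀ w, t * T.e w * t⁻¹ = T.e (uAct 0 d w) := fun w => by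
    rw [← T.F.eAct_p 0 hd w]
    exact (T.F.eAct_spec 0 ⟨t, hdN⟩ w).symm
  have hz := htv v
  rw [hdv] at hz
  refine ⟨t * y * t⁻¹, T.W_conj htC hy, ?_, ?_, fun hO => hyO ?_⟩
  · rw [← hz]
    calc t * y * t⁻¹ * (t * T.e v * t⁻¹) = t * (y * T.e v) * t⁻¹ := by group
      _ = t * (T.e v * y) * t⁻¹ := by rw [hyv]
      _ = _ := by group
  · have h' : T.σ (uAct 0 d 2) (t * y * t⁻¹) = (t * y * t⁻¹)⁻¹ := by
      calc T.σ (uAct 0 d 2) (t * y * t⁻¹) = t * (T.σ 2 y) * t⁻¹ := by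
            simp only [σ, ← htv]; group
        _ = (t * y * t⁻¹)⁻¹ := by rw [hyx]; group
    rcases small_two_three _ hd2 with e | e <;> rw [e] at h'
    · exact h'
    · rwa [σ_three (T.W_conj htC hy)] at h'
  · have h' := core_conj (g := t⁻¹) hO
    rw [inv_inv, ← hz, show t⁻¹ * (t * T.e v * t⁻¹) * t = T.e v by group,
      show t⁻¹ * (t * y * t⁻¹) * t = y by group] at h'
    exact h'

theorem vc_symm {T : Ctx G} (h : T.Two) {v f : Fin 16} (hv : 4 ≤ v.val) (hm : T.Moves v)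
    (hf : T.Vc v f) (hf0 : f ≠ 0) : T.Vc f v :=
  ((vc_eq h hv hm hf hf0).2.2 v).2 (vc_self v)

theorem vc_not {T : Ctx G} (h : T.Two) {v f w : Fin 16} (hv : 4 ≤ v.val) (hm : T.Moves v)
    (hf : 4 ≤ f.val) (hmf : T.Moves f) (hw : T.Vc v w) (hw0 : w ≠ 0) (hvf : ¬ T.Vc v f) :
    ¬ T.Vc f w := fun h' =>
  hvf (((vc_eq h hv hm hw hw0).2.2 f).1 (((vc_eq h hf hmf h' hw0).2.2 f).2 (vc_self f)))

theorem moves_conj {T : Ctx G} {k : G} (hk : k ∈ normalizer (T.A : Set G)) {v v' : Fin 16}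
    (hv : k * T.e v * k⁻¹ = T.e v') (hm : T.Moves v) : T.Moves v' := by
  obtain ⟨n, hn, w, hw⟩ := hm
  refine ⟨k * n * k⁻¹, mem_inf.2 ⟨mul_mem (mul_mem hk (mem_inf.1 hn).1) (inv_mem hk), mem_centralizer_singleton_iff.2 ?_⟩,
    T.F.eAct 0 ⟨k, hk⟩ w, fun h => hw ?_⟩
  · rw [← hv]
    calc k * n * k⁻¹ * (k * T.e v * k⁻¹) = k * (n * T.e v) * k⁻¹ := by group
      _ = k * (T.e v * n) * k⁻¹ := by rw [mem_centralizer_singleton_iff.1 hn.2]
      _ = _ := by group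
  · have e := act_spec ⟨k, hk⟩ w
    rw [e] at h
    calc n * T.e w = k⁻¹ * (k * n * k⁻¹ * (k * T.e w * k⁻¹)) * k := by group
      _ = k⁻¹ * (k * T.e w * k⁻¹ * (k * n * k⁻¹)) * k := by rw [h]
      _ = T.e w * n := by group

namespace Four

variable {T : Ctx G} (Fr : T.Four)

/-- A twisted element can be taken in the centraliser of the four-group. -/
theorem bad_lift (hbad : T.Bad Fr.a) : ∃ y ∈ T.W, y ∈ Fr.X ∧ T.σ 2 y = y⁻¹ ∧
    y ∉ Cfsg.centralizerPPrimeCore 2 (T.e Fr.a) := by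
  obtain ⟨y, hy, hya, hyx, hyO⟩ := hbad
  set O := Cfsg.centralizerPPrimeCore 2 (T.e Fr.a)
  have hyC : y ∈ centralizer ({T.e Fr.a} : Set G) := mem_centralizer_singleton_iff.2 hya
  have hw : y⁻¹ * (T.e Fr.b * y * T.e Fr.b) ∈ O ⊓ T.W := by
    refine mem_inf.2 ⟨?_, mul_mem (inv_mem hy) ?_⟩
    · have h1 := core_conj_self (inv_mem hyC) (comm_mem_core Fr.h Fr.ha Fr.hm Fr.hb hyC)
      rw [inv_inv, inv_eq_of_mul_eq_one_right (T.e_sq Fr.b)] at h1
      simpa [mul_assoc] using h1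
    · have := T.W_conj (T.e_mem_C Fr.b) hy
      rwa [inv_eq_of_mul_eq_one_right (T.e_sq _)] at this
  obtain ⟨m, hm, hmb⟩ := exists_fixed_coset (M := O ⊓ T.W)
    ((odd_core _).of_dvd_nat (card_dvd_of_le inf_le_left)) (T.e_sq Fr.b) hw
  obtain ⟨hmO, hmW⟩ := mem_inf.1 hm
  set c := y * m with hc
  have hcX : c ∈ Fr.X := mem_inf.2 ⟨mul_mem hyC (core_le _ hmO),
    mem_centralizer_singleton_iff.2 hmb.symm⟩
  have hcW : c ∈ T.W := mul_mem hy hmW
  refine ⟨c * T.σ 2 c⁻¹, mul_mem hcW ?_, mul_mem hcX (mul_mem (mul_mem (Fr.e_mem_X 2) (inv_mem hcX))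
    (Fr.e_mem_X 2)), twist_inverted (T.e_sq 2) c, fun h' => hyO ?_⟩
  · rw [T.σ_conj]; exact T.W_conj (T.e_mem_C 2) (inv_mem hcW)
  have e : T.σ 2 c⁻¹ = T.σ 2 m⁻¹ * y := by
    rw [hc, mul_inv_rev, T.σ_mul, T.σ_inv 2 y, hyx, inv_inv]
  rw [e, hc] at h'
  set o := m * T.σ 2 m⁻¹ with ho
  have hoO : o ∈ O := mul_mem hmO (σ_core (inv_mem hmO))
  refine mem_of_sq_of_odd (SylAltEight.odd_orderOf_of_mem T.W_odd hy) ?_
  have h2 := mul_mem h' (core_conj_self (inv_mem hyC) (inv_mem hoO))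
  rw [inv_inv] at h2
  convert h2 using 1
  rw [ho]; group

/-- All outer involutions of `A` move, once those of the coset of `z` do. -/
theorem moves_all (hz : T.Moves (Fr.a ^^^ 1)) : ∀ f : Fin 16, 4 ≤ f.val → T.Moves f := by
  have ha1 : 4 ≤ (Fr.a ^^^ 1).val := not_small_xor _ _ Fr.ha (by decide)
  have key : ∀ p, T.Vc Fr.a p → ∀ s₁ : Fin 16, s₁.val < 4 → s₁ ≠ 0 → T.Moves (p ^^^ s₁) →
      ∀ s : Fin 16, s.val < 4 → s ≠ 0 → T.Moves (p ^^^ s) := by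
    intro p hp s₁ hs₁ hs₁0 hmv s hs hs0
    obtain ⟨k₁, hk₁, e₁⟩ := Fr.move hs₁ hs₁0
    obtain ⟨k, hk, e⟩ := Fr.move hs hs0
    have hkk := mul_mem hk (inv_mem hk₁)
    refine moves_conj hkk.1 ?_ hmv
    rw [← T.e_mul, ← T.e_mul, ← e, ← e₁]
    have hp' := hp _ hkk
    calc k * k₁⁻¹ * (T.e p * (k₁ * T.e 1 * k₁⁻¹)) * (k * k₁⁻¹)⁻¹
        = (k * k₁⁻¹ * T.e p) * (k₁ * T.e 1 * k⁻¹) := by group
      _ = (T.e p * (k * k₁⁻¹)) * (k₁ * T.e 1 * k⁻¹) := by rw [hp']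
      _ = T.e p * (k * T.e 1 * k⁻¹) := by group
  obtain ⟨w, hw, hbw⟩ := vc_coset Fr.h ha1 hz Fr.b
  have hmb : T.Moves (Fr.b ^^^ w) := (vc_eq Fr.h ha1 hz hbw fun e => by
    have := Fr.b_ge; rw [eq_of_xor _ _ e] at this; omega).2.1
  have hw0 : w ≠ 0 := fun e => by
    rw [e, Fin.xor_zero] at hbw
    have h1 : T.Vc Fr.a (Fr.a ^^^ 1) :=
      ((vc_eq Fr.h Fr.ha Fr.hm Fr.hb Fr.b_ne).2.2 _).1 (vc_symm Fr.h ha1 hz hbw Fr.b_ne)
    have h2 := vc_xor Fr.vc_a h1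
    rw [← xor_assoc16, Fin.xor_self, zero_xor16] at h2
    exact absurd (vc_small Fr.h Fr.ha Fr.hm h2 (by decide)) (by decide)
  have hw1 : w ≠ 1 := fun e => by
    rw [e] at hbw
    have h3 := vc_xor (vc_self (T := T) (Fr.a ^^^ 1)) hbw
    rw [xor_pair] at h3
    have h4 : T.Vc Fr.a (Fr.a ^^^ 1) :=
      ((vc_eq Fr.h Fr.ha Fr.hm Fr.vc_c Fr.c_ne).2.2 _).1 (vc_symm Fr.h ha1 hz h3 Fr.c_ne)
    have h2 := vc_xor Fr.vc_a h4
    rw [← xor_assoc16, Fin.xor_self, zero_xor16] at h2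
    exact absurd (vc_small Fr.h Fr.ha Fr.hm h2 (by decide)) (by decide)
  have hwc : T.Vc (Fr.a ^^^ 1) (Fr.c ^^^ (1 ^^^ w)) := by
    have h3 := vc_xor (vc_self (T := T) (Fr.a ^^^ 1)) hbw
    convert h3 using 1
    simp [xor_assoc16, xor_left_comm16, Fin.xor_comm]
  have hw10 : (1 : Fin 16) ^^^ w ≠ 0 := fun e => hw1 (eq_of_xor _ _ e).symm
  have hmc : T.Moves (Fr.c ^^^ (1 ^^^ w)) := (vc_eq Fr.h ha1 hz hwc fun e => by
    have h4 : 4 ≤ Fr.c.val := (vc_eq Fr.h Fr.ha Fr.hm Fr.vc_c Fr.c_ne).1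
    rw [eq_of_xor _ _ e] at h4
    have := xor_small 1 w (by decide) hw
    omega).2.1
  intro f hf
  obtain ⟨s, hs, hfs⟩ := vc_coset Fr.h Fr.ha Fr.hm f
  rw [← xor_xor_cancel f s]
  by_cases hs0 : s = 0
  · have hne : f ^^^ s ≠ 0 := fun e => by rw [eq_of_xor _ _ e] at hf; omega
    rw [hs0, Fin.xor_zero] at hfs hne ⊢
    rw [Fin.xor_zero]
    exact (vc_eq Fr.h Fr.ha Fr.hm hfs hne).2.1
  rcases Fr.vc_cases hfs with e | e | e | e
  · rw [eq_of_xor _ _ e] at hf; omega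
  · rw [e]; exact key _ Fr.vc_a 1 (by decide) (by decide) hz s hs hs0
  · rw [e]; exact key _ Fr.hb w hw hw0 hmb s hs hs0
  · rw [e]; exact key _ Fr.vc_c _ (xor_small 1 w (by decide) hw) hw10 hmc s hs hs0

end Four

/-- A minimal configuration with a twisted element. -/
structure Cfg (T : Ctx G) extends Four T where
  hall : ∀ f : Fin 16, 4 ≤ f.val → T.Moves f
  /-- The minimal subgroup. -/
  N : Subgroup G
  hN : N ≤ Cfsg.centralizerPPrimeCore 2 (T.e a)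
  hNX : toFour.X ≤ normalizer (N : Set G)
  /-- Its twisted element. -/
  n : G
  hn : n ∈ N
  hnz : n * T.e 1 = T.e 1 * n
  hnb : T.σ b n = n⁻¹
  hnO : n ∉ Cfsg.centralizerPPrimeCore 2 (T.e (a ^^^ 1))
  hmin : ∀ K : Subgroup G, K < N → toFour.X ≤ normalizer (K : Set G) → ∀ m ∈ K,
    m * T.e 1 = T.e 1 * m → T.σ b m = m⁻¹ → m ∈ Cfsg.centralizerPPrimeCore 2 (T.e (a ^^^ 1))

/-- Two twisted elements give a configuration and an element of `X` inverted by `x`. -/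
theorem exists_cfg {T : Ctx G} (h : T.Two) {v : Fin 16} (hv : 4 ≤ v.val) (hb : T.Bad v) :
    ∃ C0 : T.Cfg, ∃ y ∈ T.W, y ∈ C0.X ∧ T.σ 2 y = y⁻¹ ∧
      y ∉ Cfsg.centralizerPPrimeCore 2 (T.e C0.a) := by
  classical
  obtain ⟨Fr, rfl⟩ := exists_four h hv (hb.moves h hv)
  obtain ⟨y, hyW, hyX, hyx, hyO⟩ := Fr.bad_lift hb
  have ha1 : 4 ≤ (Fr.a ^^^ 1).val := not_small_xor _ _ Fr.ha (by decide)
  have hb1 := hb.transfer Fr.ha
  have hz := hb1.moves h ha1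
  have hall := Fr.moves_all hz
  obtain ⟨Fr', hFr'⟩ := exists_four h ha1 hz
  obtain ⟨y', hy'W, hy'X, hy'x, hy'O⟩ := Fr'.bad_lift (hFr'.symm ▸ hb1)
  rw [hFr'] at hy'O
  -- the fixed four-group of `a z` meets the coset of `b` in `b x` or `b x z`
  obtain ⟨w, hw, hbw⟩ := vc_coset h ha1 hz Fr.b
  have hna : ¬ T.Vc Fr.a (Fr.a ^^^ 1) := fun h1 => by
    have h2 := vc_xor Fr.vc_a h1
    rw [← xor_assoc16, Fin.xor_self, zero_xor16] at h2
    exact absurd (vc_small h Fr.ha Fr.hm h2 (by decide)) (by decide)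
  have hnb : ∀ p, T.Vc Fr.a p → p ≠ 0 → ¬ T.Vc (Fr.a ^^^ 1) p := fun p hp hp0 =>
    vc_not h Fr.ha Fr.hm ha1 hz hp hp0 hna
  have hw0 : w ≠ 0 := fun e => by
    rw [e, Fin.xor_zero] at hbw
    exact hnb _ Fr.hb Fr.b_ne hbw
  have hw1 : w ≠ 1 := fun e => by
    rw [e] at hbw
    have h3 := vc_xor (vc_self (T := T) (Fr.a ^^^ 1)) hbw
    rw [xor_pair] at h3
    exact hnb _ Fr.vc_c Fr.c_ne h3
  have hf : 4 ≤ (Fr.b ^^^ w).val := not_small_xor _ _ Fr.b_ge hw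
  have hy'f : y' * T.e (Fr.b ^^^ w) = T.e (Fr.b ^^^ w) * y' :=
    Fr'.comm_vc hy'X (hFr'.symm ▸ hbw)
  have hy'z : y' * T.e 1 = T.e 1 * y' := by
    rw [T.e_one]; exact mem_centralizer_singleton_iff.1 (T.W_le hy'W)
  have hy'a : y' * T.e Fr.a = T.e Fr.a * y' := by
    have h1 := (Fr'.mem_X.1 hy'X).1
    rw [hFr'] at h1
    rw [show Fr.a = Fr.a ^^^ 1 ^^^ 1 from (xor_xor_cancel _ _).symm, ← T.e_mul, ← mul_assoc, h1,
      mul_assoc, hy'z, ← mul_assoc]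
  have hy'b : T.σ Fr.b y' = y'⁻¹ := by
    have e : T.σ w y' = y'⁻¹ := by
      rcases small_cases_ne w hw hw0 with e | e | e
      · exact absurd e hw1
      · rw [e]; exact hy'x
      · rw [e, σ_three hy'W]; exact hy'x
    rw [show Fr.b = w ^^^ (Fr.b ^^^ w) from xor_split _ _, ← T.σ_comp, T.σ_fix.2 hy'f, e]
  have hy'Oa : y' ∈ Cfsg.centralizerPPrimeCore 2 (T.e Fr.a) := by
    refine mem_core_of_inverted h Fr.ha Fr.hm (mem_centralizer_singleton_iff.2 hy'a)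
      (SylAltEight.odd_orderOf_of_mem T.W_odd hy'W) (a := 1) (b := Fr.b ^^^ w)
      (fun h1 => absurd (vc_small h Fr.ha Fr.hm h1 (by decide)) (by decide)) ?_ ?_ hy'z.symm
      hy'f.symm (k := 2) hy'x
    · intro h1
      have := vc_xor Fr.hb h1
      rw [← xor_assoc16, Fin.xor_self, zero_xor16] at this
      exact hw0 (vc_small h Fr.ha Fr.hm this hw)
    · intro h1
      have := vc_xor Fr.hb h1
      rw [xor_left_comm16, ← xor_assoc16 Fr.b, Fin.xor_self, zero_xor16] at this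
      exact hw1 (eq_of_xor _ _ (vc_small h Fr.ha Fr.hm this (xor_small 1 w (by decide) hw))).symm
  -- a minimal subgroup
  haveI : Fintype (Subgroup G) := Fintype.ofFinite _
  obtain ⟨N, hN, hmax⟩ := (Finset.univ.filter fun K : Subgroup G =>
      K ≤ Cfsg.centralizerPPrimeCore 2 (T.e Fr.a) ∧ Fr.X ≤ normalizer (K : Set G) ∧
        ∃ m ∈ K, m * T.e 1 = T.e 1 * m ∧ T.σ Fr.b m = m⁻¹ ∧
          m ∉ Cfsg.centralizerPPrimeCore 2 (T.e (Fr.a ^^^ 1))).exists_min_image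
    (fun K => Nat.card K) ⟨_, Finset.mem_filter.2 ⟨Finset.mem_univ _, le_rfl, fun g hg =>
      Invol.mem_normalizer_iff_of_finite fun x hx => core_conj_self (mem_inf.1 hg).1 hx,
      y', hy'Oa, hy'z, hy'b, hy'O⟩⟩
  obtain ⟨-, hNO, hNX, n, hn, hnz, hnb', hnO⟩ := Finset.mem_filter.1 hN
  refine ⟨⟨Fr, hall, N, hNO, hNX, n, hn, hnz, hnb', hnO, fun K hK hKX m hm hmz hmb => ?_⟩,
    y, hyW, hyX, hyx, hyO⟩
  by_contra hmO
  have := hmax K (Finset.mem_filter.2 ⟨Finset.mem_univ _, hK.le.trans hNO, hKX, m, hm, hmz, hmb, hmO⟩)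
  exact absurd (eq_of_le_of_card_ge hK.le this) hK.ne

namespace Cfg

variable {T : Ctx G} (C0 : T.Cfg)

theorem az_ge : 4 ≤ (C0.a ^^^ 1).val := not_small_xor _ _ C0.ha (by decide)

theorem comm_a {k : G} (hk : k ∈ C0.N) : k * T.e C0.a = T.e C0.a * k :=
  mem_centralizer_singleton_iff.1 (core_le _ (C0.hN hk))

theorem odd_of_mem {k : G} (hk : k ∈ C0.N) : Odd (orderOf k) :=
  SylAltEight.odd_orderOf_of_mem (odd_core _) (C0.hN hk)

theorem σ_mem {s : Fin 16} {k : G} (hk : k ∈ C0.N) : T.σ s k ∈ C0.N := by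
  rw [T.σ_conj]
  exact conj_mem_of_normalizer (C0.hNX (C0.e_mem_X s)) hk

/-- The derived subgroup of `N`. -/
abbrev N' : Subgroup G := ⁅C0.N, C0.N⁆

theorem N'_le : C0.N' ≤ C0.N := commutator_le.2 fun g hg k hk => by
  rw [commutatorElement_def]; exact mul_mem (mul_mem (mul_mem hg hk) (inv_mem hg)) (inv_mem hk)

theorem conj_mem_of_comm {K : Subgroup G} (h1 : C0.N' ≤ K) (hK : K ≤ C0.N) {x k : G}
    (hx : x ∈ C0.N) (hk : k ∈ K) : x * k * x⁻¹ ∈ K := by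
  rw [show x * k * x⁻¹ = ⁅x, k⁆ * k by rw [commutatorElement_def]; group]
  exact mul_mem (h1 (commutator_mem_commutator hx (hK hk))) hk

theorem conj_N' {g k : G} (hg : g ∈ normalizer (C0.N : Set G)) (hk : k ∈ C0.N') :
    g * k * g⁻¹ ∈ C0.N' := by
  have h : C0.N' ≤ C0.N'.comap (MulAut.conj g).toMonoidHom := commutator_le.2 fun a ha b hb => by
    rw [mem_comap, map_commutatorElement]
    exact commutator_mem_commutator (by simpa using conj_mem_of_normalizer hg ha)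
      (by simpa using conj_mem_of_normalizer hg hb)
  simpa using h hk

theorem σ_N' {s : Fin 16} {k : G} (hk : k ∈ C0.N') : T.σ s k ∈ C0.N' := by
  rw [T.σ_conj]; exact C0.conj_N' (C0.hNX (C0.e_mem_X s)) hk

/-- A product with an image under an involution of `A` is fixed modulo the derived subgroup. -/
theorem fixed_lift {s : Fin 16} {H : Subgroup G} (hH : H ≤ C0.N) (hs : ∀ k ∈ H, T.σ s k ∈ H)
    {k : G} (hk : k ∈ H) :
    k * T.σ s k ∈ C0.N' ⊔ (H ⊓ centralizer ({T.e s} : Set G)) := by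
  set w := k * T.σ s k with hw
  have hwH : w ∈ H := mul_mem hk (hs k hk)
  have h1 : w⁻¹ * (T.e s * w * T.e s) ∈ C0.N' ⊓ H := by
    refine mem_inf.2 ⟨?_, mul_mem (inv_mem hwH) (hs w hwH)⟩
    show w⁻¹ * T.σ s w ∈ C0.N'
    have e : w⁻¹ * T.σ s w = ⁅(T.σ s k)⁻¹, k⁻¹⁆ := by
      rw [hw, T.σ_mul, T.σ_σ, commutatorElement_def]; group
    rw [e]
    exact commutator_mem_commutator (inv_mem (C0.σ_mem (hH hk))) (inv_mem (hH hk))
  obtain ⟨m, hm, hms⟩ := exists_fixed_coset (M := C0.N' ⊓ H)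
    ((odd_core (T.e C0.a)).of_dvd_nat (card_dvd_of_le ((inf_le_right.trans hH).trans C0.hN)))
    (T.e_sq s) h1
  obtain ⟨hm1, hm2⟩ := mem_inf.1 hm
  have h2 : w * m ∈ C0.N' ⊔ (H ⊓ centralizer ({T.e s} : Set G)) :=
    mem_sup_right (mem_inf.2 ⟨mul_mem hwH hm2, mem_centralizer_singleton_iff.2 hms.symm⟩)
  have h3 := mul_mem h2 (mem_sup_left (inv_mem hm1))
  rwa [mul_inv_cancel_right] at h3

/-- Recovering an element from two products. -/
theorem mem_of_products {K : Subgroup G} (h1 : C0.N' ≤ K) (hK : K ≤ C0.N) {d z₁ z₂ : G}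
    (hd : d ∈ C0.N) (e₁ : d * z₁ ∈ K) (e₂ : d * z₂ ∈ K) (e₃ : z₁ * z₂ ∈ K) : d ∈ K := by
  refine mem_of_sq_of_odd (C0.odd_of_mem hd) ?_
  have h := C0.conj_mem_of_comm h1 hK (inv_mem hd) e₁
  have h' := inv_mem (mul_mem (mul_mem (inv_mem h) e₃) (inv_mem e₂))
  convert h' using 1
  simp [mul_assoc]

/-- The elements of `N` fixed by `b`, with the derived subgroup. -/
abbrev M : Subgroup G := C0.N' ⊔ (C0.N ⊓ centralizer ({T.e C0.b} : Set G))

theorem M_le : C0.M ≤ C0.N := sup_le C0.N'_le inf_le_left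

theorem binv {k : G} (hk : k ∈ C0.N) : k * T.σ C0.b k ∈ C0.M :=
  C0.fixed_lift le_rfl (fun _ h => C0.σ_mem h) hk

theorem X_conj_M {g k : G} (hg : g ∈ C0.X) (hk : k ∈ C0.M) : g * k * g⁻¹ ∈ C0.M := by
  have h : C0.M ≤ C0.M.comap (MulAut.conj g).toMonoidHom := by
    refine sup_le (fun x hx => mem_sup_left ?_) (fun x hx => mem_sup_right ?_)
    · simpa using C0.conj_N' (C0.hNX hg) hx
    · obtain ⟨hx1, hx2⟩ := mem_inf.1 hx
      simp only [MulEquiv.coe_toMonoidHom, MulAut.conj_apply]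
      exact mem_inf.2 ⟨conj_mem_of_normalizer (C0.hNX hg) hx1,
        mul_mem (mul_mem (mem_inf.1 hg).2 hx2) (inv_mem (mem_inf.1 hg).2)⟩
  simpa using h hk

theorem σ_M {s : Fin 16} {k : G} (hk : k ∈ C0.M) : T.σ s k ∈ C0.M := by
  rw [T.σ_conj]; exact C0.X_conj_M (C0.e_mem_X s) hk

theorem N'_lt : C0.N' < C0.N := by
  refine lt_of_le_of_ne C0.N'_le fun e => ?_
  haveI hsol : Group.IsSolvable ↥C0.N :=
    FT.odd_order_solvable ((odd_core (T.e C0.a)).of_dvd_nat (card_dvd_of_le C0.hN))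
  have hne : C0.N ≠ ⊥ := fun h0 => C0.hnO (by
    have := h0 ▸ C0.hn
    rw [mem_bot] at this
    rw [this]; exact one_mem _)
  haveI : Nontrivial ↥C0.N := (nontrivial_iff_ne_bot _).2 hne
  have h := Group.IsSolvable.commutator_lt_top_of_nontrivial ↥C0.N
  have h' : (_root_.commutator ↥C0.N).map C0.N.subtype = ⁅C0.N, C0.N⁆ := map_subtype_commutator _
  change (_root_.commutator ↥C0.N).map C0.N.subtype = C0.N' at h'
  rw [e] at h'
  exact h.ne (map_injective C0.N.subtype_injective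
    (h'.trans (by rw [← MonoidHom.range_eq_map, range_subtype])))

theorem M_good {k : G} (hk : k ∈ C0.M) (hkz : k * T.e 1 = T.e 1 * k) (hkb : T.σ C0.b k = k⁻¹) :
    k ∈ Cfsg.centralizerPPrimeCore 2 (T.e (C0.a ^^^ 1)) := by
  refine C0.hmin C0.N' C0.N'_lt (fun g hg => Invol.mem_normalizer_iff_of_finite fun x hx =>
    C0.conj_N' (C0.hNX hg) hx) k ?_ hkz hkb
  have hnorm : C0.N ⊓ centralizer ({T.e C0.b} : Set G) ≤ normalizer (C0.N' : Set G) := fun g hg =>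
    Invol.mem_normalizer_iff_of_finite fun x hx => C0.conj_N' (le_normalizer (mem_inf.1 hg).1) hx
  have hk' : k ∈ ((C0.N' : Set G) * (C0.N ⊓ centralizer ({T.e C0.b} : Set G) : Subgroup G) : Set G) := by
    rw [← coe_mul_of_right_le_normalizer_left _ _ hnorm]; exact hk
  obtain ⟨m, hm, c, hc, rfl⟩ := Set.mem_mul.1 hk'
  obtain ⟨hc1, hc2⟩ := mem_inf.1 hc
  rw [T.σ_mul, T.σ_fix.2 (mem_centralizer_singleton_iff.1 hc2)] at hkb
  refine mul_mem hm ?_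
  refine mem_of_sq_of_odd (C0.odd_of_mem hc1) ?_
  have h1 := mul_mem (inv_mem (C0.conj_N' (le_normalizer hc1) (C0.σ_N' (s := C0.b) hm))) (inv_mem hm)
  have e : T.σ C0.b m = c⁻¹ * m⁻¹ * c⁻¹ := by
    rw [eq_mul_inv_iff_mul_eq, hkb]; group
  rw [e] at h1
  convert h1 using 1
  simp [mul_assoc]

/-- The part of the core at `a s` centralised by `s`. -/
abbrev GS (s : Fin 16) : Subgroup G :=
  C0.N ⊓ centralizer ({T.e s} : Set G) ⊓ Cfsg.centralizerPPrimeCore 2 (T.e (C0.a ^^^ s))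

/-- The part in the cores at `b z` and `c z`. -/
abbrev Lam : Subgroup G := C0.N ⊓ Cfsg.centralizerPPrimeCore 2 (T.e (C0.b ^^^ 1)) ⊓
  Cfsg.centralizerPPrimeCore 2 (T.e (C0.c ^^^ 1))

/-- The subgroup generated by the parts. -/
abbrev Gd : Subgroup G := C0.M ⊔ C0.GS 1 ⊔ C0.GS 2 ⊔ C0.GS 3

/-- The same subgroup, invariant under `C(z)`. -/
abbrev P : Subgroup G := C0.M ⊔ C0.GS 1 ⊔ C0.Lam

theorem GS_le (s : Fin 16) : C0.GS s ≤ C0.N := inf_le_left.trans inf_le_left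

theorem Lam_le : C0.Lam ≤ C0.N := inf_le_left.trans inf_le_left

theorem P_le : C0.P ≤ C0.N := sup_le (sup_le C0.M_le (C0.GS_le 1)) C0.Lam_le

theorem Gd_le : C0.Gd ≤ C0.N :=
  sup_le (sup_le (sup_le C0.M_le (C0.GS_le 1)) (C0.GS_le 2)) (C0.GS_le 3)

theorem N'_le_P : C0.N' ≤ C0.P := le_sup_left.trans (le_sup_left.trans le_sup_left)

theorem N'_le_Gd : C0.N' ≤ C0.Gd :=
  le_sup_left.trans (le_sup_left.trans (le_sup_left.trans le_sup_left))

theorem M_le_Gd : C0.M ≤ C0.Gd := le_sup_left.trans (le_sup_left.trans le_sup_left)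

theorem σ_GS {t s : Fin 16} {k : G} (hk : k ∈ C0.GS s) : T.σ t k ∈ C0.GS s := by
  obtain ⟨hk12, hk3⟩ := mem_inf.1 hk
  obtain ⟨hk1, hk2⟩ := mem_inf.1 hk12
  exact mem_inf.2 ⟨mem_inf.2 ⟨C0.σ_mem hk1,
    mem_centralizer_singleton_iff.2 (σ_comm (mem_centralizer_singleton_iff.1 hk2))⟩, σ_core hk3⟩

theorem σ_Lam {t : Fin 16} {k : G} (hk : k ∈ C0.Lam) : T.σ t k ∈ C0.Lam := by
  obtain ⟨hk12, hk3⟩ := mem_inf.1 hk
  obtain ⟨hk1, hk2⟩ := mem_inf.1 hk12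
  exact mem_inf.2 ⟨mem_inf.2 ⟨C0.σ_mem hk1, σ_core hk2⟩, σ_core hk3⟩

/-- The classes of the fixed four-groups at the cosets of `x` and `x z`. -/
theorem pair {u : Fin 16} (hu : u = 2 ∨ u = 3) :
    ∃ p q, ((p = C0.b ^^^ 1 ∧ q = C0.c ^^^ 1) ∨ (p = C0.c ^^^ 1 ∧ q = C0.b ^^^ 1)) ∧
      T.Vc (C0.a ^^^ u) p ∧ ¬ T.Vc (C0.a ^^^ u) q ∧ T.Vc (C0.a ^^^ (u ^^^ 1)) q := by
  have hc4 : 4 ≤ C0.c.val := (vc_eq C0.h C0.ha C0.hm C0.vc_c C0.c_ne).1
  have ha' : ∀ w : Fin 16, w.val < 4 → 4 ≤ (C0.a ^^^ w).val := fun w hw => not_small_xor _ _ C0.ha hw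
  have hout : ∀ w : Fin 16, w.val < 4 → w ≠ 0 → ∀ p, T.Vc C0.a p → p ≠ 0 →
      ¬ T.Vc (C0.a ^^^ w) p := fun w hw hw0 p hp hp0 => by
    refine vc_not C0.h C0.ha C0.hm (ha' w hw) (C0.hall _ (ha' w hw)) hp hp0 fun h1 => hw0 ?_
    have h2 := vc_xor C0.vc_a h1
    rw [← xor_assoc16, Fin.xor_self, zero_xor16] at h2
    exact vc_small C0.h C0.ha C0.hm h2 hw
  have hfind : ∀ p, T.Vc C0.a p → 4 ≤ p.val → p ≠ C0.a →
      ∃ w : Fin 16, w.val < 4 ∧ w ≠ 0 ∧ w ≠ 1 ∧ T.Vc (C0.a ^^^ w) (p ^^^ 1) := by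
    intro p hp hp4 hpa
    have hf := not_small_xor p 1 hp4 (by decide)
    obtain ⟨w, hw, hwv⟩ := vc_coset C0.h hf (C0.hall _ hf) C0.a
    have hp0 : p ≠ 0 := fun e => by simp [e] at hp4
    have hsym : T.Vc (C0.a ^^^ w) (p ^^^ 1) := vc_symm C0.h hf (C0.hall _ hf) hwv fun e => by
      have := ha' w hw
      simp [e] at this
    refine ⟨w, hw, fun e => ?_, fun e => ?_, hsym⟩
    · rw [e, Fin.xor_zero] at hsym
      have h2 := vc_xor hp hsym
      rw [← xor_assoc16, Fin.xor_self, zero_xor16] at h2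
      exact absurd (vc_small C0.h C0.ha C0.hm h2 (by decide)) (by decide)
    · rw [e] at hsym
      have h3 := vc_xor (vc_self (T := T) (C0.a ^^^ 1)) hsym
      rw [xor_pair] at h3
      exact hout 1 (by decide) (by decide) _ (vc_xor C0.vc_a hp)
        (fun e => hpa (eq_of_xor _ _ e).symm) h3
  obtain ⟨w, hw, hw0, hw1, hwv⟩ := hfind _ C0.hb C0.b_ge C0.b_ne_a
  obtain ⟨w', hw', hw0', hw1', hwv'⟩ := hfind _ C0.vc_c hc4 fun e => C0.b_ne (by
    have h2 : C0.a ^^^ (C0.a ^^^ C0.b) = C0.a ^^^ C0.a := congrArg (C0.a ^^^ ·) e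
    rwa [xor_cancel_left16, Fin.xor_self] at h2)
  have hne : w ≠ w' := fun e => by
    subst e
    have h3 := vc_xor hwv hwv'
    rw [xor_pair, show C0.b ^^^ (C0.a ^^^ C0.b) = C0.a by
      rw [xor_left_comm16, Fin.xor_self, Fin.xor_zero]] at h3
    exact hout w hw hw0 _ C0.vc_a (fun e => by have := C0.ha; simp [e] at this) h3
  have hdisj : ∀ v, v.val < 4 → v ≠ 0 → ∀ p q, T.Vc (C0.a ^^^ v) p → p ^^^ q = C0.a →
      ¬ T.Vc (C0.a ^^^ v) q := fun v hv hv0 p q hp hpq hq => by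
    have := vc_xor hp hq
    rw [hpq] at this
    exact hout v hv hv0 _ C0.vc_a (fun e => by have := C0.ha; simp [e] at this) this
  have hsum : (C0.b ^^^ 1) ^^^ (C0.c ^^^ 1) = C0.a := by
    rw [xor_pair, xor_left_comm16, Fin.xor_self, Fin.xor_zero]
  rcases small_cases_ne w hw hw0 with e | e | e
  · exact absurd e hw1
  all_goals
    rcases small_cases_ne w' hw' hw0' with e' | e' | e'
  all_goals subst e e'
  all_goals first
    | exact absurd rfl hw1'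
    | exact absurd rfl hne
    | skip
  · rcases hu with rfl | rfl
    · exact ⟨_, _, Or.inl ⟨rfl, rfl⟩, hwv, hdisj 2 hw hw0 _ _ hwv hsum, hwv'⟩
    · exact ⟨_, _, Or.inr ⟨rfl, rfl⟩, hwv',
        hdisj 3 hw' hw0' _ _ hwv' (by rw [Fin.xor_comm]; exact hsum), hwv⟩
  · rcases hu with rfl | rfl
    · exact ⟨_, _, Or.inr ⟨rfl, rfl⟩, hwv',
        hdisj 2 hw' hw0' _ _ hwv' (by rw [Fin.xor_comm]; exact hsum), hwv⟩
    · exact ⟨_, _, Or.inl ⟨rfl, rfl⟩, hwv, hdisj 3 hw hw0 _ _ hwv hsum, hwv'⟩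

theorem comm_b_of_z {k : G} (hk : k ∈ C0.N) (hkz : k * T.e 1 = T.e 1 * k) {q : Fin 16}
    (hq : q = C0.b ^^^ 1 ∨ q = C0.c ^^^ 1) (hkq : k * T.e q = T.e q * k) : k ∈ C0.M := by
  refine mem_sup_right (mem_inf.2 ⟨hk, mem_centralizer_singleton_iff.2 (T.σ_fix.1 ?_)⟩)
  have h1 := T.σ_fix.2 hkz
  have h2 := T.σ_fix.2 hkq
  have h3 := T.σ_fix.2 (C0.comm_a hk)
  rcases hq with rfl | rfl
  · rw [show C0.b = C0.b ^^^ 1 ^^^ 1 from (xor_xor_cancel _ _).symm, ← T.σ_comp, h1, h2]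
  · rw [show C0.b = C0.a ^^^ (C0.c ^^^ 1) ^^^ 1 by
      rw [xor_assoc16, xor_xor_cancel, xor_cancel_left16], ← T.σ_comp, h1, ← T.σ_comp, h2, h3]

theorem comm_small {k : G} {w s : Fin 16} (hw : w.val < 4) (hs : s.val < 4) (hw0 : w ≠ 0)
    (hs0 : s ≠ 0) (hne : w ≠ s) (hkw : k * T.e w = T.e w * k) (hks : k * T.e s = T.e s * k)
    {v : Fin 16} (hv : v.val < 4) : k * T.e v = T.e v * k := by
  rcases small_cover w s v hw hs hv hw0 hs0 hne with e | e | e | e <;> rw [e]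
  · rw [T.e_zero, mul_one, one_mul]
  · exact hkw
  · exact hks
  · rw [← T.e_mul, ← mul_assoc, hkw, mul_assoc, hks, ← mul_assoc]

/-- The elements centralising two small involutions. -/
theorem mem_of_z_x {k : G} (hk : k ∈ C0.N) (hkz : k * T.e 1 = T.e 1 * k)
    (hkx : k * T.e 2 = T.e 2 * k) : k ∈ C0.M ⊔ C0.GS 1 := by
  set k' := k * T.σ C0.b k⁻¹ with hk'
  have hk'N : k' ∈ C0.N := mul_mem hk (C0.σ_mem (inv_mem hk))
  have hcomm : ∀ s, k * T.e s = T.e s * k → k' * T.e s = T.e s * k' := fun s hs => by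
    rw [← T.σ_fix, hk', T.σ_mul, T.σ_fix.2 hs, T.σ_fix.2 (σ_comm (t := s) (by
      rw [← T.σ_fix, T.σ_inv, T.σ_fix.2 hs]))]
  have hz' := hcomm 1 hkz
  have hk'az : k' * T.e (C0.a ^^^ 1) = T.e (C0.a ^^^ 1) * k' := by
    rw [← T.e_mul, ← mul_assoc, C0.comm_a hk'N, mul_assoc, hz', ← mul_assoc]
  have hns : ∀ s : Fin 16, s.val < 4 → s ≠ 0 → ¬ T.Vc (C0.a ^^^ 1) s := fun s hs hs0 h' =>
    hs0 (vc_small C0.h C0.az_ge (C0.hall _ C0.az_ge) h' hs)
  have hO := mem_core_of_inverted C0.h C0.az_ge (C0.hall _ C0.az_ge)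
    (mem_centralizer_singleton_iff.2 hk'az) (C0.odd_of_mem hk'N) (a := 1) (b := 2)
    (hns 1 (by decide) (by decide)) (hns 2 (by decide) (by decide))
    (hns _ (by decide) (by decide)) hz'.symm (hcomm 2 hkx).symm (k := C0.b)
    (twist_inverted (T.e_sq C0.b) k)
  have h1 : k' ∈ C0.M ⊔ C0.GS 1 :=
    mem_sup_right (mem_inf.2 ⟨mem_inf.2 ⟨hk'N, mem_centralizer_singleton_iff.2 hz'⟩, hO⟩)
  refine mem_of_sq_of_odd (C0.odd_of_mem hk) ?_
  have h2 : T.σ C0.b k * k ∈ C0.M := by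
    have := C0.σ_M (s := C0.b) (C0.binv hk)
    rwa [T.σ_mul, T.σ_σ] at this
  have h3 := mul_mem h1 (mem_sup_left h2 (T := C0.GS 1))
  rw [hk', T.σ_inv] at h3
  convert h3 using 1
  group

theorem GS_le_P {u : Fin 16} (hu : u = 2 ∨ u = 3) : C0.GS u ≤ C0.P := by
  obtain ⟨p, q, hpq, hp, hq, -⟩ := C0.pair hu
  have hu4 : u.val < 4 := by rcases hu with rfl | rfl <;> decide
  have hu0 : u ≠ 0 := by rcases hu with rfl | rfl <;> decide
  have hu1 : u ≠ 1 := by rcases hu with rfl | rfl <;> decide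
  have hau := not_small_xor C0.a u C0.ha hu4
  have hp4 : 4 ≤ p.val := by
    rcases hpq with ⟨e, -⟩ | ⟨e, -⟩ <;> rw [e]
    · exact not_small_xor _ _ C0.b_ge (by decide)
    · exact not_small_xor _ _ (vc_eq C0.h C0.ha C0.hm C0.vc_c C0.c_ne).1 (by decide)
  have hq4 : 4 ≤ q.val := by
    rcases hpq with ⟨-, e⟩ | ⟨-, e⟩ <;> rw [e]
    · exact not_small_xor _ _ (vc_eq C0.h C0.ha C0.hm C0.vc_c C0.c_ne).1 (by decide)
    · exact not_small_xor _ _ C0.b_ge (by decide)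
  have hpq' : p ^^^ q = C0.a := by
    rcases hpq with ⟨e, e'⟩ | ⟨e, e'⟩ <;> rw [e, e', xor_pair]
    · rw [xor_left_comm16, Fin.xor_self, Fin.xor_zero]
    · rw [xor_assoc16, Fin.xor_self, Fin.xor_zero]
  have hz12 : ∀ k ∈ C0.GS u, k * T.e 1 = T.e 1 * k → k ∈ C0.P := fun k hk hkz => by
    obtain ⟨hk1, hk2⟩ := mem_inf.1 (mem_inf.1 hk).1
    exact mem_sup_left (C0.mem_of_z_x hk1 hkz
      (comm_small (by decide) hu4 (by decide) hu0 (Ne.symm hu1) hkz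
        (mem_centralizer_singleton_iff.1 hk2) (by decide)))
  -- the fixed points of the product of `z` and `b`
  have hbz : ∀ k ∈ C0.GS u, k * T.e (C0.b ^^^ 1) = T.e (C0.b ^^^ 1) * k → k ∈ C0.P := by
    intro k hk hkb
    set k' := k * T.σ C0.b k⁻¹ with hk'
    have hk'G : k' ∈ C0.GS u := mul_mem hk (C0.σ_GS (inv_mem hk))
    obtain ⟨hk'12, hk'3⟩ := mem_inf.1 hk'G
    obtain ⟨hk'1, hk'2⟩ := mem_inf.1 hk'12
    have hb' : k' * T.e (C0.b ^^^ 1) = T.e (C0.b ^^^ 1) * k' := by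
      rw [← T.σ_fix, hk', T.σ_mul, T.σ_fix.2 hkb, T.σ_fix.2 (σ_comm (t := C0.b ^^^ 1) (by
        rw [← T.σ_fix, T.σ_inv, T.σ_fix.2 hkb]))]
    have hc' : k' * T.e (C0.c ^^^ 1) = T.e (C0.c ^^^ 1) * k' := by
      rw [show C0.c ^^^ 1 = C0.a ^^^ (C0.b ^^^ 1) from xor_assoc16 _ _ _, ← T.e_mul, ← mul_assoc,
        C0.comm_a hk'1, mul_assoc, hb', ← mul_assoc]
    have hkp : k' * T.e p = T.e p * k' ∧ k' * T.e q = T.e q * k' := by
      rcases hpq with ⟨e, e'⟩ | ⟨e, e'⟩ <;> rw [e, e']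
      · exact ⟨hb', hc'⟩
      · exact ⟨hc', hb'⟩
    have hOp : k' ∈ Cfsg.centralizerPPrimeCore 2 (T.e p) :=
      core_inf_le_of_vc C0.h hp4 (C0.hall _ hp4)
        (vc_symm C0.h hau (C0.hall _ hau) hp fun e => by simp [e] at hp4)
        (mem_inf.2 ⟨hk'3, mem_centralizer_singleton_iff.2 hkp.1⟩)
    have hOq : k' ∈ Cfsg.centralizerPPrimeCore 2 (T.e q) := by
      refine mem_core_of_inverted C0.h hq4 (C0.hall _ hq4) (mem_centralizer_singleton_iff.2 hkp.2)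
        (C0.odd_of_mem hk'1) (a := u) (b := C0.a) ?_ ?_ ?_
        (mem_centralizer_singleton_iff.1 hk'2).symm (C0.comm_a hk'1).symm (k := C0.b)
        (twist_inverted (T.e_sq C0.b) k)
      · exact fun h' => hu0 (vc_small C0.h hq4 (C0.hall _ hq4) h' hu4)
      · intro h'
        have h2 := vc_xor (vc_self (T := T) q) h'
        rw [← hpq', Fin.xor_comm p q, xor_cancel_left16] at h2
        exact hq (((vc_eq C0.h hau (C0.hall _ hau) hp fun e => by simp [e] at hp4).2.2 q).1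
          (vc_symm C0.h hq4 (C0.hall _ hq4) h2 fun e => by simp [e] at hp4))
      · rw [Fin.xor_comm]
        exact fun h' => hq (vc_symm C0.h hq4 (C0.hall _ hq4) h' fun e => by simp [e] at hau)
    have hLam : k' ∈ C0.P := mem_sup_right (by
      rcases hpq with ⟨e, e'⟩ | ⟨e, e'⟩ <;> rw [e] at hOp <;> rw [e'] at hOq
      · exact mem_inf.2 ⟨mem_inf.2 ⟨hk'1, hOp⟩, hOq⟩
      · exact mem_inf.2 ⟨mem_inf.2 ⟨hk'1, hOq⟩, hOp⟩)
    have hkN : k ∈ C0.N := C0.GS_le u hk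
    have h2 : T.σ C0.b k * k ∈ C0.P := mem_sup_left (mem_sup_left (by
      have := C0.σ_M (s := C0.b) (C0.binv hkN)
      rwa [T.σ_mul, T.σ_σ] at this))
    refine mem_of_sq_of_odd (C0.odd_of_mem hkN) ?_
    have h3 := mul_mem hLam h2
    rw [hk', T.σ_inv] at h3
    convert h3 using 1
    group
  intro d hd
  have key : ∀ s, (∀ k ∈ C0.GS u, k * T.e s = T.e s * k → k ∈ C0.P) → d * T.σ s d ∈ C0.P :=
    fun s hs => by
      have h1 : C0.N' ⊔ (C0.GS u ⊓ centralizer ({T.e s} : Set G)) ≤ C0.P :=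
        sup_le C0.N'_le_P fun k hk => hs k (mem_inf.1 hk).1
          (mem_centralizer_singleton_iff.1 (mem_inf.1 hk).2)
      exact h1 (C0.fixed_lift (C0.GS_le u) (fun k hk => C0.σ_GS hk) hd)
  refine C0.mem_of_products C0.N'_le_P C0.P_le (C0.GS_le u hd) (key 1 hz12)
    (key (C0.b ^^^ 1) hbz) ?_
  rw [Fin.xor_comm, ← T.σ_comp, ← T.σ_mul]
  exact mem_sup_left (mem_sup_left (C0.σ_M (C0.binv (C0.GS_le u hd))))

theorem Gd_le_P : C0.Gd ≤ C0.P :=
  sup_le (sup_le le_sup_left (C0.GS_le_P (Or.inl rfl))) (C0.GS_le_P (Or.inr rfl))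

theorem mem_GS_of_core {u q : Fin 16} (hu : u.val < 4) (hv : T.Vc (C0.a ^^^ u) q) {k : G}
    (hk : k ∈ C0.N) (hku : k * T.e u = T.e u * k)
    (hkq : k ∈ Cfsg.centralizerPPrimeCore 2 (T.e q)) : k ∈ C0.GS u := by
  have hau := not_small_xor C0.a u C0.ha hu
  refine mem_inf.2 ⟨mem_inf.2 ⟨hk, mem_centralizer_singleton_iff.2 hku⟩,
    core_inf_le_of_vc C0.h hau (C0.hall _ hau) hv (mem_inf.2 ⟨hkq, ?_⟩)⟩
  rw [mem_centralizer_singleton_iff, ← T.e_mul, ← mul_assoc, C0.comm_a hk, mul_assoc, hku,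
    ← mul_assoc]

theorem Lam_le_Gd : C0.Lam ≤ C0.Gd := by
  intro l hl
  have hparts : ∀ s : Fin 16, s = 1 ∨ s = 2 ∨ s = 3 →
      C0.Lam ⊓ centralizer ({T.e s} : Set G) ≤ C0.Gd := by
    intro s hs k hk
    obtain ⟨hk12, hk3⟩ := mem_inf.1 hk
    obtain ⟨hk', hkc⟩ := mem_inf.1 hk12
    obtain ⟨hk1, hkb⟩ := mem_inf.1 hk'
    have hks := mem_centralizer_singleton_iff.1 hk3
    rcases hs with rfl | hs
    · exact C0.M_le_Gd (C0.comm_b_of_z hk1 hks (Or.inl rfl)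
        (mem_centralizer_singleton_iff.1 (core_le _ hkb)))
    · obtain ⟨p, q, hpq, hp, -, -⟩ := C0.pair hs
      have hkp : k ∈ Cfsg.centralizerPPrimeCore 2 (T.e p) := by
        rcases hpq with ⟨e, -⟩ | ⟨e, -⟩ <;> rw [e]
        · exact hkb
        · exact hkc
      have hs4 : s.val < 4 := by rcases hs with rfl | rfl <;> decide
      have hG := C0.mem_GS_of_core hs4 hp hk1 hks hkp
      rcases hs with rfl | rfl
      · exact mem_sup_left (mem_sup_right hG)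
      · exact mem_sup_right hG
  have hn : ∀ s, T.e s ∈ normalizer (C0.Lam : Set G) := fun s =>
    Invol.mem_normalizer_iff_of_finite fun x hx => by rw [← T.σ_conj]; exact C0.σ_Lam hx
  have h := four_gen ((odd_core (T.e C0.a)).of_dvd_nat (card_dvd_of_le (C0.Lam_le.trans C0.hN)))
    (T.order_e (v := 1) (by decide)) (T.order_e (v := 2) (by decide)) (T.e_comm 1 2)
    (fun e => absurd (T.e_inj e) (by decide)) (hn 1) (hn 2) hl
  rw [T.e_mul, show (1 : Fin 16) ^^^ 2 = 3 by decide] at h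
  exact (sup_le (sup_le (hparts 1 (Or.inl rfl)) (hparts 2 (Or.inr (Or.inl rfl))))
    (hparts 3 (Or.inr (Or.inr rfl)))) h

theorem Gd_eq_P : C0.Gd = C0.P :=
  le_antisymm C0.Gd_le_P (sup_le (sup_le C0.M_le_Gd
    (le_sup_right.trans (le_sup_left.trans le_sup_left))) C0.Lam_le_Gd)

/-- The twisted element lies outside the subgroup of the parts. -/
theorem n_notMem : C0.n ∉ C0.Gd := by
  rw [C0.Gd_eq_P]
  intro hn
  set K1 := C0.M ⊔ C0.GS 1 with hK1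
  have hK1N : K1 ≤ C0.N := sup_le C0.M_le (C0.GS_le 1)
  have hN'K1 : C0.N' ≤ K1 := le_sup_left.trans le_sup_left
  have hnorm : C0.Lam ≤ normalizer (K1 : Set G) := fun g hg =>
    Invol.mem_normalizer_iff_of_finite fun x hx => C0.conj_mem_of_comm hN'K1 hK1N (C0.Lam_le hg) hx
  have hn' : C0.n ∈ ((K1 : Set G) * (C0.Lam : Subgroup G) : Set G) := by
    rw [← coe_mul_of_right_le_normalizer_left _ _ hnorm]; exact hn
  obtain ⟨k, hk, l, hl, e⟩ := Set.mem_mul.1 hn'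
  have hσK1 : T.σ 1 k ∈ K1 := by
    have h : K1 ≤ K1.comap (MulAut.conj (T.e 1)).toMonoidHom := by
      refine sup_le (fun x hx => mem_sup_left ?_) (fun x hx => mem_sup_right ?_)
      · show T.e 1 * x * (T.e 1)⁻¹ ∈ _
        rw [← T.σ_conj]; exact C0.σ_M hx
      · show T.e 1 * x * (T.e 1)⁻¹ ∈ _
        rw [← T.σ_conj]; exact C0.σ_GS hx
    rw [T.σ_conj]
    exact h hk
  have hl1 : l * T.σ 1 l ∈ K1 := by
    have h := C0.fixed_lift C0.Lam_le (fun x hx => C0.σ_Lam hx) (s := 1) hl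
    refine sup_le hN'K1 (fun x hx => mem_sup_left ?_) h
    obtain ⟨hx1, hx2⟩ := mem_inf.1 hx
    obtain ⟨hx12, hxc⟩ := mem_inf.1 hx1
    obtain ⟨hxN, hxb⟩ := mem_inf.1 hx12
    exact C0.comm_b_of_z hxN (mem_centralizer_singleton_iff.1 hx2) (Or.inl rfl)
      (mem_centralizer_singleton_iff.1 (core_le _ hxb))
  have he : T.σ 1 C0.n = C0.n := T.σ_fix.2 C0.hnz
  rw [← e, T.σ_mul] at he
  have hlK1 : l ∈ K1 := by
    refine mem_of_sq_of_odd (C0.odd_of_mem (C0.Lam_le hl)) ?_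
    have e2 : T.σ 1 l = (T.σ 1 k)⁻¹ * k * l := by
      rw [mul_assoc, ← he, inv_mul_cancel_left]
    rw [e2] at hl1
    have h3 := mul_mem (inv_mem (C0.conj_mem_of_comm hN'K1 hK1N (C0.Lam_le hl)
      (mul_mem (inv_mem hσK1) hk))) hl1
    convert h3 using 1
    group
  have hnK1 : C0.n ∈ K1 := e ▸ mul_mem hk hlK1
  have hnormM : C0.GS 1 ≤ normalizer (C0.M : Set G) := fun g hg =>
    Invol.mem_normalizer_iff_of_finite fun x hx =>
      C0.conj_mem_of_comm le_sup_left C0.M_le (C0.GS_le 1 hg) hx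
  have hn'' : C0.n ∈ ((C0.M : Set G) * (C0.GS 1 : Subgroup G) : Set G) := by
    rw [← coe_mul_of_right_le_normalizer_left _ _ hnormM]; exact hnK1
  obtain ⟨m, hm, g, hg, eg⟩ := Set.mem_mul.1 hn''
  obtain ⟨hg12, hgO⟩ := mem_inf.1 hg
  obtain ⟨-, hgz⟩ := mem_inf.1 hg12
  have hmC : m ∈ centralizer ({T.e 1} : Set G) := by
    have := mul_mem (mem_centralizer_singleton_iff.2 C0.hnz) (inv_mem hgz)
    rwa [← eg, mul_inv_cancel_right] at this
  set j := m * T.σ C0.b m⁻¹ with hj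
  have hjC : j ∈ centralizer ({T.e 1} : Set G) :=
    mul_mem hmC (mem_centralizer_singleton_iff.2 (σ_comm (mem_centralizer_singleton_iff.1
      (inv_mem hmC))))
  have hjO := C0.M_good (mul_mem hm (C0.σ_M (inv_mem hm))) (mem_centralizer_singleton_iff.1 hjC)
    (twist_inverted (T.e_sq C0.b) m)
  -- transfer to `n`
  have hgb : T.σ C0.b g⁻¹ ∈ Cfsg.centralizerPPrimeCore 2 (T.e (C0.a ^^^ 1)) := σ_core (inv_mem hgO)
  have hnC : C0.n ∈ centralizer ({T.e (C0.a ^^^ 1)} : Set G) := by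
    rw [mem_centralizer_singleton_iff, ← T.e_mul, ← mul_assoc, C0.comm_a C0.hn, mul_assoc,
      C0.hnz, ← mul_assoc]
  refine C0.hnO (mem_of_sq_of_odd (C0.odd_of_mem C0.hn) ?_)
  have e3 : j = C0.n * (g⁻¹ * T.σ C0.b g) * C0.n := by
    have em : m = C0.n * g⁻¹ := by rw [← eg, mul_inv_cancel_right]
    rw [hj, em, mul_inv_rev, inv_inv, T.σ_mul, T.σ_inv C0.b C0.n, C0.hnb, inv_inv]; group
  set o := g⁻¹ * T.σ C0.b g
  have hoO : o ∈ Cfsg.centralizerPPrimeCore 2 (T.e (C0.a ^^^ 1)) :=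
    mul_mem (inv_mem hgO) (σ_core hgO)
  change j ∈ _ at hjO
  rw [e3] at hjO
  have h4 := mul_mem hjO (core_conj_self (inv_mem hnC) (inv_mem hoO))
  rw [inv_inv] at h4
  convert h4 using 1
  group

end Cfg

end Ctx

end CfsgLib.SylJanko
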