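import Cfsg.Agent.Lib.SylJanko.TypeContra

/-!
The subgroup generated by the cores of the centralisers of the elements of `A` and its normaliser.
-/

set_option autoImplicit false
set_option maxRecDepth 100000
set_option linter.style.haveILetI false
set_option linter.unusedSectionVars false

namespace CfsgLib.SylJanko

open Subgroup CfsgLib.InvChar
open CfsgLib.SylAltEight (odd_core core_le le_core core_conj core_conj_self mem_core_iff
  coreClosure core_le_closure)

universe u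

/-- The elements of the table commuting with `d`. -/
def centMask (d : ℕ) : ℕ := maskOf ((List.range 128).filter fun k => Nat.beq (mt k d) (mt d k))

theorem rep_spec : ∀ i : Fin 5, i ≠ 4 → mt (rep i) (rep i) = 0 ∧ cj (rep i) (eAt 0 2) = eAt 0 3 ∧
    cj (rep i) (eAt 0 3) = eAt 0 2 ∧ cj (eAt 0 2) (rep i) = mt (rep i) zIdx ∧ rep i ≠ zIdx ∧
    rep i ≠ 0 := by
  decide +kernel

theorem centMask_two : closedOK (centMask (eAt 0 2)) = true ∧
    16 < (elems (centMask (eAt 0 2))).length := by decide +kernel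

theorem rep_four : rep 4 = eAt 0 2 := by decide +kernel

namespace Ctx

variable {G : Type u} [Group G] [Finite G] [IsSimpleGroup G] (T : Ctx G)

/-- Balance between the centralisers of a small and an outer involution. -/
theorem small_inf_le (h : T.Two) {s v : Fin 16} (hs : s.val < 4) (hs0 : s ≠ 0)
    (hv : 4 ≤ v.val) :
    Cfsg.centralizerPPrimeCore 2 (T.e s) ⊓ centralizer ({T.e v} : Set G) ≤
      Cfsg.centralizerPPrimeCore 2 (T.e v) := by
  obtain ⟨g, hg⟩ := isConj_iff.1 (T.conj_z_small hs0 hs).symm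
  have hv0 : v ≠ 0 := fun e => by simp [e] at hv
  have hm : g * T.e v * g⁻¹ ∈ T.C := mem_centralizer_singleton_iff.2 (by
    rw [← hg]; exact Cfg.conj_comm (T.e_comm v s))
  have hnz : ¬ IsConj T.F.z (g * T.e v * g⁻¹) := fun h' =>
    not_conj_z_outer h (T.outer_e hv) (h'.trans (isConj_iff.2 ⟨g⁻¹, by group⟩))
  obtain ⟨c, hc, ec⟩ : T.Outer (g * T.e v * g⁻¹) := by
    rcases T.classes hm (by rw [Invol.orderOf_conj_eq, T.order_e hv0]) with e | e | e
    · exact absurd (by rw [e]) hnz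
    · exact absurd (T.conj_z_inner e) hnz
    · exact e
  intro x hx
  obtain ⟨hx1, hx2⟩ := mem_inf.1 hx
  have h1 := core_conj_self hc (core_conj (g := g) hx1 |> fun h' => hg ▸ h')
  have h2 : c * (g * x * g⁻¹) * c⁻¹ ∈ centralizer ({T.e 4} : Set G) := by
    rw [mem_centralizer_singleton_iff, ← ec]
    exact Cfg.conj_comm (Cfg.conj_comm (mem_centralizer_singleton_iff.1 hx2))
  have h3 := core_conj (g := (c * g)⁻¹) (W_inf_le h (v := 4) (by decide) (mem_inf.2 ⟨h1, h2⟩))
  rw [← ec] at h3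
  convert h3 using 1
  · group
  · congr 1; group

/-- **Balance.** -/
theorem balanced : SylAltEight.Balanced T.A := by
  intro a ha ha1 b hb hb1
  obtain ⟨p, rfl⟩ := T.mem_A.1 ha
  obtain ⟨r, rfl⟩ := T.mem_A.1 hb
  have hp0 : p ≠ 0 := fun e => ha1 (by rw [e, T.e_zero])
  have hr0 : r ≠ 0 := fun e => hb1 (by rw [e, T.e_zero])
  by_cases hr : IsConj T.F.z (T.e r)
  · exact T.core_inf_le_of_conj_z (T.order_e hp0) (T.e_comm p r) hr
  have hr4 : 4 ≤ r.val := by
    by_contra hlt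
    exact hr (T.conj_z_small hr0 (by omega))
  have h : T.Two := fun h4 => by
    obtain ⟨c, -, e⟩ := T.outer_e hr4
    exact hr (h4.trans (isConj_iff.2 ⟨c, e⟩).symm)
  by_cases hp : p.val < 4
  · exact T.small_inf_le h hp hp0 hr4
  set X0 := Cfsg.centralizerPPrimeCore 2 (T.e p) ⊓ centralizer ({T.e r} : Set G) with hX0
  have hn : ∀ s, T.e s ∈ normalizer (X0 : Set G) := fun s =>
    Invol.mem_normalizer_iff_of_finite fun x hx => by
      rw [← T.σ_conj]
      exact mem_inf.2 ⟨σ_core (mem_inf.1 hx).1,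
        mem_centralizer_singleton_iff.2 (σ_comm (mem_centralizer_singleton_iff.1 (mem_inf.1 hx).2))⟩
  have hpart : ∀ s : Fin 16, s.val < 4 → s ≠ 0 →
      X0 ⊓ centralizer ({T.e s} : Set G) ≤ Cfsg.centralizerPPrimeCore 2 (T.e r) := fun s hs hs0 x hx => by
    obtain ⟨hx1, hxs⟩ := mem_inf.1 hx
    obtain ⟨hxp, hxr⟩ := mem_inf.1 hx1
    exact T.small_inf_le h hs hs0 hr4 (mem_inf.2 ⟨T.core_inf_le_of_conj_z (T.order_e hp0)
      (T.e_comm p s) (T.conj_z_small hs0 hs) (mem_inf.2 ⟨hxp, hxs⟩), hxr⟩)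
  have hgen := four_gen ((odd_core (T.e p)).of_dvd_nat (card_dvd_of_le inf_le_left))
    (T.order_e (v := 1) (by decide)) (T.order_e (v := 2) (by decide)) (T.e_comm 1 2)
    (fun e => absurd (T.e_inj e) (by decide)) (hn 1) (hn 2) (X := X0)
  rw [T.e_mul, show (1 : Fin 16) ^^^ 2 = 3 by decide] at hgen
  exact hgen.trans (sup_le (sup_le (hpart 1 (by decide) (by decide))
    (hpart 2 (by decide) (by decide))) (hpart 3 (by decide) (by decide)))

/-- The subgroup generated by the cores. -/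
abbrev Θ : Subgroup G := coreClosure T.A

theorem Θ_odd : Odd (Nat.card T.Θ) :=
  SylAltEight.odd_coreClosure T.A_comm (fun a ha => by rw [pow_two]; exact T.A_sq a ha)
    (by rw [T.card_A]; norm_num) T.balanced

theorem Θ_inf {a : G} (ha : a ∈ T.A) (ha1 : a ≠ 1) :
    T.Θ ⊓ centralizer ({a} : Set G) = Cfsg.centralizerPPrimeCore 2 a :=
  (Comp.SFT.solvable_functor_two T.A T.A_comm (fun a ha => by rw [pow_two]; exact T.A_sq a ha)
    (by rw [T.card_A]; norm_num) (fun a => Cfsg.centralizerPPrimeCore 2 a) (fun a _ _ => core_le a)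
    (fun a _ _ => SylAltEight.not_two_dvd_iff.2 (odd_core a))
    (fun a ha _ b hb x hx => core_conj_self (T.A_le_cent ha hb) hx)
    (fun a _ _ => FT.odd_order_solvable (odd_core a)) T.balanced).2 a ha ha1

theorem e_ne_one {v : Fin 16} (hv : v ≠ 0) : T.e v ≠ 1 := Invol.invol_ne_one (T.order_e hv)

theorem Θ_inf_e {v : Fin 16} (hv : v ≠ 0) :
    T.Θ ⊓ centralizer ({T.e v} : Set G) = Cfsg.centralizerPPrimeCore 2 (T.e v) :=
  T.Θ_inf (T.e_mem_A v) (T.e_ne_one hv)

theorem Θ_inf_C : T.Θ ⊓ T.C = T.W := by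
  have h := T.Θ_inf_e (v := 1) (by decide)
  rwa [T.e_one] at h

theorem W_le_Θ : T.W ≤ T.Θ := T.Θ_inf_C ▸ inf_le_left

/-- The normaliser. -/
abbrev H : Subgroup G := normalizer (T.Θ : Set G)

theorem A_le_H : T.A ≤ T.H :=
  le_normalizer.trans (SylAltEight.normalizer_le_normalizer_coreClosure T.A)

theorem Θ_le_H : T.Θ ≤ T.H := le_normalizer

/-- The cores of an inner involution, its partner and `z`. -/
abbrev L (u : G) : Subgroup G :=
  T.W ⊔ Cfsg.centralizerPPrimeCore 2 u ⊔ Cfsg.centralizerPPrimeCore 2 (u * T.F.z)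

theorem Θ_eq_L : T.L (T.e 2) = T.Θ := by
  have e3 : T.e 2 * T.F.z = T.e 3 := by
    rw [← T.e_one, T.e_mul, show (2 : Fin 16) ^^^ 1 = 3 by decide]
  refine le_antisymm (sup_le (sup_le T.W_le_Θ (core_le_closure (T.e_mem_A 2) (T.e_ne_one (by decide))))
    (e3 ▸ core_le_closure (T.e_mem_A 3) (T.e_ne_one (by decide)))) ?_
  have h := four_gen T.Θ_odd (T.order_e (v := 1) (by decide)) (T.order_e (v := 2) (by decide))
    (T.e_comm 1 2) (fun e => absurd (T.e_inj e) (by decide)) (T.A_le_H (T.e_mem_A 1))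
    (T.A_le_H (T.e_mem_A 2))
  rw [T.e_mul, show (1 : Fin 16) ^^^ 2 = 3 by decide, T.Θ_inf_e (by decide), T.Θ_inf_e (by decide),
    T.Θ_inf_e (by decide), T.e_one] at h
  rw [L, e3]
  exact h

theorem L_conj {g u x : G} (hg : g ∈ T.C) (hx : x ∈ T.L u) : g * x * g⁻¹ ∈ T.L (g * u * g⁻¹) := by
  have h : T.L u ≤ (T.L (g * u * g⁻¹)).comap (MulAut.conj g).toMonoidHom := by
    refine sup_le (sup_le (fun y hy => ?_) fun y hy => ?_) fun y hy => ?_ <;>
      show g * y * g⁻¹ ∈ T.L (g * u * g⁻¹)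
    · exact mem_sup_left (mem_sup_left (T.W_conj hg hy))
    · exact mem_sup_left (mem_sup_right (core_conj hy))
    · refine mem_sup_right ?_
      have hh := core_conj (g := g) hy
      rwa [show g * (u * T.F.z) * g⁻¹ = g * u * g⁻¹ * T.F.z by
        calc g * (u * T.F.z) * g⁻¹ = g * u * g⁻¹ * (g * T.F.z * g⁻¹) := by group
          _ = g * u * g⁻¹ * T.F.z := by
            rw [Cfg.conj_eq_of_comm (mem_centralizer_singleton_iff.1 hg)]] at hh
  exact h hx

theorem L_mul_z (u : G) : T.L (u * T.F.z) = T.L u := by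
  have hzz : u * T.F.z * T.F.z = u := by
    rw [mul_assoc, Invol.invol_mul_self T.F.orderOf_z, mul_one]
  rw [L, L, hzz, sup_assoc, sup_comm (Cfsg.centralizerPPrimeCore 2 (u * T.F.z)), ← sup_assoc]

theorem card_core_conj {u w : G} (h : IsConj u w) :
    Nat.card (Cfsg.centralizerPPrimeCore 2 u) = Nat.card (Cfsg.centralizerPPrimeCore 2 w) := by
  haveI : Fact (Nat.Prime 2) := ⟨Nat.prime_two⟩
  obtain ⟨g, rfl⟩ := isConj_iff.1 h
  rw [Comp.FunctorTriv.centralizerPPrimeCore_conj]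
  exact (card_map_of_injective (MulAut.conj g).injective).symm

theorem card_inf_conj {g x : G} {X : Subgroup G} (hg : g ∈ normalizer (X : Set G)) :
    Nat.card (X ⊓ centralizer ({g * x * g⁻¹} : Set G) : Subgroup G) =
      Nat.card (X ⊓ centralizer ({x} : Set G) : Subgroup G) := by
  rw [← card_map_of_injective (K := X ⊓ centralizer ({x} : Set G)) (f := (MulAut.conj g).toMonoidHom)
    (MulAut.conj g).injective]
  refine congrArg (fun K : Subgroup G => Nat.card K) (le_antisymm (fun y hy => ?_) ?_)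
  · obtain ⟨hy1, hy2⟩ := mem_inf.1 hy
    refine ⟨g⁻¹ * y * g, mem_inf.2 ⟨(mem_normalizer_iff''.1 hg y).1 hy1,
      mem_centralizer_singleton_iff.2 ?_⟩, by simp [mul_assoc]⟩
    calc g⁻¹ * y * g * x = g⁻¹ * (y * (g * x * g⁻¹)) * g := by group
      _ = g⁻¹ * (g * x * g⁻¹ * y) * g := by rw [mem_centralizer_singleton_iff.1 hy2]
      _ = x * (g⁻¹ * y * g) := by group
  · rintro _ ⟨y, hy, rfl⟩
    obtain ⟨hy1, hy2⟩ := mem_inf.1 hy
    simp only [MulEquiv.coe_toMonoidHom, MulAut.conj_apply]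
    exact mem_inf.2 ⟨(mem_normalizer_iff.1 hg y).1 hy1,
      mem_centralizer_singleton_iff.2 (Cfg.conj_comm (mem_centralizer_singleton_iff.1 hy2))⟩

theorem C_le_normalizer_W : T.C ≤ normalizer (T.W : Set G) := fun _ hc =>
  Invol.mem_normalizer_iff_of_finite fun _ hx => T.W_conj hc hx

/-- The generation by an inner involution of the frame. -/
theorem L_rep (i : Fin 5) : T.L (T.F.p (rep i)) = T.Θ := by
  by_cases hi : i = 4
  · rw [hi, rep_four]; exact T.Θ_eq_L
  obtain ⟨hsq, h2, h3, hx, hzI, h0⟩ := rep_spec i hi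
  obtain ⟨hcl, hlen⟩ := centMask_two
  set s := T.F.p (rep i) with hs
  have hsC : s ∈ T.C := T.p_mem_C (rep_lt i)
  have hss : s * s = 1 := by rw [hs, T.F.mul _ (rep_lt i) _ (rep_lt i), hsq, T.F.p_zero]
  have hs1 : s ≠ 1 := fun e => h0 ((T.F.eq_one_iff (rep_lt i)).1 e)
  have hs2 : orderOf s = 2 := Invol.invol_of_mul_self hss hs1
  have hsz : s ≠ T.F.z := fun e => hzI (T.F.inj _ (rep_lt i) _ (by decide) e)
  have hinner : T.Inner s := T.inner_of_image hsC hs2 hsz (by
    rw [← T.D_p (rep_lt i)]; exact T.D.F.r_mem i)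
  have hsx : s * T.e 2 * s⁻¹ = T.e 3 := by
    rw [hs, e, e, T.F.p_conj (rep_lt i) (Frame.eAt_lt 0 2), h2]
  have hsx' : s * T.e 3 * s⁻¹ = T.e 2 := by
    rw [hs, e, e, T.F.p_conj (rep_lt i) (Frame.eAt_lt 0 3), h3]
  have hxs : T.e 2 * s * (T.e 2)⁻¹ = s * T.F.z := by
    rw [hs, e, T.F.p_conj (Frame.eAt_lt 0 2) (rep_lt i), hx]
    exact (T.F.mul _ (rep_lt i) _ (by decide)).symm
  have hsH : s ∈ T.H := Invol.mem_normalizer_iff_of_finite fun x hx' => by
    rw [← T.Θ_eq_L] at hx' ⊢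
    have := T.L_conj hsC hx'
    rwa [hsx, show T.e 3 = T.e 2 * T.F.z by
      rw [← T.e_one, T.e_mul, show (2 : Fin 16) ^^^ 1 = 3 by decide], T.L_mul_z] at this
  have hsc : s * T.F.z = T.F.z * s := mem_centralizer_singleton_iff.1 hsC
  -- the fixed points of `s` lie in its core
  have hfix : T.Θ ⊓ centralizer ({s} : Set G) ≤ Cfsg.centralizerPPrimeCore 2 s := by
    obtain ⟨g₀, hg₀⟩ := isConj_iff.1 (T.conj_z_inner (T.inner_e (v := 2) (by decide) (by decide))).symm
    obtain ⟨c, hc, ec⟩ := id hinner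
    set g := g₀ * c with hgdef
    have hg : g * s * g⁻¹ = T.F.z := by rw [← hg₀, ← ec, hgdef]; group
    have hu₀ : g * T.F.z * g⁻¹ = g₀ * T.F.z * g₀⁻¹ := by
      calc g * T.F.z * g⁻¹ = g₀ * (c * T.F.z * c⁻¹) * g₀⁻¹ := by rw [hgdef]; group
        _ = g₀ * T.F.z * g₀⁻¹ := by
          rw [Cfg.conj_eq_of_comm (mem_centralizer_singleton_iff.1 hc)]
    have hgC : ∀ y : G, y * s = s * y → g * y * g⁻¹ ∈ T.C := fun y hy =>
      mem_centralizer_singleton_iff.2 (by rw [← hg]; exact Cfg.conj_comm hy)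
    set u' := g * T.F.z * g⁻¹ with hu'
    have hu'C : u' ∈ T.C := hgC _ hsc.symm
    have hu'2 : orderOf u' = 2 := by rw [hu', Invol.orderOf_conj_eq, T.F.orderOf_z]
    have hu'z : u' ≠ T.F.z := fun e => hsz (mul_left_cancel (mul_right_cancel (hg.trans e.symm)))
    have hu'Q : T.q ⟨u', hu'C⟩ ∈ T.D.F.Q := by
      rcases (T.classes hu'C hu'2).resolve_left hu'z with e | e
      · exact (T.q_mem_Q_of_inner e).1
      exfalso
      have hR2 : IsPGroup 2 (T.F.sub (centMask (eAt 0 2))) := T.S.2.to_le (T.F.sub_le _)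
      have hcomm : ∀ y ∈ T.F.sub (centMask (eAt 0 2)), y * T.e 2 = T.e 2 * y := fun y hy => by
        obtain ⟨d, hd, rfl⟩ := T.F.surj y (T.F.sub_le _ hy)
        have h' := mem_maskOf.1 ((T.F.mem_sub hcl hd).1 hy)
        rw [List.mem_filter, beq_true] at h'
        exact (T.F.comm_iff hd (Frame.eAt_lt 0 2)).2 h'.2
      rw [hu₀] at e
      have := T.card_le_of_outer (R := (T.F.sub (centMask (eAt 0 2))).map (MulAut.conj g₀).toMonoidHom)
        (hR2.map _) (by
          rintro _ ⟨y, hy, rfl⟩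
          simp only [MulEquiv.coe_toMonoidHom, MulAut.conj_apply]
          exact mem_centralizer_singleton_iff.2 (by rw [← hg₀]; exact Cfg.conj_comm (hcomm y hy))) e (by
          rintro _ ⟨y, hy, rfl⟩
          simp only [MulEquiv.coe_toMonoidHom, MulAut.conj_apply]
          exact mem_centralizer_singleton_iff.2
            (Cfg.conj_comm (T.F.z_central (T.F.sub_le _ hy))))
      rw [card_map_of_injective (MulAut.conj g₀).injective, T.F.card_sub hcl] at this
      omega
    set R' := (T.Θ ⊓ centralizer ({s} : Set G)).map (MulAut.conj g).toMonoidHom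
    have hR'C : R' ≤ T.C := by
      rintro _ ⟨y, hy, rfl⟩
      simpa using hgC y (mem_centralizer_singleton_iff.1 (mem_inf.1 hy).2)
    set R := (R'.subgroupOf T.C).map T.q
    have hRodd : Odd (Nat.card R) := by
      refine T.Θ_odd.of_dvd_nat ((card_map_dvd _ _).trans ?_)
      rw [Nat.card_congr (subgroupOfEquivOfLe hR'C).toEquiv,
        card_map_of_injective (MulAut.conj g).injective]
      exact card_dvd_of_le inf_le_left
    intro r hr
    obtain ⟨hrΘ, hrs⟩ := mem_inf.1 hr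
    have hrs' := mem_centralizer_singleton_iff.1 hrs
    set r' : ↥T.C := ⟨g * r * g⁻¹, hgC r hrs'⟩
    have hcom : T.q r' * T.q ⟨u', hu'C⟩ = T.q ⟨u', hu'C⟩ * T.q r' := by
      refine T.D.commute_of_normalized hRodd hu'Q ?_ ⟨r', mem_subgroupOf.2 ⟨r, hr, rfl⟩, rfl⟩
      rintro _ ⟨y, hy, rfl⟩
      obtain ⟨y0, hy0, e0⟩ := mem_subgroupOf.1 hy
      refine ⟨⟨u', hu'C⟩ * y * ⟨u', hu'C⟩⁻¹, mem_subgroupOf.2 ⟨T.F.z * y0 * T.F.z⁻¹,
        mem_inf.2 ⟨(mem_normalizer_iff.1 (T.A_le_H (T.e_one ▸ T.e_mem_A 1)) y0).1 (mem_inf.1 hy0).1,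
          mem_centralizer_singleton_iff.2 ?_⟩, ?_⟩, by simp⟩
      · calc T.F.z * y0 * T.F.z⁻¹ * s = T.F.z * y0 * (T.F.z⁻¹ * s) := mul_assoc _ _ _
          _ = T.F.z * (y0 * s) * T.F.z⁻¹ := by
            rw [show T.F.z⁻¹ * s = s * T.F.z⁻¹ from
              (Commute.inv_right (show Commute s T.F.z from hsc)).eq.symm]
            group
          _ = T.F.z * s * y0 * T.F.z⁻¹ := by
            rw [mem_centralizer_singleton_iff.1 (mem_inf.1 hy0).2]; group
          _ = s * (T.F.z * y0 * T.F.z⁻¹) := by rw [← hsc]; group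
      · simp only [MulEquiv.coe_toMonoidHom, MulAut.conj_apply] at e0 ⊢
        push_cast
        rw [← show g * y0 * g⁻¹ = (y : G) from e0, hu']
        group
    have hW : g * r⁻¹ * g⁻¹ * u' * (g * r * g⁻¹) * u' ∈ T.W := by
      have h1 : T.q (r'⁻¹ * ⟨u', hu'C⟩ * r' * ⟨u', hu'C⟩) = 1 := by
        rw [map_mul, map_mul, map_mul, map_inv, mul_assoc _ (T.q r'), hcom, ← mul_assoc,
          mul_assoc _ (T.q ⟨u', hu'C⟩) (T.q ⟨u', hu'C⟩), ← map_mul,
          show (⟨u', hu'C⟩ : ↥T.C) * ⟨u', hu'C⟩ = 1 from Subtype.ext (Invol.invol_mul_self hu'2),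
          map_one, mul_one, inv_mul_cancel]
      have := T.q_eq_one.1 h1
      simpa [r', mul_assoc] using this
    have hOs : r⁻¹ * (T.F.z * r * T.F.z) ∈ Cfsg.centralizerPPrimeCore 2 s := by
      have := core_conj (g := g⁻¹) hW
      rw [inv_inv, show g⁻¹ * T.F.z * g = s by rw [← hg]; group, hu'] at this
      convert this using 1
      group
    have hΘs : r⁻¹ * (T.F.z * r * T.F.z) ∈ T.Θ := by
      refine mul_mem (inv_mem hrΘ) ?_
      have := (mem_normalizer_iff.1 (T.A_le_H (T.e_one ▸ T.e_mem_A 1)) r).1 hrΘ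
      rwa [inv_eq_of_mul_eq_one_right (Invol.invol_mul_self T.F.orderOf_z)] at this
    obtain ⟨m, hm, hmz⟩ := exists_fixed_coset (M := Cfsg.centralizerPPrimeCore 2 s ⊓ T.Θ)
      ((odd_core s).of_dvd_nat (card_dvd_of_le inf_le_left)) (Invol.invol_mul_self T.F.orderOf_z)
      (mem_inf.2 ⟨hOs, hΘs⟩)
    obtain ⟨hm1, hm2⟩ := mem_inf.1 hm
    have hrmW : r * m ∈ T.W := T.Θ_inf_C ▸ mem_inf.2 ⟨mul_mem hrΘ hm2,
      mem_centralizer_singleton_iff.2 hmz.symm⟩
    have h1 := T.core_inf_le_of_conj_z T.F.orderOf_z hsc.symm (T.conj_z_inner hinner)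
      (mem_inf.2 ⟨hrmW, mul_mem hrs (core_le _ hm1)⟩)
    have := mul_mem h1 (inv_mem hm1)
    rwa [mul_inv_cancel_right] at this
  -- counting
  have hW1 : ∀ u, IsConj T.F.z u → Nat.card (Cfsg.centralizerPPrimeCore 2 u) = Nat.card T.W :=
    fun u hu => (card_core_conj hu).symm
  have hinter : ∀ {v : G}, Nat.card (T.Θ ⊓ centralizer ({T.F.z} : Set G) ⊓
      centralizer ({v} : Set G) : Subgroup G) = Nat.card (T.W ⊓ centralizer ({v} : Set G) : Subgroup G) :=
    fun {v} => by rw [show T.Θ ⊓ centralizer ({T.F.z} : Set G) = T.W from T.Θ_inf_C]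
  have hzH : T.F.z ∈ T.H := T.A_le_H (T.e_one ▸ T.e_mem_A 1)
  have hzz := Invol.invol_mul_self T.F.orderOf_z
  have f1 := card_four_formula T.Θ_odd hzz (T.e_sq 2)
    (show T.F.z * T.e 2 = T.e 2 * T.F.z by rw [← T.e_one]; exact T.e_comm 1 2) hzH
    (T.A_le_H (T.e_mem_A 2))
  have f2 := card_four_formula T.Θ_odd hzz hss hsc.symm hzH hsH
  have hz3 : T.F.z * T.e 2 = T.e 3 := by
    rw [← T.e_one, T.e_mul, show (1 : Fin 16) ^^^ 2 = 3 by decide]
  rw [hinter, hz3, show T.Θ ⊓ centralizer ({T.F.z} : Set G) = T.W from T.Θ_inf_C,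
    T.Θ_inf_e (by decide), T.Θ_inf_e (by decide), hW1 _ (T.conj_z_small (by decide) (by decide)),
    hW1 _ (T.conj_z_small (by decide) (by decide))] at f1
  have hzs : T.F.z * s = T.e 2 * s * (T.e 2)⁻¹ := by rw [hxs, hsc]
  rw [hinter, show T.Θ ⊓ centralizer ({T.F.z} : Set G) = T.W from T.Θ_inf_C, hzs,
    card_inf_conj (T.A_le_H (T.e_mem_A 2))] at f2
  have hWs : Nat.card (T.W ⊓ centralizer ({s} : Set G) : Subgroup G) =
      Nat.card (T.W ⊓ centralizer ({T.e 2} : Set G) : Subgroup G) := by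
    obtain ⟨c, hc, ec⟩ := hinner
    rw [← ec, card_inf_conj (T.C_le_normalizer_W hc)]
  rw [hWs] at f2
  set c := Nat.card (T.Θ ⊓ centralizer ({s} : Set G) : Subgroup G)
  have hWpos : 0 < Nat.card T.W := Nat.card_pos
  have hcW : c = Nat.card T.W := by
    have e : Nat.card T.W * (c * c) = Nat.card T.W * (Nat.card T.W * Nat.card T.W) := by
      rw [← mul_assoc, ← f2, f1, mul_assoc]
    exact Nat.mul_self_inj.1 (Nat.eq_of_mul_eq_mul_left hWpos e)
  have hOs : T.Θ ⊓ centralizer ({s} : Set G) = Cfsg.centralizerPPrimeCore 2 s :=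
    eq_of_le_of_card_ge hfix (by
      rw [hW1 _ (T.conj_z_inner hinner), ← hcW])
  have hOsz : T.Θ ⊓ centralizer ({s * T.F.z} : Set G) = Cfsg.centralizerPPrimeCore 2 (s * T.F.z) := by
    refine (eq_of_le_of_card_ge (fun y hy => ?_) ?_).symm
    · rw [← hxs] at hy
      have h1 : (T.e 2)⁻¹ * y * T.e 2 ∈ Cfsg.centralizerPPrimeCore 2 s := by
        have := core_conj (g := (T.e 2)⁻¹) hy
        rwa [inv_inv, show (T.e 2)⁻¹ * (T.e 2 * s * (T.e 2)⁻¹) * T.e 2 = s by group] at this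
      rw [← hOs] at h1
      refine mem_inf.2 ⟨(mem_normalizer_iff''.1 (T.A_le_H (T.e_mem_A 2)) y).2 (mem_inf.1 h1).1, ?_⟩
      rw [mem_centralizer_singleton_iff, ← hxs]
      have := mem_centralizer_singleton_iff.1 (mem_inf.1 h1).2
      have h2 := Cfg.conj_comm (g := T.e 2) this
      simpa [mul_assoc] using h2
    · rw [← hxs, card_inf_conj (T.A_le_H (T.e_mem_A 2)), hxs]
      refine le_of_eq ?_
      show c = _
      rw [hcW, ← card_core_conj ((T.conj_z_inner hinner).trans (isConj_iff.2 ⟨T.e 2, hxs⟩))]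
  refine le_antisymm (sup_le (sup_le T.W_le_Θ (hOs ▸ inf_le_left)) (hOsz ▸ inf_le_left)) ?_
  have h := four_gen T.Θ_odd T.F.orderOf_z hs2 hsc.symm (Ne.symm hsz) hzH hsH
  rw [show T.Θ ⊓ centralizer ({T.F.z} : Set G) = T.W from T.Θ_inf_C, hOs, ← hsc, hOsz] at h
  exact h

/-- The generation by any inner involution. -/
theorem L_inner {u : G} (hu : T.Inner u) : T.L u = T.Θ := by
  have huC := T.mem_C_of_inner hu
  have hu2 : orderOf u = 2 := by
    obtain ⟨c, -, e⟩ := hu
    rw [← Invol.orderOf_conj_eq c, e]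
    exact T.order_e (by decide)
  obtain ⟨hQ, huz⟩ := T.q_mem_Q_of_inner hu
  have hq2 := T.orderOf_q huC hu2
  have hqz : T.q ⟨u, huC⟩ ≠ T.D.F.z := fun e => huz (by
    rcases T.classes huC hu2 with h | h | h
    · exact h
    · obtain ⟨c, hc, ec⟩ := T.conj_of_image huC T.z_mem_C hu2 T.F.orderOf_z (by rw [e, T.q_z])
      calc u = c⁻¹ * (c * u * c⁻¹) * c := by group
        _ = c⁻¹ * (T.F.z * c) := by rw [ec, mul_assoc]
        _ = T.F.z := by rw [← mem_centralizer_singleton_iff.1 hc]; group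
    · exact absurd hQ (T.q_notMem_Q_of_outer h))
  obtain ⟨i, hi⟩ := T.D.F.exists_pair hQ (Invol.invol_mul_self hq2) (Invol.invol_ne_one hq2) hqz
  obtain ⟨u', hu'C, hu'2, hq', hL⟩ : ∃ (u' : G) (h : u' ∈ T.C), u' * u' = 1 ∧
      T.q ⟨u', h⟩ = T.q ⟨u, huC⟩ ∧ T.L u' = T.Θ := by
    have hr := T.p_mem_C (rep_lt i)
    have hrr : T.F.p (rep i) * T.F.p (rep i) = 1 := T.F.r_sq i
    rcases hi with e | e
    · exact ⟨_, hr, hrr, by rw [e, T.D_p (rep_lt i)], T.L_rep i⟩
    · refine ⟨_, mul_mem hr T.z_mem_C, ?_, ?_, by rw [T.L_mul_z, T.L_rep i]⟩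
      · have hc := mem_centralizer_singleton_iff.1 hr
        rw [show T.F.p (rep i) * T.F.z * (T.F.p (rep i) * T.F.z) =
          T.F.p (rep i) * (T.F.z * T.F.p (rep i)) * T.F.z by group, ← hc,
          show T.F.p (rep i) * (T.F.p (rep i) * T.F.z) * T.F.z =
            (T.F.p (rep i) * T.F.p (rep i)) * (T.F.z * T.F.z) by group, hrr,
          Invol.invol_mul_self T.F.orderOf_z, one_mul]
      · rw [e, T.D_p (rep_lt i), ← T.q_z, ← map_mul]
        rfl
  have hu'1 : u' ≠ 1 := fun e => Invol.invol_ne_one hq2 (by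
    rw [← hq', show (⟨u', hu'C⟩ : ↥T.C) = 1 from Subtype.ext e, map_one])
  have hw : u' * u ∈ T.W := T.q_eq_one.1 (show T.q (⟨u', hu'C⟩ * ⟨u, huC⟩) = 1 by
    rw [map_mul, hq', Invol.invol_mul_self hq2])
  obtain ⟨d, hd, ed⟩ := SylAltEight.exists_conj_of_coset T.W_odd
    (Invol.invol_of_mul_self hu'2 hu'1) hu2 hw
  have hdC := T.W_le hd
  refine le_antisymm (fun x hx => ?_) (fun x hx => ?_)
  · have h1 := T.L_conj (g := d⁻¹) (inv_mem hdC) hx
    rw [inv_inv, show d⁻¹ * u * d = u' by rw [← ed]; group, hL] at h1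
    have := (mem_normalizer_iff.1 (T.Θ_le_H (T.W_le_Θ hd)) _).1 h1
    simpa [mul_assoc] using this
  · have hx' : d⁻¹ * x * d ∈ T.L u' := by
      rw [hL]; exact (mem_normalizer_iff''.1 (T.Θ_le_H (T.W_le_Θ hd)) x).1 hx
    have h1 := T.L_conj (g := d) hdC hx'
    rw [ed] at h1
    simpa [mul_assoc] using h1

theorem C_le_H : T.C ≤ T.H := fun g hg => Invol.mem_normalizer_iff_of_finite fun x hx => by
  rw [← T.Θ_eq_L] at hx
  have h := T.L_conj hg hx
  obtain ⟨c, hc, e⟩ := T.inner_e (v := 2) (by decide) (by decide)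
  rwa [T.L_inner (u := g * T.e 2 * g⁻¹) ⟨c * g⁻¹, mul_mem hc (inv_mem hg), Eq.trans (by group) e⟩] at h

/-- A conjugation moving an element of `A` to `z` normalises the closure. -/
theorem mem_H_of_conj {b g : G} (hb : b ∈ T.A) (hg : g * b * g⁻¹ = T.F.z) : g ∈ T.H := by
  classical
  have hgA : ∀ a ∈ T.A, g * a * g⁻¹ ∈ T.C := fun a ha =>
    mem_centralizer_singleton_iff.2 (by rw [← hg]; exact Cfg.conj_comm (T.A_comm a ha b hb))
  obtain ⟨a, ha, hinn⟩ : ∃ a ∈ T.A, T.Inner (g * a * g⁻¹) := by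
    by_contra hno
    push Not at hno
    obtain ⟨π, -, hker⟩ := T.D.pre.hquot
    let ψ : ↥T.A →* ↥(alternatingGroup (Fin 5)) := π.comp
      ((T.q.comp (((MulAut.conj g).toMonoidHom.comp T.A.subtype).codRestrict T.C
        fun a => by simpa using hgA a a.2)).codRestrict _
        fun _ => mem_centralizer_singleton_iff.2 (T.D.hz _))
    have hk : Nat.card ψ.ker ≤ 2 := by
      refine le_trans (Nat.card_le_card_of_injective (β := {x : G // x = 1 ∨ x = b})
        (fun a => ⟨((a : ↥T.A) : G), ?_⟩) fun a a' e =>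
          Subtype.ext (Subtype.ext (congrArg Subtype.val e : _))) ?_
      · by_cases h1 : ((a : ↥T.A) : G) = 1
        · exact Or.inl h1
        refine Or.inr ?_
        have hC := hgA _ (a : ↥T.A).2
        have h2 : orderOf (g * ((a : ↥T.A) : G) * g⁻¹) = 2 := by
          rw [Invol.orderOf_conj_eq]
          exact Invol.invol_of_mul_self (T.A_sq _ (a : ↥T.A).2) h1
        have hQ : T.q ⟨_, hC⟩ ∈ T.D.F.Q := by
          have h' := a.2
          rw [MonoidHom.mem_ker] at h'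
          have h'' : (⟨T.q ⟨_, hC⟩, mem_centralizer_singleton_iff.2 (T.D.hz _)⟩ :
              ↥(centralizer ({T.D.F.z} : Set (↥T.C ⧸ Cfsg.oddCore ↥T.C)))) ∈ π.ker := h'
          rw [hker, mem_subgroupOf] at h''
          exact h''
        rcases T.classes hC h2 with h | h | h
        · exact mul_left_cancel (mul_right_cancel (h.trans hg.symm))
        · exact absurd h (hno _ (a : ↥T.A).2)
        · exact absurd hQ (T.q_notMem_Q_of_outer h)
      · haveI : Fintype {x : G // x = 1 ∨ x = b} := Fintype.ofFinite _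
        haveI : Fintype G := Fintype.ofFinite _
        rw [Nat.card_eq_fintype_card, Fintype.card_subtype]
        refine (Finset.card_le_card (t := {1, b}) fun x hx => ?_).trans Finset.card_le_two
        simpa using (Finset.mem_filter.1 hx).2
    have hr : Nat.card ψ.range ≤ 4 := by
      haveI : Fact (Nat.Prime 2) := ⟨Nat.prime_two⟩
      have h2 : IsPGroup 2 ψ.range :=
        (T.S.2.to_le (T.F.sub_le (eMask 0))).of_surjective _ ψ.rangeRestrict_surjective
      obtain ⟨k, hk⟩ := IsPGroup.iff_card.1 h2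
      have hd := card_subgroup_dvd_card ψ.range
      rw [hk, nat_card_alternatingGroup, Nat.card_fin] at hd
      rw [hk]
      by_contra hlt
      have hk3 : 3 ≤ k := by
        by_contra hk3
        have := Nat.pow_le_pow_right (show 0 < 2 by norm_num) (show k ≤ 2 by omega)
        omega
      exact absurd ((pow_dvd_pow 2 hk3).trans hd) (by decide)
    have hc := card_eq_card_quotient_mul_card_subgroup ψ.ker
    rw [Nat.card_congr (QuotientGroup.quotientKerEquivRange ψ).toEquiv, T.card_A] at hc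
    nlinarith
  set u := g * a * g⁻¹ with hu
  have hL := T.L_inner hinn
  have huz := (T.q_mem_Q_of_inner hinn).2
  have hu1 : a ≠ 1 := fun e => by
    obtain ⟨c, -, ec⟩ := hinn
    rw [hu, e, mul_one, mul_inv_cancel, mul_one, mul_inv_cancel] at ec
    exact T.e_ne_one (v := 2) (by decide) ec.symm
  have hb1 : b ≠ 1 := fun e => Invol.invol_ne_one T.F.orderOf_z (by
    rw [← hg, e, mul_one, mul_inv_cancel])
  have hab : a * b ≠ 1 := fun e => huz (by
    have : a = b := by
      have hbb := T.A_sq b hb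
      calc a = a * (b * b) := by rw [hbb, mul_one]
        _ = b := by rw [← mul_assoc, e, one_mul]
    rw [hu, this, hg])
  have hle : T.L u ≤ T.Θ.map (MulAut.conj g).toMonoidHom := by
    refine sup_le (sup_le (fun x hx => ?_) fun x hx => ?_) fun x hx => ?_ <;>
      refine ⟨g⁻¹ * x * g, ?_, by simp [mul_assoc]⟩
    · refine core_le_closure hb hb1 ?_
      have := core_conj (g := g⁻¹) hx
      rwa [inv_inv, show g⁻¹ * T.F.z * g = b by rw [← hg]; group] at this
    · refine core_le_closure ha hu1 ?_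
      have := core_conj (g := g⁻¹) hx
      rwa [inv_inv, hu, show g⁻¹ * (g * a * g⁻¹) * g = a by group] at this
    · refine core_le_closure (mul_mem ha hb) hab ?_
      have := core_conj (g := g⁻¹) hx
      rwa [inv_inv, hu, ← hg, show g⁻¹ * (g * a * g⁻¹ * (g * b * g⁻¹)) * g = a * b by group] at this
  rw [hL] at hle
  have heq := eq_of_le_of_card_ge hle (le_of_eq (card_map_of_injective (MulAut.conj g).injective))
  exact Invol.mem_normalizer_iff_of_finite fun x hx => by
    rw [heq]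
    exact ⟨x, hx, by simp⟩

/-- The centraliser of an element of `A` conjugate to `z` normalises the closure. -/
theorem cent_le_H_of_conj {b : G} (hb : b ∈ T.A) (hzb : IsConj T.F.z b) :
    centralizer ({b} : Set G) ≤ T.H := by
  obtain ⟨g, hg⟩ := isConj_iff.1 hzb.symm
  have hgH := T.mem_H_of_conj hb hg
  intro c hc
  have h1 : g * c * g⁻¹ ∈ T.C := mem_centralizer_singleton_iff.2 (by
    rw [← hg]; exact Cfg.conj_comm (mem_centralizer_singleton_iff.1 hc))
  have := mul_mem (mul_mem (inv_mem hgH) (T.C_le_H h1)) hgH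
  simpa [mul_assoc] using this

theorem S_le_H : (T.S : Subgroup G) ≤ T.H := T.S_le_C.trans T.C_le_H

end Ctx

end CfsgLib.SylJanko
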