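import Cfsg.Agent.Lib.SylJanko.TypeBad

/-!
No element of the core of `C(z)` is twisted: balance at the outer involutions.
-/

set_option autoImplicit false
set_option maxRecDepth 100000
set_option linter.style.haveILetI false
set_option linter.unusedSectionVars false

namespace CfsgLib.SylJanko

open Subgroup CfsgLib.InvChar
open scoped commutatorElement Pointwise
open CfsgLib.SylAltEight (odd_core core_le le_core core_conj core_conj_self mem_core_iff)

universe u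

namespace Ctx

variable {G : Type u} [Group G] [Finite G] [IsSimpleGroup G]

namespace Cfg

variable {T : Ctx G} (C0 : T.Cfg)

theorem conj_comm {g p q : G} (h : p * q = q * p) :
    g * p * g⁻¹ * (g * q * g⁻¹) = g * q * g⁻¹ * (g * p * g⁻¹) := by
  calc g * p * g⁻¹ * (g * q * g⁻¹) = g * (p * q) * g⁻¹ := by group
    _ = g * (q * p) * g⁻¹ := by rw [h]
    _ = g * q * g⁻¹ * (g * p * g⁻¹) := by group

theorem conj_eq_of_comm {g p : G} (h : g * p = p * g) : g * p * g⁻¹ = p := by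
  rw [h, mul_inv_cancel_right]

/-- `X ∩ C(z)` normalises the parts. -/
theorem X_C_conj_P {g : G} (hg : g ∈ C0.X) (hgz : g * T.e 1 = T.e 1 * g) {k : G} (hk : k ∈ C0.P) :
    g * k * g⁻¹ ∈ C0.P := by
  have hvc : ∀ w, T.Vc C0.a w → g * T.e (w ^^^ 1) * g⁻¹ = T.e (w ^^^ 1) := fun w hw => by
    refine conj_eq_of_comm ?_
    rw [← T.e_mul, ← mul_assoc, C0.comm_vc hg hw, mul_assoc, hgz, ← mul_assoc]
  have hN : ∀ {x}, x ∈ C0.N → g * x * g⁻¹ ∈ C0.N := fun hx =>
    conj_mem_of_normalizer (C0.hNX hg) hx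
  have hO : ∀ w, T.Vc C0.a w → ∀ {x}, x ∈ Cfsg.centralizerPPrimeCore 2 (T.e (w ^^^ 1)) →
      g * x * g⁻¹ ∈ Cfsg.centralizerPPrimeCore 2 (T.e (w ^^^ 1)) := fun w hw x hx => by
    have := core_conj (g := g) hx
    rwa [hvc w hw] at this
  have h : C0.P ≤ C0.P.comap (MulAut.conj g).toMonoidHom := by
    refine sup_le (sup_le (fun x hx => ?_) fun x hx => ?_) fun x hx => ?_ <;>
      show g * x * g⁻¹ ∈ C0.P
    · exact mem_sup_left (mem_sup_left (C0.X_conj_M hg hx))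
    · obtain ⟨hx12, hx3⟩ := mem_inf.1 hx
      obtain ⟨hx1, hx2⟩ := mem_inf.1 hx12
      refine mem_sup_left (mem_sup_right (mem_inf.2 ⟨mem_inf.2 ⟨hN hx1, ?_⟩, hO _ C0.vc_a hx3⟩))
      rw [mem_centralizer_singleton_iff, ← conj_eq_of_comm hgz]
      exact conj_comm (mem_centralizer_singleton_iff.1 hx2)
    · obtain ⟨hx12, hx3⟩ := mem_inf.1 hx
      obtain ⟨hx1, hx2⟩ := mem_inf.1 hx12
      exact mem_sup_right (mem_inf.2 ⟨mem_inf.2 ⟨hN hx1, hO _ C0.hb hx2⟩, hO _ C0.vc_c hx3⟩)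
  exact h hk

theorem GS_le_Gd {s : Fin 16} (hs : s.val < 4) (hs0 : s ≠ 0) : C0.GS s ≤ C0.Gd := by
  rcases small_cases_ne s hs hs0 with rfl | rfl | rfl
  · exact le_sup_right.trans (le_sup_left.trans le_sup_left)
  · exact le_sup_right.trans le_sup_left
  · exact le_sup_right

/-- `N_{C(a)}(A)` permutes the parts. -/
theorem NA_conj_Gd {g : G} (hg : g ∈ T.NA C0.a) {k : G} (hk : k ∈ C0.Gd) :
    g * k * g⁻¹ ∈ C0.Gd := by
  have hgX := C0.mem_X_of_NA hg
  let g' : ↥(normalizer (T.A : Set G)) := ⟨g, (mem_inf.1 hg).1⟩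
  have hpart : ∀ s : Fin 16, s.val < 4 → s ≠ 0 → C0.GS s ≤
      C0.Gd.comap (MulAut.conj g).toMonoidHom := by
    intro s hs hs0 x hx
    show g * x * g⁻¹ ∈ C0.Gd
    set s' := T.F.eAct 0 g' s
    have hs' : s'.val < 4 := act_small C0.h g' hs
    have hs'0 : s' ≠ 0 := fun e => hs0 (act_inj g' (e.trans (act_zero g').symm))
    have e1 : T.e s' = g * T.e s * g⁻¹ := act_spec g' s
    have e2 : T.e (C0.a ^^^ s') = g * T.e (C0.a ^^^ s) * g⁻¹ := by
      rw [← T.e_mul, ← T.e_mul, e1, ← mul_assoc, ← mul_assoc, ← mul_assoc,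
        ← C0.comm_vc hgX C0.vc_a]
    obtain ⟨hx12, hx3⟩ := mem_inf.1 hx
    obtain ⟨hx1, hx2⟩ := mem_inf.1 hx12
    refine C0.GS_le_Gd hs' hs'0
      (mem_inf.2 ⟨mem_inf.2 ⟨conj_mem_of_normalizer (C0.hNX hgX) hx1, ?_⟩, ?_⟩)
    · rw [mem_centralizer_singleton_iff, e1]
      exact conj_comm (mem_centralizer_singleton_iff.1 hx2)
    · rw [e2]; exact core_conj hx3
  have h : C0.Gd ≤ C0.Gd.comap (MulAut.conj g).toMonoidHom :=
    sup_le (sup_le (sup_le (fun x hx => C0.M_le_Gd (C0.X_conj_M hgX hx))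
      (hpart 1 (by decide) (by decide))) (hpart 2 (by decide) (by decide)))
      (hpart 3 (by decide) (by decide))
  simpa using h hk

/-- The stabiliser of the parts. -/
abbrev Stab : Subgroup G := C0.X ⊓ normalizer (C0.Gd : Set G)

theorem mem_Stab_of_C {g : G} (hg : g ∈ C0.X) (hgz : g * T.e 1 = T.e 1 * g) : g ∈ C0.Stab :=
  mem_inf.2 ⟨hg, Invol.mem_normalizer_iff_of_finite fun x hx => by
    rw [C0.Gd_eq_P] at hx ⊢
    exact C0.X_C_conj_P hg hgz hx⟩

theorem mem_Stab_of_NA {g : G} (hg : g ∈ T.NA C0.a) : g ∈ C0.Stab :=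
  mem_inf.2 ⟨C0.mem_X_of_NA hg,
    Invol.mem_normalizer_iff_of_finite fun _ hx => C0.NA_conj_Gd hg hx⟩

theorem e_mem_Stab (t : Fin 16) : T.e t ∈ C0.Stab :=
  C0.mem_Stab_of_C (C0.e_mem_X t) (T.e_comm t 1)

theorem Stab_N {g d : G} (hg : g ∈ C0.Stab) (hd : d ∈ C0.N) : g * d * g⁻¹ ∈ C0.N :=
  conj_mem_of_normalizer (C0.hNX (mem_inf.1 hg).1) hd

theorem Stab_Gd {g d : G} (hg : g ∈ C0.Stab) (hd : d ∈ C0.Gd) : g * d * g⁻¹ ∈ C0.Gd :=
  conj_mem_of_normalizer (mem_inf.1 hg).2 hd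

/-- The stabiliser elements acting trivially on `N` modulo the parts. -/
def R : Subgroup G where
  carrier := {s | s ∈ C0.Stab ∧ ∀ d ∈ C0.N, s * d * s⁻¹ * d⁻¹ ∈ C0.Gd}
  one_mem' := ⟨one_mem _, fun d _ => by simp⟩
  mul_mem' := by
    rintro s t ⟨hs, hs'⟩ ⟨ht, ht'⟩
    refine ⟨mul_mem hs ht, fun d hd => ?_⟩
    have h := mul_mem (C0.Stab_Gd hs (ht' d hd)) (hs' d hd)
    convert h using 1
    group
  inv_mem' := by
    rintro s ⟨hs, hs'⟩
    refine ⟨inv_mem hs, fun d hd => ?_⟩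
    have h := inv_mem (hs' _ (C0.Stab_N (inv_mem hs) hd))
    convert h using 1
    group

theorem mem_R {s : G} : s ∈ C0.R ↔ s ∈ C0.Stab ∧ ∀ d ∈ C0.N, s * d * s⁻¹ * d⁻¹ ∈ C0.Gd := Iff.rfl

theorem R_conj {g s : G} (hg : g ∈ C0.Stab) (hs : s ∈ C0.R) : g * s * g⁻¹ ∈ C0.R := by
  obtain ⟨hs, hs'⟩ := C0.mem_R.1 hs
  refine C0.mem_R.2 ⟨mul_mem (mul_mem hg hs) (inv_mem hg), fun d hd => ?_⟩
  have h := C0.Stab_Gd hg (hs' _ (C0.Stab_N (inv_mem hg) hd))
  convert h using 1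
  group

section Twisted

variable {y : G} (hyW : y ∈ T.W) (hyX : y ∈ C0.X) (hyx : T.σ 2 y = y⁻¹)
  (hyO : y ∉ Cfsg.centralizerPPrimeCore 2 (T.e C0.a))
include hyW hyX hyx hyO

theorem y_z : y * T.e 1 = T.e 1 * y := by
  rw [T.e_one]; exact mem_centralizer_singleton_iff.1 (T.W_le hyW)

theorem y_mem_Stab : y ∈ C0.Stab := C0.mem_Stab_of_C hyX (C0.y_z hyW hyX hyx hyO)

theorem y_odd : Odd (orderOf y) := SylAltEight.odd_orderOf_of_mem T.W_odd hyW

theorem y_mem_az : y ∈ Cfsg.centralizerPPrimeCore 2 (T.e (C0.a ^^^ 1)) := by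
  have hvc : ∀ p, T.Vc C0.a p → p ≠ 0 → ¬ T.Vc (C0.a ^^^ 1) p := fun p hp hp0 => by
    refine vc_not C0.h C0.ha C0.hm C0.az_ge (C0.hall _ C0.az_ge) hp hp0 fun h1 => ?_
    have h2 := vc_xor C0.vc_a h1
    rw [← xor_assoc16, Fin.xor_self, zero_xor16] at h2
    exact absurd (vc_small C0.h C0.ha C0.hm h2 (by decide)) (by decide)
  refine mem_core_of_inverted C0.h C0.az_ge (C0.hall _ C0.az_ge) ?_
    (C0.y_odd hyW hyX hyx hyO) (hvc _ C0.vc_a fun e => by have := C0.ha; simp [e] at this)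
    (hvc _ C0.hb C0.b_ne) (hvc _ C0.vc_c C0.c_ne) (C0.mem_X.1 hyX).1.symm (C0.mem_X.1 hyX).2.symm
    (k := 2) hyx
  rw [mem_centralizer_singleton_iff, ← T.e_mul, ← mul_assoc, (C0.mem_X.1 hyX).1, mul_assoc,
    C0.y_z hyW hyX hyx hyO, ← mul_assoc]

/-- The twisted element acts trivially on `N` modulo the parts. -/
theorem y_mem_R : y ∈ C0.R := by
  have hyS := C0.y_mem_Stab hyW hyX hyx hyO
  let D0 : Subgroup G :=
    { carrier := {d | d ∈ C0.N ∧ y * d * y⁻¹ * d⁻¹ ∈ C0.Gd}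
      one_mem' := ⟨one_mem _, by simp⟩
      mul_mem' := by
        rintro d e ⟨hd, hd'⟩ ⟨he, he'⟩
        refine ⟨mul_mem hd he, ?_⟩
        have h := mul_mem hd' (C0.conj_mem_of_comm C0.N'_le_Gd C0.Gd_le hd he')
        convert h using 1
        group
      inv_mem' := by
        rintro d ⟨hd, hd'⟩
        refine ⟨inv_mem hd, ?_⟩
        have h := C0.conj_mem_of_comm C0.N'_le_Gd C0.Gd_le (inv_mem hd) (inv_mem hd')
        convert h using 1
        group }
  have hGd : C0.Gd ≤ D0 := fun d hd =>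
    ⟨C0.Gd_le hd, mul_mem (C0.Stab_Gd hyS hd) (inv_mem hd)⟩
  have hD0 : D0 ≤ C0.N := fun d hd => hd.1
  have hN'D0 : C0.N' ≤ D0 := C0.N'_le_Gd.trans hGd
  have hz : C0.N ⊓ centralizer ({T.e 1} : Set G) ≤ D0 := by
    intro d hd
    obtain ⟨hdN, hdz⟩ := mem_inf.1 hd
    refine ⟨hdN, ?_⟩
    have hdaz : d ∈ centralizer ({T.e (C0.a ^^^ 1)} : Set G) := by
      rw [mem_centralizer_singleton_iff, ← T.e_mul, ← mul_assoc, C0.comm_a hdN, mul_assoc,
        mem_centralizer_singleton_iff.1 hdz, ← mul_assoc]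
    have hO := C0.y_mem_az hyW hyX hyx hyO
    have h1 : y * d * y⁻¹ * d⁻¹ ∈ Cfsg.centralizerPPrimeCore 2 (T.e (C0.a ^^^ 1)) := by
      rw [show y * d * y⁻¹ * d⁻¹ = y * (d * y⁻¹ * d⁻¹) by group]
      exact mul_mem hO (core_conj_self hdaz (inv_mem hO))
    have hyz : y ∈ centralizer ({T.e 1} : Set G) :=
      mem_centralizer_singleton_iff.2 (C0.y_z hyW hyX hyx hyO)
    exact C0.GS_le_Gd (s := 1) (by decide) (by decide) (mem_inf.2 ⟨mem_inf.2
      ⟨mul_mem (C0.Stab_N hyS hdN) (inv_mem hdN),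
        mul_mem (mul_mem (mul_mem hyz hdz) (inv_mem hyz)) (inv_mem hdz)⟩, h1⟩)
  have hu : ∀ u : Fin 16, u = 2 ∨ u = 3 → C0.N ⊓ centralizer ({T.e u} : Set G) ≤ D0 := by
    intro u hu d hd
    obtain ⟨p, q, hpq, hp, hq, hq'⟩ := C0.pair hu
    have hu4 : u.val < 4 := by rcases hu with rfl | rfl <;> decide
    have hu0 : u ≠ 0 := by rcases hu with rfl | rfl <;> decide
    have hu1 : u ≠ 1 := by rcases hu with rfl | rfl <;> decide
    have hau := not_small_xor C0.a u C0.ha hu4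
    have hq4 : 4 ≤ q.val := by
      rcases hpq with ⟨-, e⟩ | ⟨-, e⟩ <;> rw [e]
      · exact not_small_xor _ _ (vc_eq C0.h C0.ha C0.hm C0.vc_c C0.c_ne).1 (by decide)
      · exact not_small_xor _ _ C0.b_ge (by decide)
    have hpq' : p ^^^ q = C0.a := by
      rcases hpq with ⟨e, e'⟩ | ⟨e, e'⟩ <;> rw [e, e', xor_pair]
      · rw [xor_left_comm16, Fin.xor_self, Fin.xor_zero]
      · rw [xor_assoc16, Fin.xor_self, Fin.xor_zero]
    have hqc : q = C0.b ^^^ 1 ∨ q = C0.c ^^^ 1 := by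
      rcases hpq with ⟨-, e⟩ | ⟨-, e⟩
      · exact Or.inr e
      · exact Or.inl e
    have hyu : T.σ u y = y⁻¹ := by
      rcases hu with rfl | rfl
      · exact hyx
      · rw [σ_three hyW]; exact hyx
    have hyz := C0.y_z hyW hyX hyx hyO
    have hbz : ∀ k ∈ C0.N ⊓ centralizer ({T.e u} : Set G),
        k * T.e (C0.b ^^^ 1) = T.e (C0.b ^^^ 1) * k → k ∈ D0 := by
      intro k hk hkb
      obtain ⟨hkN, hku⟩ := mem_inf.1 hk
      have hku' := mem_centralizer_singleton_iff.1 hku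
      set k' := k * T.σ C0.b k⁻¹ with hk'
      have hk'N : k' ∈ C0.N := mul_mem hkN (C0.σ_mem (inv_mem hkN))
      have hcomm : ∀ s, k * T.e s = T.e s * k → k' * T.e s = T.e s * k' := fun s hs => by
        rw [← T.σ_fix, hk', T.σ_mul, T.σ_fix.2 hs, T.σ_fix.2 (σ_comm (t := s) (by
          rw [← T.σ_fix, T.σ_inv, T.σ_fix.2 hs]))]
      have hk'c : k' * T.e (C0.c ^^^ 1) = T.e (C0.c ^^^ 1) * k' := by
        rw [show C0.c ^^^ 1 = C0.a ^^^ (C0.b ^^^ 1) from xor_assoc16 _ _ _, ← T.e_mul, ← mul_assoc,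
          C0.comm_a hk'N, mul_assoc, hcomm _ hkb, ← mul_assoc]
      have hk'q : k' * T.e q = T.e q * k' := by
        rcases hqc with e | e <;> rw [e]
        · exact hcomm _ hkb
        · exact hk'c
      have hOq : k' ∈ Cfsg.centralizerPPrimeCore 2 (T.e q) := by
        refine mem_core_of_inverted C0.h hq4 (C0.hall _ hq4)
          (mem_centralizer_singleton_iff.2 hk'q) (C0.odd_of_mem hk'N) (a := u) (b := C0.a) ?_ ?_ ?_
          (hcomm u hku').symm (C0.comm_a hk'N).symm (k := C0.b) (twist_inverted (T.e_sq C0.b) k)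
        · exact fun h' => hu0 (vc_small C0.h hq4 (C0.hall _ hq4) h' hu4)
        · intro h'
          have hp4 : 4 ≤ p.val := by
            rcases hpq with ⟨e, -⟩ | ⟨e, -⟩ <;> rw [e]
            · exact not_small_xor _ _ C0.b_ge (by decide)
            · exact not_small_xor _ _ (vc_eq C0.h C0.ha C0.hm C0.vc_c C0.c_ne).1 (by decide)
          have h2 := vc_xor (vc_self (T := T) q) h'
          rw [← hpq', Fin.xor_comm p q, xor_cancel_left16] at h2
          exact hq (((vc_eq C0.h hau (C0.hall _ hau) hp fun e => by simp [e] at hp4).2.2 q).1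
            (vc_symm C0.h hq4 (C0.hall _ hq4) h2 fun e => by simp [e] at hp4))
        · rw [Fin.xor_comm]
          exact fun h' => hq (vc_symm C0.h hq4 (C0.hall _ hq4) h' fun e => by simp [e] at hau)
      have hyq : y ∈ centralizer ({T.e q} : Set G) := by
        rw [mem_centralizer_singleton_iff]
        rcases hqc with e | e <;>
          rw [e, ← T.e_mul, ← mul_assoc, C0.comm_vc hyX ?_, mul_assoc, hyz, ← mul_assoc]
        · exact C0.hb
        · exact C0.vc_c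
      set c0 := y * k' * y⁻¹ * k'⁻¹ with hc0
      have hc0H : c0 ∈ C0.N ⊓ Cfsg.centralizerPPrimeCore 2 (T.e q) :=
        mem_inf.2 ⟨mul_mem (C0.Stab_N hyS hk'N) (inv_mem hk'N),
          mul_mem (core_conj_self hyq hOq) (inv_mem hOq)⟩
      set H := C0.N ⊓ Cfsg.centralizerPPrimeCore 2 (T.e q) with hH
      have hHn : ∀ s, T.e s ∈ normalizer (H : Set G) := fun s =>
        Invol.mem_normalizer_iff_of_finite fun x hx => by
          rw [← T.σ_conj]
          exact mem_inf.2 ⟨C0.σ_mem (mem_inf.1 hx).1, σ_core (mem_inf.1 hx).2⟩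
      have hu' : u ^^^ 1 = 2 ∨ u ^^^ 1 = 3 := by rcases hu with rfl | rfl <;> decide
      have hu'4 : (u ^^^ 1).val < 4 := xor_small _ _ hu4 (by decide)
      have hu'0 : u ^^^ 1 ≠ 0 := fun e => hu1 (eq_of_xor _ _ e)
      have hgen := four_gen ((odd_core (T.e C0.a)).of_dvd_nat
          (card_dvd_of_le (inf_le_left.trans C0.hN)))
        (T.order_e (v := 1) (by decide)) (T.order_e (v := u) hu0) (T.e_comm 1 u)
        (fun e => hu1 (T.e_inj e).symm) (hHn 1) (hHn u) hc0H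
      rw [T.e_mul, Fin.xor_comm 1 u] at hgen
      have hsplit : c0 ∈ C0.Gd ⊔ (C0.N ⊓ centralizer ({T.e u} : Set G)) := by
        refine SetLike.le_def.1 ?_ hgen
        refine sup_le (sup_le (fun x hx => mem_sup_left ?_) (fun x hx => mem_sup_right ?_))
          (fun x hx => mem_sup_left ?_)
        · obtain ⟨hxH, hxz⟩ := mem_inf.1 hx
          obtain ⟨hxN, hxq⟩ := mem_inf.1 hxH
          exact C0.M_le_Gd (C0.comm_b_of_z hxN (mem_centralizer_singleton_iff.1 hxz) hqc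
            (mem_centralizer_singleton_iff.1 (core_le _ hxq)))
        · exact mem_inf.2 ⟨(mem_inf.1 (mem_inf.1 hx).1).1, (mem_inf.1 hx).2⟩
        · obtain ⟨hxH, hxu⟩ := mem_inf.1 hx
          obtain ⟨hxN, hxq⟩ := mem_inf.1 hxH
          exact C0.GS_le_Gd hu'4 hu'0 (C0.mem_GS_of_core hu'4 hq' hxN
            (mem_centralizer_singleton_iff.1 hxu) hxq)
      have hnorm : C0.N ⊓ centralizer ({T.e u} : Set G) ≤ normalizer (C0.Gd : Set G) := fun g hg =>
        Invol.mem_normalizer_iff_of_finite fun x hx =>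
          C0.conj_mem_of_comm C0.N'_le_Gd C0.Gd_le (mem_inf.1 hg).1 hx
      have hsplit' : c0 ∈ ((C0.Gd : Set G) *
          (C0.N ⊓ centralizer ({T.e u} : Set G) : Subgroup G) : Set G) := by
        rw [← coe_mul_of_right_le_normalizer_left _ _ hnorm]; exact hsplit
      obtain ⟨g, hg, t, ht, egt⟩ := Set.mem_mul.1 hsplit'
      have h1 : T.σ u c0 * c0⁻¹ ∈ C0.Gd := by
        rw [← egt, T.σ_mul, T.σ_fix.2 (mem_centralizer_singleton_iff.1 (mem_inf.1 ht).2),
          mul_inv_rev, mul_assoc, mul_inv_cancel_left, T.σ_conj]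
        exact mul_mem (C0.Stab_Gd (C0.e_mem_Stab u) hg) (inv_mem hg)
      have hσc : T.σ u c0 = y⁻¹ * k' * y * k'⁻¹ := by
        rw [hc0, T.σ_mul, T.σ_mul, T.σ_mul, T.σ_inv u y, T.σ_inv u k', hyu,
          T.σ_fix.2 (hcomm u hku'), inv_inv]
      rw [hσc, hc0] at h1
      -- `y * y` fixes `k'` modulo the parts
      have h2 : y * y * k' * (y * y)⁻¹ * k'⁻¹ ∈ C0.Gd := by
        have h := C0.Stab_Gd hyS (inv_mem h1)
        convert h using 1
        group
      let Sk : Subgroup G :=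
        { carrier := {s | s ∈ C0.Stab ∧ s * k' * s⁻¹ * k'⁻¹ ∈ C0.Gd}
          one_mem' := ⟨one_mem _, by simp⟩
          mul_mem' := by
            rintro s s' ⟨hs, hs'⟩ ⟨ht, ht'⟩
            refine ⟨mul_mem hs ht, ?_⟩
            have h := mul_mem (C0.Stab_Gd hs ht') hs'
            convert h using 1
            group
          inv_mem' := by
            rintro s ⟨hs, hs'⟩
            refine ⟨inv_mem hs, ?_⟩
            have h := C0.Stab_Gd (inv_mem hs) (inv_mem hs')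
            convert h using 1
            group }
      have hyk : y * k' * y⁻¹ * k'⁻¹ ∈ C0.Gd :=
        (mem_of_sq_of_odd (M := Sk) (C0.y_odd hyW hyX hyx hyO) ⟨mul_mem hyS hyS, h2⟩).2
      have hk'D : k' ∈ D0 := ⟨hk'N, hyk⟩
      have h3 : T.σ C0.b k * k ∈ C0.M := by
        have := C0.σ_M (s := C0.b) (C0.binv hkN)
        rwa [T.σ_mul, T.σ_σ] at this
      refine mem_of_sq_of_odd (C0.odd_of_mem hkN) ?_
      have h4 := mul_mem hk'D (hGd (C0.M_le_Gd h3))
      rw [hk', T.σ_inv] at h4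
      convert h4 using 1
      group
    have key : ∀ s, (∀ k ∈ C0.N ⊓ centralizer ({T.e u} : Set G),
        k * T.e s = T.e s * k → k ∈ D0) → d * T.σ s d ∈ D0 := fun s hs => by
      have h1 : C0.N' ⊔ (C0.N ⊓ centralizer ({T.e u} : Set G) ⊓ centralizer ({T.e s} : Set G)) ≤ D0 :=
        sup_le hN'D0 fun k hk => hs k (mem_inf.1 hk).1
          (mem_centralizer_singleton_iff.1 (mem_inf.1 hk).2)
      exact h1 (C0.fixed_lift inf_le_left (fun k hk => mem_inf.2 ⟨C0.σ_mem (mem_inf.1 hk).1,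
        mem_centralizer_singleton_iff.2
          (σ_comm (mem_centralizer_singleton_iff.1 (mem_inf.1 hk).2))⟩) hd)
    have hdN := (mem_inf.1 hd).1
    refine C0.mem_of_products hN'D0 hD0 hdN
      (key 1 fun k hk hkz => hz (mem_inf.2 ⟨(mem_inf.1 hk).1, mem_centralizer_singleton_iff.2 hkz⟩))
      (key (C0.b ^^^ 1) hbz) ?_
    rw [Fin.xor_comm, ← T.σ_comp, ← T.σ_mul]
    exact hGd (C0.M_le_Gd (C0.σ_M (C0.binv hdN)))
  refine C0.mem_R.2 ⟨hyS, fun d hd => ?_⟩
  have hn : ∀ s, T.e s ∈ normalizer (C0.N : Set G) := fun s => C0.hNX (C0.e_mem_X s)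
  have h := four_gen ((odd_core (T.e C0.a)).of_dvd_nat (card_dvd_of_le C0.hN))
    (T.order_e (v := 1) (by decide)) (T.order_e (v := 2) (by decide)) (T.e_comm 1 2)
    (fun e => absurd (T.e_inj e) (by decide)) (hn 1) (hn 2) hd
  rw [T.e_mul, show (1 : Fin 16) ^^^ 2 = 3 by decide] at h
  exact ((sup_le (sup_le hz (hu 2 (Or.inl rfl))) (hu 3 (Or.inr rfl))) h).2

end Twisted

/-- Only the four-group of `A` acts trivially on `N` modulo the parts. -/
theorem vc_of_mem_R {t : Fin 16} (ht : T.e t ∈ C0.R) : T.Vc C0.a t := by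
  obtain ⟨s, hs, hts⟩ := vc_coset C0.h C0.ha C0.hm t
  by_cases hs0 : s = 0
  · rwa [hs0, Fin.xor_zero] at hts
  exfalso
  have hexists : ∀ w : Fin 16, w.val < 4 → w ≠ 0 → ∃ n ∈ C0.N, n * T.e w = T.e w * n ∧
      T.σ C0.b n = n⁻¹ ∧ n ∉ C0.Gd := by
    intro w hw hw0
    obtain ⟨k, hk, ek⟩ := C0.move hw hw0
    have hkS := C0.mem_Stab_of_NA hk
    refine ⟨k * C0.n * k⁻¹, C0.Stab_N hkS C0.hn, ?_, ?_, fun h => C0.n_notMem ?_⟩
    · rw [← ek]; exact conj_comm C0.hnz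
    · rw [T.σ_conj, ← conj_eq_of_comm (C0.comm_vc (C0.mem_X_of_NA hk) C0.hb),
        show k * T.e C0.b * k⁻¹ * (k * C0.n * k⁻¹) * (k * T.e C0.b * k⁻¹)⁻¹ =
          k * (T.e C0.b * C0.n * (T.e C0.b)⁻¹) * k⁻¹ by group, ← T.σ_conj, C0.hnb]
      group
    · have := C0.Stab_Gd (inv_mem hkS) h
      simpa [mul_assoc] using this
  have hcond : ∀ n ∈ C0.N, T.σ t n * n⁻¹ ∈ C0.Gd := fun n hn => by
    rw [T.σ_conj]; exact (C0.mem_R.1 ht).2 n hn
  rcases C0.vc_cases hts with e | e | e | e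
  case inr.inr.inl | inr.inr.inr =>
    obtain ⟨n, hn, hns, hnb, hnG⟩ := hexists s hs hs0
    refine hnG (mem_of_sq_of_odd (C0.odd_of_mem hn) ?_)
    have h := hcond n hn
    have hσ : T.σ t n = n⁻¹ := by
      rw [show t = s ^^^ (t ^^^ s) from xor_split _ _, ← T.σ_comp, e]
      first
        | rw [hnb, T.σ_inv, T.σ_fix.2 hns]
        | rw [← T.σ_comp C0.a C0.b, hnb, T.σ_inv C0.a, T.σ_fix.2 (C0.comm_a hn), T.σ_inv,
            T.σ_fix.2 hns]
    rw [hσ] at h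
    simpa using inv_mem h
  all_goals
    set w : Fin 16 := if s = 1 then 2 else 1 with hw
    have hw4 : w.val < 4 := by rw [hw]; split_ifs <;> decide
    have hw0 : w ≠ 0 := by rw [hw]; split_ifs <;> decide
    have hws : w ≠ s := by
      rw [hw]; split_ifs with h1
      · rw [h1]; decide
      · exact Ne.symm h1
    obtain ⟨n, hn, hnw, -, hnG⟩ := hexists w hw4 hw0
    refine hnG (mem_of_sq_of_odd (C0.odd_of_mem hn) ?_)
    have h := hcond n hn
    have hσ : T.σ t n = T.σ s n := by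
      rw [show t = s ^^^ (t ^^^ s) from xor_split _ _, ← T.σ_comp, e]
      first
        | rw [T.σ_zero, Fin.xor_zero]
        | rw [T.σ_zero]
        | rw [T.σ_fix.2 (C0.comm_a hn), xor_xor_cancel]
        | rw [T.σ_fix.2 (C0.comm_a hn)]
      all_goals simp only [xor_xor_cancel, Fin.xor_zero, xor_split]
    have hH : C0.N' ⊔ (C0.N ⊓ centralizer ({T.e w} : Set G) ⊓ centralizer ({T.e s} : Set G)) ≤
        C0.Gd := by
      refine sup_le C0.N'_le_Gd fun k hk => ?_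
      obtain ⟨hk12, hk3⟩ := mem_inf.1 hk
      obtain ⟨hk1, hk2⟩ := mem_inf.1 hk12
      have hall := fun v (hv : v.val < 4) => comm_small hw4 hs hw0 hs0 hws
        (mem_centralizer_singleton_iff.1 hk2) (mem_centralizer_singleton_iff.1 hk3) (v := v) hv
      rw [C0.Gd_eq_P]
      exact mem_sup_left (C0.mem_of_z_x hk1 (hall 1 (by decide)) (hall 2 (by decide)))
    have h1 : n * T.σ s n ∈ C0.Gd := hH (C0.fixed_lift inf_le_left
      (fun k hk => mem_inf.2 ⟨C0.σ_mem (mem_inf.1 hk).1, mem_centralizer_singleton_iff.2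
        (σ_comm (mem_centralizer_singleton_iff.1 (mem_inf.1 hk).2))⟩)
      (mem_inf.2 ⟨hn, mem_centralizer_singleton_iff.2 hnw⟩))
    rw [hσ] at h
    have h2 := mul_mem h1 (C0.conj_mem_of_comm C0.N'_le_Gd C0.Gd_le
      (inv_mem (C0.σ_mem (s := s) hn)) (inv_mem h))
    convert h2 using 1
    group

end Cfg

/-- **There are no twisted elements.** -/
theorem not_bad {T : Ctx G} (h : T.Two) {v : Fin 16} (hv : 4 ≤ v.val) : ¬ T.Bad v := by
  intro hb
  obtain ⟨C0, y, hyW, hyX, hyx, hyO⟩ := exists_cfg h hv hb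
  haveI : Fact (Nat.Prime 2) := ⟨Nat.prime_two⟩
  have hyodd := SylAltEight.odd_orderOf_of_mem T.W_odd hyW
  have hy1 : C0.φ ⟨y, hyX⟩ ≠ 1 := fun e => hyO (C0.core_of_φ_odd e hyodd)
  have hyodd' : Odd (orderOf (C0.φ ⟨y, hyX⟩)) := by
    refine hyodd.of_dvd_nat ?_
    rw [← Subgroup.orderOf_mk y hyX]
    exact orderOf_map_dvd _ _
  obtain ⟨P, hP, hPe, hPall⟩ := C0.exists_sylow_K
  set Nimg := (C0.Stab.subgroupOf C0.X).map C0.φ with hNimg
  set Rimg := (C0.R.subgroupOf C0.X).map C0.φ with hRimg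
  by_cases hne : Nimg = ⊤
  · -- the image of `R` is normal
    have hRn : Rimg.Normal := ⟨by
      rintro _ ⟨r, hr, rfl⟩ k
      obtain ⟨g, hg, rfl⟩ : k ∈ Nimg := hne ▸ mem_top k
      exact ⟨g * r * g⁻¹, mem_subgroupOf.2 (C0.R_conj (mem_subgroupOf.1 hg) (mem_subgroupOf.1 hr)),
        by simp⟩⟩
    have hyR : C0.φ ⟨y, hyX⟩ ∈ Rimg :=
      ⟨_, mem_subgroupOf.2 (C0.y_mem_R hyW hyX hyx hyO), rfl⟩
    have heven : Even (Nat.card Rimg) := by
      by_contra hodd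
      rw [Nat.not_even_iff_odd] at hodd
      have := Invol.le_oddCore hRn hodd hyR
      rw [C0.oddCore_K, mem_bot] at this
      exact hy1 this
    obtain ⟨i, hi, hi2⟩ := Invol.exists_invol_mem heven
    set z' : ↥C0.X := ⟨T.e 1, C0.e_mem_X 1⟩ with hz'
    have hzK : orderOf (C0.φ z') = 2 := Invol.invol_of_mul_self
      (by rw [← map_mul, show z' * z' = 1 from Subtype.ext (T.e_sq 1), map_one]) C0.φ_e_one_ne
    obtain ⟨g, hg⟩ := isConj_iff.1 (C0.one_class i _ hi2 hzK)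
    obtain ⟨r, hr, er⟩ : C0.φ z' ∈ Rimg := hg ▸ hRn.conj_mem i hi g
    have h1 : C0.φ (z' * r) = 1 := by
      rw [map_mul, er, ← map_mul, show z' * z' = 1 from Subtype.ext (T.e_sq 1), map_one]
    obtain ⟨w, hw, hwr⟩ := C0.φ_eq_one.1 h1
    change T.e w * (T.e 1 * (r : G)) ∈ _ at hwr
    rw [← mul_assoc, T.e_mul] at hwr
    set t0 := w ^^^ (1 : Fin 16) with ht0
    haveI : (Cfsg.oddCore ↥C0.X).Normal := Cfsg.pPrimeCore_normal 2 _
    set π := QuotientGroup.mk' (Cfsg.oddCore ↥C0.X) with hπ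
    set a' : ↥C0.X := ⟨T.e t0, C0.e_mem_X t0⟩ with ha'
    have haa : a' * a' = 1 := Subtype.ext (T.e_sq t0)
    have hπr : π r = π a' := by
      have h2 : π (a' * r) = 1 := (QuotientGroup.eq_one_iff _).2 (C0.mem_oddCore_X.2 hwr)
      rw [map_mul, mul_eq_one_iff_inv_eq] at h2
      rw [← h2, ← map_inv, inv_eq_of_mul_eq_one_right haa]
    set m := Nat.card (Cfsg.oddCore ↥C0.X) with hm
    obtain ⟨j, hj⟩ := Invol.odd_card_oddCore ↥C0.X
    set t := r ^ m with ht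
    have htt : t * t = 1 := by
      have h3 : r * r ∈ Cfsg.oddCore ↥C0.X := by
        rw [← QuotientGroup.eq_one_iff]
        show π (r * r) = 1
        rw [map_mul, hπr, ← map_mul, haa, map_one]
      rw [ht, ← pow_add, ← two_mul, pow_mul, pow_two]
      exact orderOf_dvd_iff_pow_eq_one.1 ((Cfsg.oddCore ↥C0.X).orderOf_dvd_natCard h3)
    have hπt : π t = π a' := by
      rw [ht, map_pow, hπr, hm, hj, pow_succ, pow_mul, pow_two, ← map_mul, haa, map_one, one_pow,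
        one_mul]
    have hvc1 : ¬ T.Vc C0.a t0 := fun h' => by
      have h2 := vc_xor hw h'
      rw [ht0, xor_cancel_left16] at h2
      exact absurd (vc_small C0.h C0.ha C0.hm h2 (by decide)) (by decide)
    have ht1 : (t : G) ≠ 1 := fun e => by
      rw [show t = 1 from Subtype.ext e, map_one] at hπt
      have h4 := C0.mem_oddCore_X.1 ((QuotientGroup.eq_one_iff _).1 hπt.symm)
      refine hvc1 ?_
      have h5 : T.e t0 = 1 := Invol.eq_one_of_sq_of_odd (T.e_sq t0)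
        (SylAltEight.odd_orderOf_of_mem (odd_core _) h4)
      rw [T.e_inj (h5.trans T.e_zero.symm)]
      exact vc_zero _
    have hcoset : (t : G) * T.e t0 ∈ Cfsg.centralizerPPrimeCore 2 (T.e C0.a) ⊓ C0.Stab := by
      refine mem_inf.2 ⟨?_, mul_mem ?_ (C0.e_mem_Stab t0)⟩
      · have h3 : π (t * a') = 1 := by rw [map_mul, hπt, ← map_mul, haa, map_one]
        exact C0.mem_oddCore_X.1 ((QuotientGroup.eq_one_iff _).1 h3)
      · rw [ht, SubmonoidClass.coe_pow]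
        exact pow_mem (C0.mem_R.1 (mem_subgroupOf.1 hr)).1 _
    obtain ⟨d, hd, ed⟩ := SylAltEight.exists_conj_of_coset
      ((odd_core (T.e C0.a)).of_dvd_nat (card_dvd_of_le inf_le_left))
      (Invol.invol_of_mul_self (congrArg Subtype.val htt) ht1)
      (T.order_e fun e => hvc1 (by rw [e]; exact vc_zero _)) hcoset
    refine hvc1 (C0.vc_of_mem_R ?_)
    rw [← ed]
    refine C0.R_conj (mem_inf.1 hd).2 ?_
    rw [ht, SubmonoidClass.coe_pow]
    exact pow_mem (mem_subgroupOf.1 hr) _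
  · have hC4 := card_centralizer_eq_four P hP C0.oddCore_K C0.one_class (hPe 1) C0.φ_e_one_ne Nimg
      (fun k hk => by
        obtain ⟨s, -, rfl⟩ := hPall k hk
        exact ⟨_, mem_subgroupOf.2 (C0.e_mem_Stab s), rfl⟩)
      (fun k hk => by
        obtain ⟨g, hg, rfl⟩ := C0.centralizer_φ hk
        exact ⟨g, mem_subgroupOf.2 (C0.mem_Stab_of_C g.2 hg), rfl⟩)
      (fun k hk hk1 => by
        obtain ⟨s, hs, rfl⟩ := hPall k hk
        have hs0 : s ≠ 0 := fun e => by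
          subst e
          exact hk1 (by rw [show (⟨T.e 0, C0.e_mem_X 0⟩ : ↥C0.X) = 1 from Subtype.ext T.e_zero,
            map_one])
        obtain ⟨g, hg, eg⟩ := C0.move hs hs0
        refine ⟨C0.φ ⟨g, C0.mem_X_of_NA hg⟩, ⟨_, mem_subgroupOf.2 (C0.mem_Stab_of_NA hg), rfl⟩, ?_⟩
        rw [← map_inv, ← map_mul, ← map_mul]
        exact congrArg C0.φ (Subtype.ext eg)) hne
    have hPC : (P : Subgroup C0.K) ≤ centralizer ({C0.φ ⟨T.e 1, C0.e_mem_X 1⟩} : Set C0.K) := by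
      intro k hk
      obtain ⟨s, -, rfl⟩ := hPall k hk
      rw [mem_centralizer_singleton_iff, ← map_mul, ← map_mul]
      exact congrArg C0.φ (Subtype.ext (T.e_comm s 1))
    have heq := eq_of_le_of_card_ge hPC (by rw [hC4, hP.card_four])
    have hyP : C0.φ ⟨y, hyX⟩ ∈ (P : Subgroup C0.K) := by
      rw [heq, mem_centralizer_singleton_iff, ← map_mul, ← map_mul]
      exact congrArg C0.φ (Subtype.ext (C0.y_z hyW hyX hyx hyO))
    exact hy1 (Invol.eq_one_of_sq_of_odd (Invol.klein_sq_eq_one hP hyP) hyodd')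

/-- Balance between `z` and an outer involution of `A`. -/
theorem W_inf_le {T : Ctx G} (h : T.Two) {v : Fin 16} (hv : 4 ≤ v.val) :
    T.W ⊓ centralizer ({T.e v} : Set G) ≤ Cfsg.centralizerPPrimeCore 2 (T.e v) := by
  haveI : Fact (Nat.Prime 2) := ⟨Nat.prime_two⟩
  intro w hw
  obtain ⟨hwW, hwC⟩ := mem_inf.1 hw
  have hwv := mem_centralizer_singleton_iff.1 hwC
  have hodd := SylAltEight.odd_orderOf_of_mem T.W_odd hwW
  by_cases hm : T.Moves v
  swap
  · exact mem_core_of_not_moves h hv hm hwv hodd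
  obtain ⟨Fr, rfl⟩ := exists_four h hv hm
  set O := Cfsg.centralizerPPrimeCore 2 (T.e Fr.a)
  -- move into the centraliser of the four-group
  have hws : w⁻¹ * (T.e Fr.b * w * T.e Fr.b) ∈ O ⊓ T.W := by
    refine mem_inf.2 ⟨?_, mul_mem (inv_mem hwW) ?_⟩
    · have h1 := core_conj_self (inv_mem hwC) (comm_mem_core h Fr.ha Fr.hm Fr.hb hwC)
      rw [inv_inv, inv_eq_of_mul_eq_one_right (T.e_sq Fr.b)] at h1
      simpa [mul_assoc] using h1
    · have := T.W_conj (T.e_mem_C Fr.b) hwW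
      rwa [inv_eq_of_mul_eq_one_right (T.e_sq _)] at this
  obtain ⟨m, hm', hmb⟩ := exists_fixed_coset (M := O ⊓ T.W)
    ((odd_core _).of_dvd_nat (card_dvd_of_le inf_le_left)) (T.e_sq Fr.b) hws
  obtain ⟨hmO, hmW⟩ := mem_inf.1 hm'
  set c := w * m
  have hcW : c ∈ T.W := mul_mem hwW hmW
  have hcX : c ∈ Fr.X := mem_inf.2 ⟨mul_mem hwC (core_le _ hmO),
    mem_centralizer_singleton_iff.2 hmb.symm⟩
  suffices hc : c ∈ O by
    have := mul_mem hc (inv_mem hmO)
    rwa [mul_inv_cancel_right] at this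
  set x' : ↥Fr.X := ⟨T.e 2, Fr.e_mem_X 2⟩ with hx'
  have hxx : x' * x' = 1 := Subtype.ext (T.e_sq 2)
  -- the image of `O(C(z))` centralises the image of `x`
  have hfix : ∀ d : ↥Fr.X, (d : G) ∈ T.W → Commute (Fr.φ d) (Fr.φ x') := by
    intro d hd
    set y := (d : G) * T.σ 2 (d : G)⁻¹
    have hyW : y ∈ T.W := mul_mem hd (by rw [T.σ_conj]; exact T.W_conj (T.e_mem_C 2) (inv_mem hd))
    have hyX : y ∈ Fr.X := mul_mem d.2 (mul_mem (mul_mem (Fr.e_mem_X 2) (inv_mem d.2)) (Fr.e_mem_X 2))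
    have hyO : y ∈ O := by
      by_contra hyO
      exact not_bad h Fr.ha ⟨y, hyW, (Fr.mem_X.1 hyX).1, twist_inverted (T.e_sq 2) _, hyO⟩
    have h1 := Fr.φ_of_core (x := ⟨y, hyX⟩) hyO
    rw [show (⟨y, hyX⟩ : ↥Fr.X) = d * (x' * d⁻¹ * x') from Subtype.ext rfl, map_mul, map_mul,
      map_mul, map_inv] at h1
    have hsq : Fr.φ x' * Fr.φ x' = 1 := by rw [← map_mul, hxx, map_one]
    have h2 : Fr.φ d * Fr.φ x' * (Fr.φ d)⁻¹ = Fr.φ x' := by
      calc Fr.φ d * Fr.φ x' * (Fr.φ d)⁻¹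
          = Fr.φ d * (Fr.φ x' * (Fr.φ d)⁻¹ * Fr.φ x') * (Fr.φ x' * Fr.φ x')⁻¹ * Fr.φ x' := by group
        _ = Fr.φ x' := by rw [h1, hsq, inv_one, one_mul, one_mul]
    exact mul_inv_eq_iff_eq_mul.1 h2
  obtain ⟨P, hP, hPe, hPall⟩ := Fr.exists_sylow_K
  have hle : centralizer ({Fr.φ ⟨T.e 1, Fr.e_mem_X 1⟩} : Set Fr.K) ≤
      centralizer ((P : Subgroup Fr.K) : Set Fr.K) := by
    intro k hk
    have hk1 := mem_centralizer_singleton_iff.1 hk
    obtain ⟨g, hg, rfl⟩ := Fr.centralizer_φ hk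
    obtain ⟨t, ht⟩ := Fr.split g.2 hg
    set d : ↥Fr.X := ⟨T.e t, Fr.e_mem_X t⟩ * g
    have hkx : Commute (Fr.φ g) (Fr.φ x') := by
      have h3 : Commute (Fr.φ (⟨T.e t, Fr.e_mem_X t⟩ : ↥Fr.X)) (Fr.φ x') := by
        show _ = _
        rw [← map_mul, ← map_mul]
        exact congrArg Fr.φ (Subtype.ext (T.e_comm t 2))
      have h4 := (h3.inv_left).mul_left (hfix d ht)
      rwa [map_mul, inv_mul_cancel_left] at h4
    refine mem_centralizer_iff.2 fun p hp => ?_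
    obtain ⟨s, hs, rfl⟩ := hPall p hp
    rcases small_cover 1 2 s (by decide) (by decide) hs (by decide) (by decide) (by decide) with
      rfl | rfl | rfl | rfl
    · rw [show (⟨T.e 0, Fr.e_mem_X 0⟩ : ↥Fr.X) = 1 from Subtype.ext T.e_zero, map_one, one_mul,
        mul_one]
    · exact hk1.symm
    · exact hkx.eq.symm
    · rw [show (⟨T.e (1 ^^^ 2), Fr.e_mem_X _⟩ : ↥Fr.X) = ⟨T.e 1, Fr.e_mem_X 1⟩ * x' from
        Subtype.ext (T.e_mul 1 2).symm, map_mul]
      exact ((Commute.mul_right (show Commute (Fr.φ g) (Fr.φ ⟨T.e 1, Fr.e_mem_X 1⟩) from hk1) hkx)).eq.symm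
  have h4 := card_centralizer_of_eq P hP Fr.oddCore_K Fr.one_class (hPe 1) Fr.φ_e_one_ne hle
  have hPC : (P : Subgroup Fr.K) ≤ centralizer ({Fr.φ ⟨T.e 1, Fr.e_mem_X 1⟩} : Set Fr.K) := by
    intro k hk
    obtain ⟨s, -, rfl⟩ := hPall k hk
    rw [mem_centralizer_singleton_iff, ← map_mul, ← map_mul]
    exact congrArg Fr.φ (Subtype.ext (T.e_comm s 1))
  have heq := eq_of_le_of_card_ge hPC (by rw [h4, hP.card_four])
  have hcP : Fr.φ ⟨c, hcX⟩ ∈ (P : Subgroup Fr.K) := by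
    rw [heq, mem_centralizer_singleton_iff, ← map_mul, ← map_mul]
    refine congrArg Fr.φ (Subtype.ext ?_)
    show c * T.e 1 = T.e 1 * c
    rw [T.e_one]
    exact mem_centralizer_singleton_iff.1 (T.W_le hcW)
  have hcodd := SylAltEight.odd_orderOf_of_mem T.W_odd hcW
  refine Fr.core_of_φ_odd (x := ⟨c, hcX⟩) (Invol.eq_one_of_sq_of_odd
    (Invol.klein_sq_eq_one hP hcP) (hcodd.of_dvd_nat ?_)) hcodd
  rw [← Subgroup.orderOf_mk c hcX]
  exact orderOf_map_dvd _ _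

end Ctx

end CfsgLib.SylJanko
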