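import Cfsg.Agent.Lib.SylJanko.TypeOuter
import Cfsg.Agent.Lib.SylJanko.KleinIndex

/-!
The centraliser of a fixed four-group of outer involutions and its quotient with a Sylow
four-group.
-/

set_option autoImplicit false
set_option maxRecDepth 100000
set_option linter.style.haveILetI false
set_option linter.unusedSectionVars false

namespace CfsgLib.SylJanko

open Subgroup CfsgLib.InvChar
open CfsgLib.SylAltEight (odd_core core_le le_core core_conj core_conj_self mem_core_iff)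

universe u

theorem exists_not_inK : ∀ v : Fin 16, 4 ≤ v.val → ∃ u, inK v u = false := by decide +kernel

theorem inK_of_small_xor : ∀ v u w : Fin 16, w.val < 4 → inK v u = false →
    inK v (u ^^^ w) = false := by decide +kernel

theorem small_cases_ne : ∀ w : Fin 16, w.val < 4 → w ≠ 0 → w = 1 ∨ w = 2 ∨ w = 3 := by decide +kernel

namespace Ctx

variable {G : Type u} [Group G] [Finite G] [IsSimpleGroup G]

/-- A moving outer involution with a second element of its fixed four-group. -/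
structure Four (T : Ctx G) where
  h : T.Two
  /-- The involution. -/
  a : Fin 16
  /-- A second one. -/
  b : Fin 16
  ha : 4 ≤ a.val
  hm : T.Moves a
  hb : T.Vc a b
  hbK : inK a b = false

theorem exists_four {T : Ctx G} (h : T.Two) {a : Fin 16} (ha : 4 ≤ a.val) (hm : T.Moves a) :
    ∃ Fr : T.Four, Fr.a = a := by
  obtain ⟨u, hu⟩ := exists_not_inK a ha
  obtain ⟨w, hw, hw'⟩ := vc_coset h ha hm u
  exact ⟨⟨h, a, u ^^^ w, ha, hm, hw', inK_of_small_xor a u w hw hu⟩, rfl⟩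

namespace Four

variable {T : Ctx G} (Fr : T.Four)

theorem b_ge : 4 ≤ Fr.b.val := by
  have h := Fr.hbK
  simp [inK] at h
  exact h.1

theorem b_ne : Fr.b ≠ 0 := fun e => by have := Fr.b_ge; simp [e] at this

theorem b_ne_a : Fr.b ≠ Fr.a := fun e => by
  have h := Fr.hbK
  simp [inK, e] at h

/-- The third involution. -/
abbrev c : Fin 16 := Fr.a ^^^ Fr.b

theorem vc_a : T.Vc Fr.a Fr.a := vc_self Fr.a

theorem vc_c : T.Vc Fr.a Fr.c := vc_xor Fr.vc_a Fr.hb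

theorem c_ne : Fr.c ≠ 0 := fun e => Fr.b_ne_a (eq_of_xor _ _ e).symm

theorem vc_cases {w : Fin 16} (hw : T.Vc Fr.a w) : w = 0 ∨ w = Fr.a ∨ w = Fr.b ∨ w = Fr.c := by
  have key : ∀ u, T.Vc Fr.a u → inK Fr.a u = true → u = 0 ∨ u = Fr.a := by
    intro u hu hK
    simp only [inK, Bool.or_eq_true, decide_eq_true_eq] at hK
    rcases hK with hK | hK
    · exact Or.inl (vc_small Fr.h Fr.ha Fr.hm hu hK)
    · exact Or.inr (eq_of_xor _ _ (vc_small Fr.h Fr.ha Fr.hm (vc_xor hu Fr.vc_a) hK))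
  rcases inK_spec Fr.a w Fr.b Fr.ha with hK | hK | hK
  · rcases key w hw hK with e | e
    · exact Or.inl e
    · exact Or.inr (Or.inl e)
  · rw [Fr.hbK] at hK; exact absurd hK (by decide)
  · rcases key _ (vc_xor Fr.hb hw) hK with e | e
    · exact Or.inr (Or.inr (Or.inl (eq_of_xor _ _ e).symm))
    · refine Or.inr (Or.inr (Or.inr ?_))
      rw [c, ← e, Fin.xor_comm Fr.b w, xor_xor_cancel]

/-- The centraliser of the four-group. -/
abbrev X : Subgroup G := centralizer ({T.e Fr.a} : Set G) ⊓ centralizer ({T.e Fr.b} : Set G)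

theorem mem_X {x : G} : x ∈ Fr.X ↔ x * T.e Fr.a = T.e Fr.a * x ∧ x * T.e Fr.b = T.e Fr.b * x := by
  rw [mem_inf, mem_centralizer_singleton_iff, mem_centralizer_singleton_iff]

theorem A_le_X : T.A ≤ Fr.X := le_inf (A_le_cent_e _) (A_le_cent_e _)

theorem e_mem_X (w : Fin 16) : T.e w ∈ Fr.X := Fr.A_le_X (T.e_mem_A w)

theorem comm_vc {x : G} (hx : x ∈ Fr.X) {w : Fin 16} (hw : T.Vc Fr.a w) :
    x * T.e w = T.e w * x := by
  obtain ⟨h1, h2⟩ := Fr.mem_X.1 hx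
  rcases Fr.vc_cases hw with e | e | e | e <;> rw [e]
  · rw [T.e_zero, mul_one, one_mul]
  · exact h1
  · exact h2
  · rw [c, ← T.e_mul, ← mul_assoc, h1, mul_assoc, h2, ← mul_assoc]

theorem mem_X_of_NA {n : G} (hn : n ∈ T.NA Fr.a) : n ∈ Fr.X :=
  Fr.mem_X.2 ⟨Fr.vc_a n hn, Fr.hb n hn⟩

/-- The three small involutions are permuted transitively. -/
theorem move {s : Fin 16} (hs : s.val < 4) (hs0 : s ≠ 0) :
    ∃ k ∈ T.NA Fr.a, k * T.e 1 * k⁻¹ = T.e s := by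
  obtain ⟨n, hn, hmv⟩ := Fr.hm
  let n' : ↥(normalizer (T.A : Set G)) := ⟨n, hn.1⟩
  obtain ⟨hmove, h3⟩ := (dichotomy Fr.h Fr.ha n' (mem_centralizer_singleton_iff.1 hn.2)).resolve_left
    fun h1 => hmv.elim fun u hu => hu ((act_fix_iff n' u).1 (h1 u))
  set f := T.F.eAct 0 n' with hf
  have hne : ∀ u, u ≠ 0 → f u ≠ 0 := fun u hu e => hu (act_inj n' (e.trans (act_zero n').symm))
  have s1 := act_small Fr.h n' (v := 1) (by decide)
  have h1 := hmove 1 (by decide) (by decide)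
  rcases small_cover 1 (f 1) s (by decide) s1 hs (by decide) (hne 1 (by decide)) (Ne.symm h1) with
    e | e | e | e
  · exact absurd e hs0
  · exact ⟨1, one_mem _, by rw [one_mul, inv_one, mul_one, e]⟩
  · exact ⟨n, hn, by rw [e]; exact (act_spec n' 1).symm⟩
  · refine ⟨n * n, mul_mem hn hn, ?_⟩
    have e2 : (1 : Fin 16) ^^^ f 1 = f (f 1) := small_third _ _ _ (by decide) s1
      (act_small Fr.h n' s1) (by decide) (hne 1 (by decide)) (hne _ (hne 1 (by decide)))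
      (Ne.symm h1) (Ne.symm (hmove _ (hne 1 (by decide)) s1)) (fun e' => h1 (by
        have h' := congrArg f e'
        rw [h3] at h'
        exact h'))
    rw [e, e2, hf, ← T.F.eAct_mul, act_spec, coe_mul]

/-- The four-group. -/
def V0 : Subgroup G where
  carrier := {g | ∃ w, T.Vc Fr.a w ∧ T.e w = g}
  one_mem' := ⟨0, vc_zero _, T.e_zero⟩
  mul_mem' := by
    rintro _ _ ⟨v, hv, rfl⟩ ⟨w, hw, rfl⟩
    exact ⟨v ^^^ w, vc_xor hv hw, (T.e_mul v w).symm⟩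
  inv_mem' := by
    rintro _ ⟨v, hv, rfl⟩
    exact ⟨v, hv, (inv_eq_of_mul_eq_one_right (T.e_sq v)).symm⟩

instance V0_normal : (Fr.V0.subgroupOf Fr.X).Normal := ⟨fun v hv g => by
  obtain ⟨w, hw, e⟩ := mem_subgroupOf.1 hv
  refine mem_subgroupOf.2 ⟨w, hw, ?_⟩
  push_cast
  rw [← e, Fr.comm_vc g.2 hw, mul_inv_cancel_right]⟩

/-- The odd core of the centraliser. -/
theorem mem_oddCore_X {x : ↥Fr.X} :
    x ∈ Cfsg.oddCore ↥Fr.X ↔ (x : G) ∈ Cfsg.centralizerPPrimeCore 2 (T.e Fr.a) := by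
  set O := Cfsg.centralizerPPrimeCore 2 (T.e Fr.a) with hO
  constructor
  · intro hx
    set L := (Cfsg.oddCore ↥Fr.X).map Fr.X.subtype with hL
    have hLC : L ≤ centralizer ({T.e Fr.a} : Set G) := (map_subtype_le _).trans inf_le_left
    have hLO : L ≤ normalizer (O : Set G) := fun k hk =>
      Invol.mem_normalizer_iff_of_finite fun y hy => core_conj_self (hLC hk) hy
    have hle : O ⊔ L ≤ O := by
      refine le_core (sup_le (core_le _) hLC) (fun g hg => ?_) (Odd.of_dvd_nat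
        (Odd.mul (odd_core _) ?_) (Comp.card_sup_dvd_mul hLO))
      · obtain ⟨m, hm', hgm⟩ := exists_comm Fr.h Fr.ha Fr.hm Fr.hb hg
        have hgX : g * m ∈ Fr.X := mem_inf.2
          ⟨mul_mem hg (core_le _ hm'), mem_centralizer_singleton_iff.2 hgm.symm⟩
        have h1 : g * m ∈ normalizer ((O ⊔ L : Subgroup G) : Set G) := by
          refine Invol.mem_normalizer_iff_of_finite fun y hy => ?_
          have hle : O ⊔ L ≤ (O ⊔ L).comap (MulAut.conj (g * m)).toMonoidHom := by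
            refine sup_le (fun o ho => mem_sup_left ?_) (fun k hk => mem_sup_right ?_)
            · simpa [mul_assoc] using core_conj_self (mul_mem hg (core_le _ hm')) ho
            · obtain ⟨k', hk', rfl⟩ := hk
              haveI : (Cfsg.oddCore ↥Fr.X).Normal := Cfsg.pPrimeCore_normal 2 _
              exact ⟨_, Normal.conj_mem inferInstance k' hk' ⟨g * m, hgX⟩, by simp [mul_assoc]⟩
          simpa [mul_assoc] using hle hy
        have h2 : m⁻¹ ∈ normalizer ((O ⊔ L : Subgroup G) : Set G) :=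
          le_normalizer (mem_sup_left (inv_mem hm'))
        simpa using mul_mem h1 h2
      · rw [card_map_of_injective Fr.X.subtype_injective]
        exact Invol.odd_card_oddCore _
    exact hle (mem_sup_right ⟨x, hx, rfl⟩)
  · intro hx
    refine Invol.le_oddCore (G := ↥Fr.X) (N := O.subgroupOf Fr.X) ⟨fun y hy g => ?_⟩ ?_
      (mem_subgroupOf.2 hx)
    · exact mem_subgroupOf.2 (core_conj_self (mem_inf.1 g.2).1 (mem_subgroupOf.1 hy))
    · refine (odd_core (T.e Fr.a)).of_dvd_nat ?_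
      rw [← card_map_of_injective Fr.X.subtype_injective, subgroupOf_map_subtype]
      exact card_dvd_of_le inf_le_left

/-- The image of the four-group modulo the core. -/
abbrev Z0 : Subgroup (↥Fr.X ⧸ Cfsg.oddCore ↥Fr.X) :=
  (Fr.V0.subgroupOf Fr.X).map (QuotientGroup.mk' (Cfsg.oddCore ↥Fr.X))

instance Z0_normal : Fr.Z0.Normal :=
  Normal.map inferInstance _ (QuotientGroup.mk'_surjective _)

/-- The centraliser modulo its core and the four-group. -/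
abbrev K : Type u := (↥Fr.X ⧸ Cfsg.oddCore ↥Fr.X) ⧸ Fr.Z0

/-- The map onto it. -/
abbrev φ : ↥Fr.X →* Fr.K :=
  (QuotientGroup.mk' Fr.Z0).comp (QuotientGroup.mk' (Cfsg.oddCore ↥Fr.X))

theorem φ_surjective : Function.Surjective Fr.φ :=
  (QuotientGroup.mk'_surjective _).comp (QuotientGroup.mk'_surjective _)

theorem φ_eq_one {x : ↥Fr.X} :
    Fr.φ x = 1 ↔ ∃ w, T.Vc Fr.a w ∧ T.e w * x ∈ Cfsg.centralizerPPrimeCore 2 (T.e Fr.a) := by
  rw [MonoidHom.comp_apply, ← MonoidHom.mem_ker, QuotientGroup.ker_mk']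
  constructor
  · rintro ⟨v, hv, e⟩
    obtain ⟨w, hw, ew⟩ := mem_subgroupOf.1 hv
    refine ⟨w, hw, ?_⟩
    rw [QuotientGroup.mk'_apply, QuotientGroup.mk'_apply, QuotientGroup.eq] at e
    have h := Fr.mem_oddCore_X.1 e
    rwa [coe_mul, InvMemClass.coe_inv, ← ew, inv_eq_of_mul_eq_one_right (T.e_sq w)] at h
  · rintro ⟨w, hw, h⟩
    refine ⟨⟨T.e w, Fr.e_mem_X w⟩, mem_subgroupOf.2 ⟨w, hw, rfl⟩, ?_⟩
    rw [QuotientGroup.mk'_apply, QuotientGroup.mk'_apply, QuotientGroup.eq, Fr.mem_oddCore_X]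
    rwa [coe_mul, InvMemClass.coe_inv, inv_eq_of_mul_eq_one_right (T.e_sq w)]

theorem φ_of_core {x : ↥Fr.X} (hx : (x : G) ∈ Cfsg.centralizerPPrimeCore 2 (T.e Fr.a)) :
    Fr.φ x = 1 := Fr.φ_eq_one.2 ⟨0, vc_zero _, by rwa [T.e_zero, one_mul]⟩

theorem core_of_φ_odd {x : ↥Fr.X} (hx : Fr.φ x = 1) (ho : Odd (orderOf (x : G))) :
    (x : G) ∈ Cfsg.centralizerPPrimeCore 2 (T.e Fr.a) := by
  obtain ⟨w, hw, h⟩ := Fr.φ_eq_one.1 hx
  haveI : (Cfsg.oddCore ↥Fr.X).Normal := Cfsg.pPrimeCore_normal 2 _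
  set π := QuotientGroup.mk' (Cfsg.oddCore ↥Fr.X)
  have h1 : π (⟨T.e w, Fr.e_mem_X w⟩ * x) = 1 :=
    (QuotientGroup.eq_one_iff _).2 (Fr.mem_oddCore_X.2 h)
  have hwx : (⟨T.e w, Fr.e_mem_X w⟩ : ↥Fr.X) * ⟨T.e w, Fr.e_mem_X w⟩ = 1 := Subtype.ext (T.e_sq w)
  rw [map_mul, mul_eq_one_iff_inv_eq] at h1
  have h2 : π x * π x = 1 := by
    rw [← h1, ← mul_inv_rev, ← map_mul, hwx, map_one, inv_one]
  have h3 : Odd (orderOf (π x)) := by
    refine ho.of_dvd_nat ?_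
    rw [Subgroup.orderOf_coe]
    exact orderOf_map_dvd π x
  exact Fr.mem_oddCore_X.1 ((QuotientGroup.eq_one_iff _).1 (Invol.eq_one_of_sq_of_odd h2 h3))

theorem oddCore_K : Cfsg.oddCore Fr.K = ⊥ := by
  haveI : (Cfsg.oddCore Fr.K).Normal := Cfsg.pPrimeCore_normal 2 _
  set f := QuotientGroup.mk' Fr.Z0 with hf
  have hle : (Cfsg.oddCore Fr.K).comap f ≤ Fr.Z0 := by
    refine Fusion.le_of_central_of_odd Fusion.oddCore_quotient_oddCore inferInstance ?_ ?_ ?_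
    · exact (QuotientGroup.ker_mk' Fr.Z0).ge.trans (ker_le_comap f _)
    · rintro _ ⟨v, hv, rfl⟩
      obtain ⟨w, hw, e⟩ := mem_subgroupOf.1 hv
      refine mem_center_iff.2 fun g => ?_
      obtain ⟨g, rfl⟩ := QuotientGroup.mk'_surjective _ g
      rw [← map_mul, ← map_mul]
      refine congrArg _ (Subtype.ext ?_)
      rw [coe_mul, coe_mul, ← e]
      exact Fr.comm_vc g.2 hw
    · have h := relIndex_comap (H := (⊥ : Subgroup Fr.K)) f ((Cfsg.oddCore Fr.K).comap f)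
      rw [MonoidHom.comap_bot, QuotientGroup.ker_mk',
        map_comap_eq_self_of_surjective (QuotientGroup.mk'_surjective _), relIndex_bot_left] at h
      rw [h]
      exact Invol.odd_card_oddCore _
  rw [eq_bot_iff]
  intro k hk
  obtain ⟨g, rfl⟩ := QuotientGroup.mk'_surjective Fr.Z0 k
  exact mem_bot.2 ((QuotientGroup.eq_one_iff _).2 (hle hk))

theorem φ_e_ne_one {s : Fin 16} (hs : s.val < 4) (h0 : s ≠ 0) :
    Fr.φ ⟨T.e s, Fr.e_mem_X s⟩ ≠ 1 := by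
  intro e
  obtain ⟨w, hw, h⟩ := Fr.φ_eq_one.1 e
  have h' : T.e w * T.e s = 1 := Invol.eq_one_of_sq_of_odd (T.A_sq _ (mul_mem (T.e_mem_A w) (T.e_mem_A s)))
    (SylAltEight.odd_orderOf_of_mem (odd_core _) h)
  rw [T.e_mul, ← T.e_zero] at h'
  have := eq_of_xor _ _ (T.e_inj h')
  subst this
  exact h0 (vc_small Fr.h Fr.ha Fr.hm hw hs)

theorem φ_e_reduce (u : Fin 16) : ∃ s : Fin 16, s.val < 4 ∧
    Fr.φ ⟨T.e u, Fr.e_mem_X u⟩ = Fr.φ ⟨T.e s, Fr.e_mem_X s⟩ := by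
  obtain ⟨s, hs, hus⟩ := vc_coset Fr.h Fr.ha Fr.hm u
  refine ⟨s, hs, ?_⟩
  have h : Fr.φ ⟨T.e (u ^^^ s), Fr.e_mem_X _⟩ = 1 :=
    Fr.φ_eq_one.2 ⟨u ^^^ s, hus, by rw [T.e_sq]; exact one_mem _⟩
  have e : (⟨T.e u, Fr.e_mem_X u⟩ : ↥Fr.X) =
      ⟨T.e (u ^^^ s), Fr.e_mem_X _⟩ * ⟨T.e s, Fr.e_mem_X s⟩ :=
    Subtype.ext (by rw [coe_mul, T.e_mul, xor_xor_cancel])
  rw [e, map_mul, h, one_mul]

/-- The Sylow four-group of the quotient. -/
theorem exists_sylow_K : ∃ P : Sylow 2 Fr.K, IsKleinFour (P : Subgroup Fr.K) ∧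
    (∀ s : Fin 16, Fr.φ ⟨T.e s, Fr.e_mem_X s⟩ ∈ (P : Subgroup Fr.K)) ∧
    ∀ k ∈ (P : Subgroup Fr.K), ∃ s : Fin 16, s.val < 4 ∧ Fr.φ ⟨T.e s, Fr.e_mem_X s⟩ = k := by
  haveI : Fact (Nat.Prime 2) := ⟨Nat.prime_two⟩
  have hA2 : IsPGroup 2 (T.A.subgroupOf Fr.X) :=
    (T.S.2.to_le (T.F.sub_le _)).comap_of_injective _ Fr.X.subtype_injective
  obtain ⟨P₀, hP₀⟩ := hA2.exists_le_sylow
  have heq : (P₀ : Subgroup ↥Fr.X) = T.A.subgroupOf Fr.X := by
    have e := two_group_eq Fr.h Fr.ha (R := (P₀ : Subgroup ↥Fr.X).map Fr.X.subtype) (P₀.2.map _)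
      (fun x hx => ⟨⟨x, Fr.A_le_X hx⟩, hP₀ hx, rfl⟩) ((map_subtype_le _).trans inf_le_left)
    exact (comap_map_eq_self_of_injective Fr.X.subtype_injective _).symm.trans
      (congrArg (comap Fr.X.subtype) e)
  let P := P₀.mapSurjective Fr.φ_surjective
  have hmem : ∀ s : Fin 16, Fr.φ ⟨T.e s, Fr.e_mem_X s⟩ ∈ (P : Subgroup Fr.K) := fun s =>
    ⟨_, heq ▸ mem_subgroupOf.2 (T.e_mem_A s), rfl⟩
  have hall : ∀ k ∈ (P : Subgroup Fr.K), ∃ s : Fin 16, s.val < 4 ∧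
      Fr.φ ⟨T.e s, Fr.e_mem_X s⟩ = k := by
    rintro _ ⟨x, hx, rfl⟩
    rw [SetLike.mem_coe, heq, mem_subgroupOf] at hx
    obtain ⟨u, hu⟩ := T.mem_A.1 hx
    obtain ⟨s, hs, e⟩ := Fr.φ_e_reduce u
    exact ⟨s, hs, by rw [← e]; exact congrArg Fr.φ (Subtype.ext hu)⟩
  refine ⟨P, ?_, hmem, hall⟩
  have hcard : Nat.card (P : Subgroup Fr.K) = 4 := by
    let g : {s : Fin 16 // s.val < 4} → ↥(P : Subgroup Fr.K) :=
      fun s => ⟨Fr.φ ⟨T.e s.1, Fr.e_mem_X _⟩, hmem _⟩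
    have hbij : Function.Bijective g := by
      refine ⟨fun s t e => ?_, fun k => ?_⟩
      · by_contra hne
        have h0 : s.1 ^^^ t.1 ≠ 0 := fun e => hne (Subtype.ext (eq_of_xor _ _ e))
        refine Fr.φ_e_ne_one (xor_small _ _ s.2 t.2) h0 ?_
        have e' : Fr.φ ⟨T.e s.1, Fr.e_mem_X _⟩ = Fr.φ ⟨T.e t.1, Fr.e_mem_X _⟩ :=
          congrArg Subtype.val e
        rw [show (⟨T.e (s.1 ^^^ t.1), Fr.e_mem_X _⟩ : ↥Fr.X) =
          ⟨T.e s.1, Fr.e_mem_X _⟩ * ⟨T.e t.1, Fr.e_mem_X _⟩ from Subtype.ext (T.e_mul _ _).symm,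
          map_mul, e', ← map_mul,
          show (⟨T.e t.1, Fr.e_mem_X _⟩ : ↥Fr.X) * ⟨T.e t.1, Fr.e_mem_X _⟩ = 1 from
            Subtype.ext (T.e_sq _), map_one]
      · obtain ⟨s, hs, e⟩ := hall _ k.2
        exact ⟨⟨s, hs⟩, Subtype.ext e⟩
    rw [← Nat.card_eq_of_bijective g hbij, Nat.card_eq_fintype_card]
    decide +kernel
  refine { card_four := hcard, exponent_two := ?_ }
  have hd : Monoid.exponent (P : Subgroup Fr.K) ∣ 2 := by
    refine Monoid.exponent_dvd_iff_forall_pow_eq_one.2 fun k => Subtype.ext ?_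
    obtain ⟨s, -, e⟩ := hall _ k.2
    rw [SubmonoidClass.coe_pow, pow_two, ← e, ← map_mul,
      show (⟨T.e s, Fr.e_mem_X s⟩ : ↥Fr.X) * ⟨T.e s, Fr.e_mem_X s⟩ = 1 from
        Subtype.ext (T.e_sq _), map_one]
    rfl
  refine ((Nat.dvd_prime Nat.prime_two).1 hd).resolve_left fun h1 => ?_
  haveI := Monoid.exp_eq_one_iff.1 h1
  have := Nat.card_eq_one_iff_unique.2 ⟨this, ⟨(1 : ↥(P : Subgroup Fr.K))⟩⟩
  omega

theorem φ_e_one_ne : Fr.φ ⟨T.e 1, Fr.e_mem_X 1⟩ ≠ 1 := Fr.φ_e_ne_one (by decide) (by decide)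

/-- All involutions of the quotient are conjugate. -/
theorem one_class : ∀ s t : Fr.K, orderOf s = 2 → orderOf t = 2 → IsConj s t := by
  haveI : Fact (Nat.Prime 2) := ⟨Nat.prime_two⟩
  obtain ⟨P, -, -, hall⟩ := Fr.exists_sylow_K
  suffices h : ∀ s : Fr.K, orderOf s = 2 → IsConj s (Fr.φ ⟨T.e 1, Fr.e_mem_X 1⟩) from
    fun s t hs ht => (h s hs).trans (h t ht).symm
  intro s hs
  obtain ⟨g, hg⟩ := Invol.exists_conj_invol_mem_sylow P hs
  obtain ⟨u, hu, e⟩ := hall _ hg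
  have hu0 : u ≠ 0 := fun h0 => by
    subst h0
    rw [show (⟨T.e 0, Fr.e_mem_X 0⟩ : ↥Fr.X) = 1 from Subtype.ext T.e_zero, map_one] at e
    exact Invol.invol_ne_one hs (conj_eq_one_iff.1 e.symm)
  obtain ⟨k, hk, ek⟩ := Fr.move hu hu0
  refine (isConj_iff.2 ⟨g, e.symm⟩).trans (isConj_iff.2 ⟨Fr.φ ⟨k, Fr.mem_X_of_NA hk⟩, ?_⟩).symm
  rw [← map_inv, ← map_mul, ← map_mul]
  exact congrArg Fr.φ (Subtype.ext ek)

/-- The centraliser of the image of `z` comes from `C(z)`. -/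
theorem centralizer_φ {k : Fr.K} (hk : k ∈ centralizer ({Fr.φ ⟨T.e 1, Fr.e_mem_X 1⟩} : Set Fr.K)) :
    ∃ g : ↥Fr.X, (g : G) * T.e 1 = T.e 1 * g ∧ Fr.φ g = k := by
  obtain ⟨g, rfl⟩ := Fr.φ_surjective k
  set z' : ↥Fr.X := ⟨T.e 1, Fr.e_mem_X 1⟩
  have hz' : z' * z' = 1 := Subtype.ext (T.e_sq 1)
  have h1 : Fr.φ (g * z' * g⁻¹ * z') = 1 := by
    rw [map_mul, map_mul, map_mul, mem_centralizer_singleton_iff.1 hk, map_inv,
      mul_inv_cancel_right, ← map_mul, hz', map_one]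
  obtain ⟨w, hw, h⟩ := Fr.φ_eq_one.1 h1
  set O := Cfsg.centralizerPPrimeCore 2 (T.e Fr.a)
  have hgz : (g : G) * T.e 1 * (g : G)⁻¹ * T.e 1 ∈ O := by
    by_cases hw0 : w = 0
    · rw [hw0, T.e_zero, one_mul] at h; exact h
    exfalso
    have hw4 := (vc_eq Fr.h Fr.ha Fr.hm hw hw0).1
    have hcore : (g : G) * T.e 1 * (g : G)⁻¹ * T.e (w ^^^ 1) ∈ O := by
      have h' := core_conj_self (A_le_cent_e Fr.a (T.e_mem_A w)) h
      rw [inv_eq_of_mul_eq_one_right (T.e_sq w)] at h'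
      have e : T.e w * (T.e w * ((g : G) * T.e 1 * (g : G)⁻¹ * T.e 1)) * T.e w =
          (g : G) * T.e 1 * (g : G)⁻¹ * T.e (w ^^^ 1) := by
        rw [← mul_assoc (T.e w), T.e_sq, one_mul, mul_assoc _ (T.e 1), T.e_mul, Fin.xor_comm]
      rw [← e]
      exact h'
    obtain ⟨d, -, e⟩ := SylAltEight.exists_conj_of_coset (odd_core _)
      (by rw [Invol.orderOf_conj_eq]; exact T.order_e (by decide))
      (T.order_e fun e0 => by rw [eq_of_xor _ _ e0] at hw4; simp at hw4) hcore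
    refine not_conj_z_outer Fr.h (T.outer_e (v := w ^^^ 1) (not_small_xor w 1 hw4 (by decide))) ?_
    rw [← T.e_one]
    exact isConj_iff.2 ⟨d * g, by rw [← e]; group⟩
  have hw' : (g : G)⁻¹ * (T.e 1 * g * T.e 1) ∈ O := by
    have h' := inv_mem (core_conj_self (inv_mem (mem_inf.1 g.2).1) hgz)
    rw [inv_inv] at h'
    convert h' using 1
    simp [mul_assoc, inv_eq_of_mul_eq_one_right (T.e_sq 1)]
  have hM : Odd (Nat.card (O ⊓ Fr.X : Subgroup G)) := (odd_core _).of_dvd_nat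
    (card_dvd_of_le inf_le_left)
  obtain ⟨m, hm, hgm⟩ := exists_fixed_coset (M := O ⊓ Fr.X) hM (T.e_sq 1) (x := (g : G))
    (mem_inf.2 ⟨hw', mul_mem (inv_mem g.2) (mul_mem (mul_mem (Fr.e_mem_X 1) g.2) (Fr.e_mem_X 1))⟩)
  refine ⟨g * ⟨m, hm.2⟩, hgm.symm, ?_⟩
  rw [map_mul, Fr.φ_of_core (x := ⟨m, hm.2⟩) hm.1, mul_one]

/-- An element of `X ∩ C(z)` is an element of `A` times one of `O(C(z))`. -/
theorem split {g : G} (hg : g ∈ Fr.X) (hgz : g * T.e 1 = T.e 1 * g) :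
    ∃ t : Fin 16, T.e t * g ∈ T.W := by
  have hgC : g ∈ T.C := mem_centralizer_singleton_iff.2 (by rw [← T.e_one]; exact hgz)
  obtain ⟨x, hx, hW, -⟩ := T.outer_split Fr.ha hgC (Fr.mem_X.1 hg).1
  obtain ⟨t, rfl⟩ := T.mem_A.1 hx
  exact ⟨t, by rwa [inv_eq_of_mul_eq_one_right (T.e_sq t)] at hW⟩

end Four

end Ctx

end CfsgLib.SylJanko
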