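import Cfsg.Agent.Lib.SylJanko.Quotient
import Cfsg.Agent.Lib.InvChar.HallJankoClasses
import Cfsg.Agent.Lib.Coprime.SymplecticType
import Cfsg.Agent.Lib.SylAltEight.Criterion

/-!
The centraliser modulo its odd core is of Hall-Janko type: its classes of involutions and the
subgroups of odd order normalised by centralisers of involutions.
-/

set_option autoImplicit false
set_option maxRecDepth 100000
set_option linter.style.haveILetI false

namespace CfsgLib.SylJanko

open Subgroup CfsgLib.InvChar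
open scoped commutatorElement

universe u

namespace Setting

variable {Y : Type u} [Group Y] [Finite Y] (D : Setting Y)

theorem centralizer_z : centralizer ({D.F.z} : Set Y) = ⊤ :=
  eq_top_iff.2 fun g _ => mem_centralizer_singleton_iff.2 (D.hz g)

theorem Q_normal : D.F.Q.Normal := D.structure_thm.1

theorem isPGroup_Q : IsPGroup 2 D.F.Q := D.S.2.to_le D.F.Q_le

theorem card_Q : Nat.card D.F.Q = 32 := by rw [D.F.card_sub closed_q]; decide +kernel

/-- The quotient is of Hall-Janko type. -/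
theorem pre : HJType.Pre D.F.z D.F.Q := by
  classical
  haveI : Fact (Nat.Prime 2) := ⟨Nat.prime_two⟩
  obtain ⟨hQn, hC, hk, -⟩ := D.structure_thm
  have hrange := range_π D.S D.F D.hmove
  have hc : ((List.range 128).all fun a => !mem qMask a ||
      ((Nat.beq (mt a a) 0 || Nat.beq (mt a a) zIdx) && (List.range 128).all fun b =>
        !mem qMask b || Nat.beq (mt a b) (mt b a) ||
          Nat.beq (mt a b) (mt (mt b a) zIdx))) = true := by decide +kernel
  have hspec : ∀ a < 128, mem qMask a = true → ((mt a a = 0 ∨ mt a a = zIdx) ∧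
      ∀ b < 128, mem qMask b = true → (mt a b = mt b a ∨ mt a b = mt (mt b a) zIdx)) := by
    intro a ha hm
    have h := List.all_eq_true.1 hc a (List.mem_range.2 ha)
    rw [hm] at h
    simp only [Bool.not_true, Bool.false_or, Bool.and_eq_true, Bool.or_eq_true, beq_true,
      List.all_eq_true, List.mem_range, Bool.not_eq_true'] at h
    refine ⟨h.1, fun b hb hmb => ?_⟩
    rcases h.2 b hb with (h' | h') | h'
    · rw [hmb] at h'; exact absurd h' (by decide)
    · exact Or.inl h'
    · exact Or.inr h'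
  have hzc : D.F.z ∈ centralizer ({D.F.z} : Set Y) := mem_centralizer_singleton_iff.2 rfl
  let Z : Subgroup ↥D.F.Q := (zpowers D.F.z).subgroupOf D.F.Q
  have hzQ : zpowers D.F.z ≤ D.F.Q := zpowers_le.2 D.F.z_mem_Q
  have hZ2 : Nat.card Z = 2 := by
    rw [Nat.card_congr (subgroupOfEquivOfLe hzQ).toEquiv, Nat.card_zpowers, D.F.orderOf_z]
  have hes : Cfsg.IsExtraspecial 2 ↥D.F.Q := by
    refine Coprime.isExtraspecial_of_central D.isPGroup_Q Z hZ2 ?_ (fun x y => ?_) (fun x => ?_)
      fun h => ?_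
    · ext x
      rw [mem_center_iff, mem_subgroupOf]
      refine ⟨fun h => ?_, fun h y => Subtype.ext ?_⟩
      · rcases D.F.center_Q x.2 (fun i => (congrArg Subtype.val (h ⟨_, D.F.r_mem i⟩)).symm) with
          e | e <;> rw [e]
        · exact one_mem _
        · exact mem_zpowers _
      · rcases D.mem_zpowers_cases h with e | e
        · simp [e]
        · simp only [coe_mul, e]; exact D.hz _
    · obtain ⟨a, ha, ea⟩ := D.F.surj (x : Y) (D.F.Q_le x.2)
      obtain ⟨b, hb, eb⟩ := D.F.surj (y : Y) (D.F.Q_le y.2)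
      have e : (x : Y) * y = y * x ∨ (x : Y) * y = y * x * D.F.z := by
        rw [← ea, ← eb, D.F.mul a ha b hb, D.F.mul b hb a ha]
        rcases (hspec a ha ((D.F.mem_sub closed_q ha).1 (ea ▸ x.2))).2 b hb
          ((D.F.mem_sub closed_q hb).1 (eb ▸ y.2)) with h | h
        · exact Or.inl (by rw [h])
        · refine Or.inr ?_
          rw [h]
          exact (D.F.mul _ (mt_lt b a) _ (by decide)).symm
      show ((⁅x, y⁆ : ↥D.F.Q) : Y) ∈ zpowers D.F.z
      rw [commutatorElement_def]
      push_cast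
      rcases e with h | h <;> rw [h]
      · group; exact one_mem _
      · rw [mul_assoc _ D.F.z, mul_assoc _ (D.F.z * _), mul_assoc D.F.z, ← D.hz]
        group
        exact mem_zpowers _
    · obtain ⟨a, ha, ea⟩ := D.F.surj (x : Y) (D.F.Q_le x.2)
      show ((x ^ 2 : ↥D.F.Q) : Y) ∈ zpowers D.F.z
      rw [SubmonoidClass.coe_pow, pow_two, ← ea, D.F.mul a ha a ha]
      rcases (hspec a ha ((D.F.mem_sub closed_q ha).1 (ea ▸ x.2))).1 with h | h <;> rw [h]
      · rw [D.F.p_zero]; exact one_mem _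
      · exact mem_zpowers _
    · rw [h, card_top, D.card_Q] at hZ2
      omega
  have htop : normalizer (D.F.Q : Set Y) = ⊤ := normalizer_eq_top_iff.2 hQn
  let ι : ↥(centralizer ({D.F.z} : Set Y)) →* ↥(normalizer (D.F.Q : Set Y)) :=
    (centralizer ({D.F.z} : Set Y)).subtype.codRestrict _ fun x => by rw [htop]; exact mem_top _
  refine
    { hz := D.F.orderOf_z
      hQH := fun q _ => mem_centralizer_singleton_iff.2 (D.hz q)
      hnorm := fun h _ q hq => hQn.conj_mem q hq h
      hzQ := D.F.z_mem_Q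
      hes := hes
      hQc := D.card_Q
      hC := hC.trans hzQ
      hquot := ⟨(D.F.π.comp ι).codRestrict (alternatingGroup (Fin 5))
        (fun x => hrange ▸ ⟨ι x, rfl⟩), fun σ => ?_, ?_⟩ }
  · obtain ⟨n, hn⟩ : (σ : Equiv.Perm (Fin 5)) ∈ D.F.π.range := hrange.symm ▸ σ.2
    exact ⟨⟨n, mem_centralizer_singleton_iff.2 (D.hz _)⟩, Subtype.ext hn⟩
  · ext x
    rw [MonoidHom.mem_ker, mem_subgroupOf, Subtype.ext_iff]
    exact hk (ι x)

theorem p_e_sq (i : Fin 2) (v : Fin 16) : D.F.p (eAt i v) * D.F.p (eAt i v) = 1 := by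
  rw [D.F.eAt_mul, Fin.xor_self, eAt_zero, D.F.p_zero]

/-- The outer involutions of the first elementary subgroup. -/
theorem outer_e {v : Fin 16} (hv : 4 ≤ v.val) :
    HJType.Outer D.F.z D.F.Q (D.F.p (eAt 0 v)) := by
  refine ⟨mem_centralizer_singleton_iff.2 (D.hz _), D.p_e_sq 0 v, fun h => ?_⟩
  have := (D.F.mem_sub closed_q (Frame.eAt_lt 0 v)).1 h
  rw [eAt_q, decide_eq_true_eq] at this
  omega

theorem ni_e_two : HJType.NI D.F.z D.F.Q (D.F.p (eAt 0 2)) :=
  ⟨(D.F.mem_sub closed_q (Frame.eAt_lt 0 2)).2 (by decide +kernel), D.p_e_sq 0 2,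
    fun h => by have := (D.F.eq_one_iff (Frame.eAt_lt 0 2)).1 h; revert this; decide +kernel,
    fun h => by have := D.F.inj _ (Frame.eAt_lt 0 2) _ (by decide) h; revert this; decide +kernel⟩

theorem card_centralizer_outer {u : Y} (hu : HJType.Outer D.F.z D.F.Q u) :
    Nat.card (centralizer ({u} : Set Y)) = 16 := by
  have h := (D.pre.outer_class hu).1
  rwa [D.centralizer_z, top_inf_eq] at h

/-- The centraliser of an outer involution of the elementary subgroup. -/
theorem centralizer_e {v : Fin 16} (hv : 4 ≤ v.val) :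
    centralizer ({D.F.p (eAt 0 v)} : Set Y) = D.F.sub (eMask 0) := by
  refine (eq_of_le_of_card_ge (fun x hx => ?_) ?_).symm
  · obtain ⟨w, rfl⟩ := D.F.mem_E.1 hx
    exact mem_centralizer_singleton_iff.2 (by rw [D.F.eAt_mul, D.F.eAt_mul, Fin.xor_comm])
  · rw [D.card_centralizer_outer (D.outer_e hv), D.F.card_sub (closed_e 0)]
    decide +kernel

/-- The three classes of involutions. -/
theorem classes {u : Y} (hu : orderOf u = 2) :
    u = D.F.z ∨ IsConj u (D.F.p (eAt 0 2)) ∨ IsConj u (D.F.p (eAt 0 4)) := by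
  by_cases hQ : u ∈ D.F.Q
  · by_cases hz : u = D.F.z
    · exact Or.inl hz
    · obtain ⟨h, -, e⟩ := D.pre.ni_transitive
        ⟨hQ, Invol.invol_mul_self hu, Invol.invol_ne_one hu, hz⟩ D.ni_e_two
      exact Or.inr (Or.inl (isConj_iff.2 ⟨h, e⟩))
  · obtain ⟨h, -, e⟩ := (D.pre.outer_class
      (a := u) ⟨mem_centralizer_singleton_iff.2 (D.hz u), Invol.invol_mul_self hu, hQ⟩).2.2 _
      (D.outer_e (v := 4) (by decide))
    exact Or.inr (Or.inr (isConj_iff.2 ⟨h, e⟩))

/-- An element of `Q` normalising a subgroup of odd order centralises it. -/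
theorem commute_of_normalized {R : Subgroup Y} (hR : Odd (Nat.card R)) {q : Y} (hq : q ∈ D.F.Q)
    (hn : ∀ r ∈ R, q * r * q⁻¹ ∈ R) {r : Y} (hr : r ∈ R) : r * q = q * r := by
  haveI : Fact (Nat.Prime 2) := ⟨Nat.prime_two⟩
  have h : r * q * r⁻¹ * q⁻¹ = 1 := SylAltEight.eq_one_of_pGroup_odd D.isPGroup_Q hR
    (mul_mem (D.Q_normal.conj_mem q hq r) (inv_mem hq))
    (by rw [show r * q * r⁻¹ * q⁻¹ = r * (q * r⁻¹ * q⁻¹) by group]
        exact mul_mem hr (hn _ (inv_mem hr)))
  rw [mul_inv_eq_one, mul_inv_eq_iff_eq_mul] at h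
  exact h

include D in
/-- An odd subgroup of the centraliser of an involution, normalised by it, is trivial. -/
theorem odd_centralized {u : Y} (hu : orderOf u = 2) {R : Subgroup Y} (hR : Odd (Nat.card R))
    (hRu : R ≤ centralizer ({u} : Set Y))
    (hn : ∀ c : Y, c * u = u * c → ∀ r ∈ R, c * r * c⁻¹ ∈ R) : R = ⊥ := by
  haveI : Fact (Nat.Prime 2) := ⟨Nat.prime_two⟩
  by_cases hz : u = D.F.z
  · subst hz
    exact le_bot_iff.1 (D.hO ▸ Invol.le_oddCore ⟨fun r hr c => hn c (D.hz c) r hr⟩ hR)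
  refine (eq_bot_iff_forall R).2 fun r hr => ?_
  have hor := SylAltEight.odd_orderOf_of_mem hR hr
  by_cases hQ : u ∈ D.F.Q
  · have hNI : HJType.NI D.F.z D.F.Q u :=
      ⟨hQ, Invol.invol_mul_self hu, Invol.invol_ne_one hu, hz⟩
    have hfix : ∀ q ∈ D.F.Q, q * u = u * q → r * q = q * r :=
      fun q hq hc => D.commute_of_normalized hR hq (hn q hc) hr
    have hrQ : r ∈ D.F.Q := D.pre.hC (mem_centralizer_iff.2 fun q hq => by
      by_cases hc : q * u = u * q
      · exact (hfix q hq hc).symm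
      set p := r * q * r⁻¹ with hp
      have hpQ : p ∈ D.F.Q := D.Q_normal.conj_mem q hq r
      have hru : r * u = u * r := mem_centralizer_singleton_iff.1 (hRu hr)
      have hpu : p * u ≠ u * p := fun h => hc (by
        have h' : r⁻¹ * (p * u) * r = r⁻¹ * (u * p) * r := by rw [h]
        rw [hp, show r⁻¹ * (r * q * r⁻¹ * u) * r = q * (r⁻¹ * (u * r)) by group, ← hru,
          show q * (r⁻¹ * (r * u)) = q * u by group,
          show r⁻¹ * (u * (r * q * r⁻¹)) * r = r⁻¹ * (u * r) * q by group, ← hru,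
          show r⁻¹ * (r * u) * q = u * q by group] at h'
        exact h')
      have e1 := (D.pre.comm_Q hpQ hQ).resolve_left hpu
      have e2 := (D.pre.comm_Q hq hQ).resolve_left hc
      have e3 : q⁻¹ * u = u * D.F.z * q⁻¹ := by
        rw [inv_mul_eq_iff_eq_mul, show q * (u * D.F.z * q⁻¹) = q * u * D.F.z * q⁻¹ by group, e2,
          mul_assoc (u * q), D.F.z_sq]
        group
      have hxu : p * q⁻¹ * u = u * (p * q⁻¹) := by
        calc p * q⁻¹ * u = p * (q⁻¹ * u) := mul_assoc _ _ _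
          _ = (p * u) * D.F.z * q⁻¹ := by rw [e3]; group
          _ = u * p * (D.F.z * D.F.z) * q⁻¹ := by rw [e1]; group
          _ = u * (p * q⁻¹) := by rw [D.F.z_sq]; group
      have hrx : Commute r (p * q⁻¹) := hfix _ (mul_mem hpQ (inv_mem hq)) hxu
      have hpow : ∀ k : ℕ, r ^ k * q * (r ^ k)⁻¹ = (p * q⁻¹) ^ k * q := by
        intro k
        induction k with
        | zero => simp
        | succ k ih =>
          calc r ^ (k + 1) * q * (r ^ (k + 1))⁻¹ = r * (r ^ k * q * (r ^ k)⁻¹) * r⁻¹ := by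
                rw [pow_succ']; group
            _ = r * (p * q⁻¹) ^ k * q * r⁻¹ := by rw [ih]; group
            _ = (p * q⁻¹) ^ k * (r * q * r⁻¹) := by rw [(hrx.pow_right k).eq]; group
            _ = (p * q⁻¹) ^ (k + 1) * q := by rw [← hp, pow_succ]; group
      have h1 := hpow (orderOf r)
      rw [pow_orderOf_eq_one, one_mul, inv_one, mul_one, eq_comm, mul_eq_right] at h1
      have h2 : p * q⁻¹ = 1 := by
        obtain ⟨k, hk⟩ := D.isPGroup_Q ⟨p * q⁻¹, mul_mem hpQ (inv_mem hq)⟩
        exact orderOf_eq_one_iff.1 (Nat.eq_one_of_dvd_coprimes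
          (Nat.Coprime.pow_left k (Nat.coprime_two_left.2 hor))
          (orderOf_dvd_of_pow_eq_one (by simpa using congrArg Subtype.val hk))
          (orderOf_dvd_of_pow_eq_one h1))
      rw [mul_inv_eq_one, hp, mul_inv_eq_iff_eq_mul] at h2
      exact h2.symm)
    exact SylAltEight.eq_one_of_pGroup_odd D.isPGroup_Q hR hrQ hr
  · have h16 := D.card_centralizer_outer
      (u := u) ⟨mem_centralizer_singleton_iff.2 (D.hz u), Invol.invol_mul_self hu, hQ⟩
    have hd := (centralizer ({u} : Set Y)).orderOf_dvd_natCard (hRu hr)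
    rw [h16, show (16 : ℕ) = 2 ^ 4 by norm_num] at hd
    exact orderOf_eq_one_iff.1 (Nat.eq_one_of_dvd_coprimes
      (Nat.Coprime.pow_left 4 (Nat.coprime_two_left.2 hor)) hd dvd_rfl)

include D in
/-- A normal subgroup containing the involutions is the whole quotient. -/
theorem eq_top_of_involutions (R : Subgroup Y) [R.Normal]
    (h : ∀ u : Y, orderOf u = 2 → u ∈ R) : R = ⊤ := by
  classical
  have hc : ((List.range 128).all fun d => !mem qMask d || (List.range 128).any fun a =>
      mem qMask a && Nat.beq (mt a a) 0 && (List.range 128).any fun b =>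
        mem qMask b && Nat.beq (mt b b) 0 && Nat.beq (mt a b) d) = true := by decide +kernel
  have hp : ∀ a < 128, mt a a = 0 → D.F.p a ∈ R := fun a ha e => by
    by_cases h1 : D.F.p a = 1
    · rw [h1]; exact one_mem R
    · exact h _ (Invol.invol_of_mul_self (by rw [D.F.mul a ha a ha, e, D.F.p_zero]) h1)
  have hQ : D.F.Q ≤ R := fun q hq => by
    obtain ⟨d, hd, rfl⟩ := D.F.surj q (D.F.Q_le hq)
    have h' := List.all_eq_true.1 hc d (List.mem_range.2 hd)
    rw [(D.F.mem_sub closed_q hd).1 hq] at h'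
    simp only [Bool.not_true, Bool.false_or, List.any_eq_true, List.mem_range, Bool.and_eq_true,
      beq_true] at h'
    obtain ⟨a, ha, ⟨-, haa⟩, b, hb, ⟨-, hbb⟩, e⟩ := h'
    rw [← e, ← D.F.mul a ha b hb]
    exact mul_mem (hp a ha haa) (hp b hb hbb)
  obtain ⟨π, hπ, hker⟩ := D.pre.hquot
  have hC := D.centralizer_z
  let R' := R.subgroupOf (centralizer ({D.F.z} : Set Y))
  haveI : IsSimpleGroup ↥(alternatingGroup (Fin 5)) := alternatingGroup.isSimpleGroup (by simp)
  have hn : (R'.map π).Normal := Normal.map inferInstance π hπ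
  have ho := D.outer_e (v := 4) (by decide)
  have hne : R'.map π ≠ ⊥ := fun hbot => ho.2.2 (by
    have h1 : π ⟨_, ho.1⟩ ∈ R'.map π := ⟨_, mem_subgroupOf.2 (h _ ho.order), rfl⟩
    rw [hbot, mem_bot, ← MonoidHom.mem_ker, hker, mem_subgroupOf] at h1
    exact h1)
  have ht := hn.eq_bot_or_eq_top.resolve_left hne
  refine eq_top_iff.2 fun g _ => ?_
  have hg : g ∈ centralizer ({D.F.z} : Set Y) := mem_centralizer_singleton_iff.2 (D.hz g)
  obtain ⟨r, hr, e⟩ : π ⟨g, hg⟩ ∈ R'.map π := ht ▸ mem_top _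
  have hk : r⁻¹ * ⟨g, hg⟩ ∈ π.ker := by rw [MonoidHom.mem_ker, map_mul, map_inv, e, inv_mul_cancel]
  rw [hker, mem_subgroupOf] at hk
  have h2 := mul_mem (mem_subgroupOf.1 hr) (hQ hk)
  simpa using h2

end Setting

end CfsgLib.SylJanko
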