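import Cfsg.Agent.Lib.SylJanko.Main
import Cfsg.Agent.Lib.SylJanko.TypeQuotient
import Cfsg.Agent.Lib.SylJanko.FourAct
import Cfsg.Agent.Lib.InvChar.SimpleInvol

/-!
A simple group with a Sylow 2-subgroup of type `J₂`: the centraliser of the central involution,
its classes of involutions and the first balance conditions.
-/

set_option autoImplicit false
set_option maxRecDepth 100000
set_option linter.style.haveILetI false
set_option linter.unusedSectionVars false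

namespace CfsgLib.SylJanko

open Subgroup CfsgLib.InvChar
open CfsgLib.SylAltEight (odd_core core_le le_core core_conj core_conj_self mem_core_iff)

universe u

/-- A Sylow 2-subgroup with its numbering. -/
structure Ctx (G : Type u) [Group G] [Finite G] where
  /-- The Sylow subgroup. -/
  S : Sylow 2 G
  /-- Its numbering. -/
  F : Frame (S : Subgroup G)

namespace Ctx

variable {G : Type u} [Group G] [Finite G] [IsSimpleGroup G] (T : Ctx G)

/-- The centraliser of the central involution. -/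
abbrev C : Subgroup G := centralizer ({T.F.z} : Set G)

/-- Its odd core. -/
abbrev W : Subgroup G := Cfsg.centralizerPPrimeCore 2 T.F.z

/-- The elements of the first elementary subgroup. -/
def e (v : Fin 16) : G := T.F.p (eAt 0 v)

/-- The first elementary subgroup. -/
abbrev A : Subgroup G := T.F.sub (eMask 0)

/-- The map to the centraliser modulo its core. -/
abbrev q : ↥T.C →* ↥T.C ⧸ Cfsg.oddCore ↥T.C := QuotientGroup.mk' _

include T in
theorem card_dvd : 128 ∣ Nat.card G := by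
  rw [← T.F.card_T]
  exact card_subgroup_dvd_card _

include T in
theorem h2 : ∀ H : Subgroup G, H.Normal → H.index ≠ 2 := by
  intro H hH hidx
  rcases hH.eq_bot_or_eq_top with h | h
  · have := T.card_dvd
    rw [h, index_bot] at hidx
    rw [hidx] at this
    norm_num at this
  · rw [h, index_top] at hidx; omega

/-- The setting modulo the core. -/
noncomputable def D : Setting (↥T.C ⧸ Cfsg.oddCore ↥T.C) := (exists_setting' T.S T.F T.h2).choose

theorem p_mem_C {d : ℕ} (hd : d < 128) : T.F.p d ∈ T.C :=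
  mem_centralizer_singleton_iff.2 (T.F.z_central (T.F.p_mem d hd))

theorem D_p {d : ℕ} (hd : d < 128) : T.D.F.p d = T.q ⟨T.F.p d, T.p_mem_C hd⟩ :=
  (exists_setting' T.S T.F T.h2).choose_spec d hd

include T in
theorem not_comm : ¬ IsMulCommutative G := fun h => by
  have h1 := (T.F.comm_iff (a := 1) (b := 32) (by norm_num) (by norm_num)).1
    (h.is_comm.comm (T.F.p 1) (T.F.p 32))
  revert h1; decide +kernel

theorem S_le_C : (T.S : Subgroup G) ≤ T.C := fun _ hx =>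
  mem_centralizer_singleton_iff.2 (T.F.z_central hx)

theorem e_mem_A (v : Fin 16) : T.e v ∈ T.A := T.F.mem_E.2 ⟨v, rfl⟩

theorem mem_A {x : G} : x ∈ T.A ↔ ∃ v, T.e v = x := T.F.mem_E

theorem e_mem_C (v : Fin 16) : T.e v ∈ T.C := T.p_mem_C (Frame.eAt_lt 0 v)

theorem A_le_C : T.A ≤ T.C := (T.F.sub_le _).trans T.S_le_C

theorem e_mul (v w : Fin 16) : T.e v * T.e w = T.e (v ^^^ w) := T.F.eAt_mul 0 v w

theorem e_zero : T.e 0 = 1 := by rw [e, eAt_zero, T.F.p_zero]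

theorem e_one : T.e 1 = T.F.z := by rw [e, eAt_one]; rfl

theorem e_sq (v : Fin 16) : T.e v * T.e v = 1 := by rw [e_mul, Fin.xor_self, e_zero]

theorem e_inj {v w : Fin 16} (h : T.e v = T.e w) : v = w := T.F.eAt_inj h

theorem e_comm (v w : Fin 16) : T.e v * T.e w = T.e w * T.e v := by
  rw [e_mul, e_mul, Fin.xor_comm]

theorem order_e {v : Fin 16} (hv : v ≠ 0) : orderOf (T.e v) = 2 :=
  Invol.invol_of_mul_self (T.e_sq v) fun h => hv (T.e_inj (h.trans T.e_zero.symm))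

theorem card_A : Nat.card T.A = 16 := by
  rw [T.F.card_sub (closed_e 0)]; decide +kernel

theorem A_comm : ∀ a ∈ T.A, ∀ b ∈ T.A, a * b = b * a := by
  intro a ha b hb
  obtain ⟨v, rfl⟩ := T.mem_A.1 ha
  obtain ⟨w, rfl⟩ := T.mem_A.1 hb
  exact T.e_comm v w

theorem A_sq : ∀ a ∈ T.A, a * a = 1 := by
  intro a ha
  obtain ⟨v, rfl⟩ := T.mem_A.1 ha
  exact T.e_sq v

theorem A_le_cent {a : G} (ha : a ∈ T.A) : T.A ≤ centralizer ({a} : Set G) := fun b hb =>
  mem_centralizer_singleton_iff.2 (T.A_comm b hb a ha)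

theorem q_e (v : Fin 16) : T.q ⟨T.e v, T.e_mem_C v⟩ = T.D.F.p (eAt 0 v) :=
  (T.D_p (Frame.eAt_lt 0 v)).symm

theorem z_mem_C : T.F.z ∈ T.C := mem_centralizer_singleton_iff.2 rfl

theorem q_z : T.q ⟨T.F.z, T.z_mem_C⟩ = T.D.F.z := (T.D_p (d := zIdx) (by decide)).symm

theorem W_le : T.W ≤ T.C := core_le _

theorem W_odd : Odd (Nat.card T.W) := odd_core _

theorem W_conj {c x : G} (hc : c ∈ T.C) (hx : x ∈ T.W) : c * x * c⁻¹ ∈ T.W :=
  core_conj_self hc hx

theorem q_eq_one {c : ↥T.C} : T.q c = 1 ↔ (c : G) ∈ T.W := by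
  rw [QuotientGroup.mk'_apply, QuotientGroup.eq_one_iff]
  refine ⟨fun h => mem_core_iff.2 ⟨c.2, h⟩, fun h => ?_⟩
  obtain ⟨_, h'⟩ := mem_core_iff.1 h
  exact h'

/-- Lifting an element commuting with the image of an involution. -/
theorem lift_comm {u : G} (hu : u ∈ T.C) (h2 : orderOf u = 2)
    (y : ↥T.C ⧸ Cfsg.oddCore ↥T.C) (hy : y * T.q ⟨u, hu⟩ = T.q ⟨u, hu⟩ * y) :
    ∃ c : ↥T.C, (c : G) * u = u * c ∧ T.q c = y := by
  obtain ⟨c, rfl⟩ := QuotientGroup.mk'_surjective _ y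
  have hw : (c : G)⁻¹ * (u * c * u) ∈ T.W := by
    have h : T.q (c⁻¹ * (⟨u, hu⟩ * c * ⟨u, hu⟩)) = 1 := by
      rw [map_mul, map_mul, map_mul, map_inv, ← hy, mul_assoc (T.q c), ← map_mul,
        show (⟨u, hu⟩ : ↥T.C) * ⟨u, hu⟩ = 1 from Subtype.ext (Invol.invol_mul_self h2), map_one,
        mul_one, inv_mul_cancel]
    exact T.q_eq_one.1 h
  obtain ⟨m, hm, hmu⟩ := exists_fixed_coset T.W_odd (Invol.invol_mul_self h2) hw
  refine ⟨c * ⟨m, T.W_le hm⟩, hmu.symm, ?_⟩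
  rw [map_mul, T.q_eq_one.2 (show ((⟨m, T.W_le hm⟩ : ↥T.C) : G) ∈ T.W from hm), mul_one]

/-- The centraliser of an outer involution of `A` inside `C(z)`. -/
theorem outer_split {v : Fin 16} (hv : 4 ≤ v.val) {c : G} (hc : c ∈ T.C)
    (he : c * T.e v = T.e v * c) :
    ∃ a ∈ T.A, a⁻¹ * c ∈ T.W ∧ (a⁻¹ * c) * T.e v = T.e v * (a⁻¹ * c) := by
  have h : T.q ⟨c, hc⟩ ∈ T.D.F.sub (eMask 0) := by
    rw [← T.D.centralizer_e hv, mem_centralizer_singleton_iff, ← T.q_e, ← map_mul, ← map_mul]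
    exact congrArg T.q (Subtype.ext he)
  obtain ⟨w, hw⟩ := T.D.F.mem_E.1 h
  rw [← T.q_e] at hw
  refine ⟨T.e w, T.e_mem_A w, ?_, ?_⟩
  · have h1 : T.q (⟨T.e w, T.e_mem_C w⟩⁻¹ * ⟨c, hc⟩) = 1 := by
      rw [map_mul, map_inv, hw, inv_mul_cancel]
    exact T.q_eq_one.1 h1
  · rw [inv_eq_of_mul_eq_one_right (T.e_sq w), mul_assoc, he, ← mul_assoc, T.e_comm w v,
      mul_assoc]

/-- Involutions with conjugate images are conjugate. -/
theorem conj_of_image {u v : G} (hu : u ∈ T.C) (hv : v ∈ T.C) (hu2 : orderOf u = 2)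
    (hv2 : orderOf v = 2) (h : IsConj (T.q ⟨u, hu⟩) (T.q ⟨v, hv⟩)) :
    ∃ c ∈ T.C, c * u * c⁻¹ = v := by
  obtain ⟨y, hy⟩ := isConj_iff.1 h
  obtain ⟨c, rfl⟩ := QuotientGroup.mk'_surjective _ y
  have hw : (c : G) * u * (c : G)⁻¹ * v ∈ T.W := by
    have h1 : T.q (c * ⟨u, hu⟩ * c⁻¹ * ⟨v, hv⟩) = 1 := by
      rw [map_mul, map_mul, map_mul, map_inv, hy, ← map_mul,
        show (⟨v, hv⟩ : ↥T.C) * ⟨v, hv⟩ = 1 from Subtype.ext (Invol.invol_mul_self hv2), map_one]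
    exact T.q_eq_one.1 h1
  obtain ⟨d, hd, e⟩ := SylAltEight.exists_conj_of_coset T.W_odd
    (by rw [Invol.orderOf_conj_eq, hu2]) hv2 hw
  exact ⟨d * c, mul_mem (T.W_le hd) c.2, by rw [← e]; group⟩

theorem orderOf_q {u : G} (hu : u ∈ T.C) (h2 : orderOf u = 2) :
    orderOf (T.q ⟨u, hu⟩) = 2 := by
  refine Invol.invol_of_mul_self ?_ fun h => ?_
  · rw [← map_mul, show (⟨u, hu⟩ : ↥T.C) * ⟨u, hu⟩ = 1 from Subtype.ext (Invol.invol_mul_self h2),
      map_one]
  · refine Invol.invol_ne_one h2 (Invol.eq_one_of_sq_of_odd (Invol.invol_mul_self h2)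
      (SylAltEight.odd_orderOf_of_mem T.W_odd (T.q_eq_one.1 h)))

/-- Involutions of `C(z)` conjugate there into `Q`. -/
def Inner (u : G) : Prop := ∃ c ∈ T.C, c * u * c⁻¹ = T.e 2

/-- Involutions of `C(z)` conjugate there to one outside `Q`. -/
def Outer (u : G) : Prop := ∃ c ∈ T.C, c * u * c⁻¹ = T.e 4

/-- The involutions of `C(z)`. -/
theorem classes {u : G} (hu : u ∈ T.C) (h2 : orderOf u = 2) :
    u = T.F.z ∨ T.Inner u ∨ T.Outer u := by
  rcases T.D.classes (T.orderOf_q hu h2) with h | h | h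
  · rw [← T.q_z] at h
    obtain ⟨c, hc, e⟩ := T.conj_of_image hu T.z_mem_C h2 T.F.orderOf_z (by rw [h])
    refine Or.inl ?_
    calc u = c⁻¹ * (c * u * c⁻¹) * c := by group
      _ = c⁻¹ * (T.F.z * c) := by rw [e, mul_assoc]
      _ = T.F.z := by rw [← mem_centralizer_singleton_iff.1 hc]; group
  · rw [← T.q_e] at h
    exact Or.inr (Or.inl (T.conj_of_image hu (T.e_mem_C 2) h2 (T.order_e (by decide)) h))
  · rw [← T.q_e] at h
    exact Or.inr (Or.inr (T.conj_of_image hu (T.e_mem_C 4) h2 (T.order_e (by decide)) h))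

theorem mem_C_of_inner {u : G} (h : T.Inner u) : u ∈ T.C := by
  obtain ⟨c, hc, e⟩ := h
  have : c⁻¹ * (c * u * c⁻¹) * c ∈ T.C :=
    mul_mem (mul_mem (inv_mem hc) (e ▸ T.e_mem_C 2)) hc
  simpa [mul_assoc] using this

theorem mem_C_of_outer {u : G} (h : T.Outer u) : u ∈ T.C := by
  obtain ⟨c, hc, e⟩ := h
  have : c⁻¹ * (c * u * c⁻¹) * c ∈ T.C :=
    mul_mem (mul_mem (inv_mem hc) (e ▸ T.e_mem_C 4)) hc
  simpa [mul_assoc] using this

theorem q_conj {u c : G} (hu : u ∈ T.C) (hc : c ∈ T.C) {v : Fin 16}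
    (e : c * u * c⁻¹ = T.e v) :
    T.q ⟨c, hc⟩ * T.q ⟨u, hu⟩ * (T.q ⟨c, hc⟩)⁻¹ = T.D.F.p (eAt 0 v) := by
  rw [← T.q_e, ← map_inv, ← map_mul, ← map_mul]
  exact congrArg T.q (Subtype.ext e)

theorem q_mem_Q_of_inner {u : G} (h : T.Inner u) :
    T.q ⟨u, T.mem_C_of_inner h⟩ ∈ T.D.F.Q ∧ u ≠ T.F.z := by
  have hu := T.mem_C_of_inner h
  obtain ⟨c, hc, e⟩ := h
  have h' := T.q_conj hu hc e
  refine ⟨?_, fun hz => ?_⟩
  · have h1 := T.D.Q_normal.conj_mem _ T.D.ni_e_two.1 (T.q ⟨c, hc⟩)⁻¹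
    rw [← h'] at h1
    simpa [mul_assoc] using h1
  · subst hz
    rw [mem_centralizer_singleton_iff.1 hc, mul_inv_cancel_right, ← T.e_one] at e
    exact absurd (T.e_inj e) (by decide)

theorem q_notMem_Q_of_outer {u : G} (h : T.Outer u) : T.q ⟨u, T.mem_C_of_outer h⟩ ∉ T.D.F.Q := by
  have hu := T.mem_C_of_outer h
  obtain ⟨c, hc, e⟩ := h
  have h' := T.q_conj hu hc e
  intro hm
  refine (T.D.outer_e (v := 4) (by decide)).2.2 ?_
  rw [← h']
  exact T.D.Q_normal.conj_mem _ hm _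

theorem ne_z_of_outer {u : G} (h : T.Outer u) : u ≠ T.F.z := fun e => by
  refine T.q_notMem_Q_of_outer h ?_
  subst e
  rw [T.q_z]
  exact T.D.F.z_mem_Q

theorem inner_of_image {u : G} (hu : u ∈ T.C) (h2 : orderOf u = 2) (hz : u ≠ T.F.z)
    (hQ : T.q ⟨u, hu⟩ ∈ T.D.F.Q) : T.Inner u :=
  ((T.classes hu h2).resolve_left hz).resolve_right fun h => T.q_notMem_Q_of_outer h hQ

theorem inner_e {v : Fin 16} (hv : 2 ≤ v.val) (hv' : v.val < 4) : T.Inner (T.e v) := by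
  refine T.inner_of_image (T.e_mem_C v) (T.order_e fun h => by simp [h] at hv) (fun h => ?_) ?_
  · rw [← T.e_one] at h
    have := T.e_inj h
    subst this
    simp at hv
  · rw [T.q_e, T.D.F.mem_sub closed_q (Frame.eAt_lt 0 v), eAt_q, decide_eq_true_eq]
    exact hv'

theorem outer_e {v : Fin 16} (hv : 4 ≤ v.val) : T.Outer (T.e v) := by
  have h0 : v ≠ 0 := fun h => by simp [h] at hv
  rcases T.classes (T.e_mem_C v) (T.order_e h0) with h | h | h
  · rw [← T.e_one] at h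
    have := T.e_inj h
    subst this
    simp at hv
  · refine absurd (T.q_mem_Q_of_inner h).1 ?_
    rw [T.q_e]
    exact (T.D.outer_e hv).2.2
  · exact h

/-- The core of an involution of `C(z)` meets `C(z)` in `O(C(z))`. -/
theorem core_inf_C_le {u : G} (hu : u ∈ T.C) (h2 : orderOf u = 2) :
    Cfsg.centralizerPPrimeCore 2 u ⊓ T.C ≤ T.W := by
  set R := ((Cfsg.centralizerPPrimeCore 2 u ⊓ T.C).subgroupOf T.C).map T.q with hR
  have hbot : R = ⊥ := by
    refine T.D.odd_centralized (T.orderOf_q hu h2) ?_ ?_ ?_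
    · refine Odd.of_dvd_nat ((odd_core u).of_dvd_nat (card_dvd_of_le (inf_le_left (b := T.C))))
        ((card_map_dvd _ _).trans ?_)
      rw [Nat.card_congr (subgroupOfEquivOfLe inf_le_right).toEquiv]
    · rintro _ ⟨x, hx, rfl⟩
      have hxu : (x : G) * u = u * x :=
        mem_centralizer_singleton_iff.1 (core_le u (mem_inf.1 (mem_subgroupOf.1 hx)).1)
      rw [mem_centralizer_singleton_iff, ← map_mul, ← map_mul]
      exact congrArg T.q (Subtype.ext hxu)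
    · rintro y hy _ ⟨x, hx, rfl⟩
      obtain ⟨c, hc, rfl⟩ := T.lift_comm hu h2 y hy
      obtain ⟨hx1, hx2⟩ := mem_inf.1 (mem_subgroupOf.1 hx)
      exact ⟨c * x * c⁻¹, mem_subgroupOf.2 (mem_inf.2
        ⟨core_conj_self (mem_centralizer_singleton_iff.2 hc) hx1,
          mul_mem (mul_mem c.2 hx2) (inv_mem c.2)⟩), by simp⟩
  intro x hx
  have h1 : T.q ⟨x, hx.2⟩ ∈ R := ⟨_, mem_subgroupOf.2 hx, rfl⟩
  rw [hbot, mem_bot] at h1
  exact T.q_eq_one.1 h1

/-- A 2-subgroup of `C(z)` centralising an outer involution has order at most sixteen. -/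
theorem card_le_of_outer {R : Subgroup G} (hR : IsPGroup 2 R) (hRC : R ≤ T.C) {u : G}
    (hu : T.Outer u) (hRu : R ≤ centralizer ({u} : Set G)) : Nat.card R ≤ 16 := by
  haveI : Fact (Nat.Prime 2) := ⟨Nat.prime_two⟩
  have huC := T.mem_C_of_outer hu
  have h2 : orderOf u = 2 := by
    obtain ⟨c, -, e⟩ := hu
    rw [← Invol.orderOf_conj_eq c, e]
    exact T.order_e (by decide)
  have h16 := T.D.card_centralizer_outer (u := T.q ⟨u, huC⟩)
    ⟨mem_centralizer_singleton_iff.2 (T.D.hz _), Invol.invol_mul_self (T.orderOf_q huC h2),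
      T.q_notMem_Q_of_outer hu⟩
  refine le_trans (Nat.card_le_card_of_injective (fun r => (⟨T.q ⟨r, hRC r.2⟩, ?_⟩ :
    ↥(centralizer ({T.q ⟨u, huC⟩} : Set (↥T.C ⧸ Cfsg.oddCore ↥T.C))))) fun r s h => ?_) h16.le
  · rw [mem_centralizer_singleton_iff, ← map_mul, ← map_mul]
    exact congrArg T.q (Subtype.ext (mem_centralizer_singleton_iff.1 (hRu r.2)))
  · have h' : T.q (⟨r, hRC r.2⟩ * ⟨s, hRC s.2⟩⁻¹) = 1 := by
      rw [map_mul, map_inv, show T.q ⟨r, hRC r.2⟩ = T.q ⟨s, hRC s.2⟩ from congrArg Subtype.val h,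
        mul_inv_cancel]
    exact Subtype.ext (eq_of_mul_inv_eq_one (SylAltEight.eq_one_of_pGroup_odd hR T.W_odd
      (mul_mem r.2 (inv_mem s.2)) (T.q_eq_one.1 h')))

/-- The central involution is conjugate to an inner one. -/
theorem fuse : IsConj T.F.z (T.e 2) := by
  by_contra hno
  have hin : ∀ w, T.Inner w → ¬ IsConj T.F.z w := fun w hw h => by
    obtain ⟨c, -, e⟩ := hw
    exact hno (h.trans (isConj_iff.2 ⟨c, e⟩))
  obtain ⟨g₀, hg₀⟩ : ∃ g : G, Commute T.F.z (g * T.F.z * g⁻¹) ∧ g * T.F.z * g⁻¹ ≠ T.F.z := by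
    by_contra h
    push Not at h
    exact not_isolated_of_simple T.not_comm (z := T.F.z) ⟨T.F.orderOf_z, h⟩
  have hu : g₀ * T.F.z * g₀⁻¹ ∈ T.C := mem_centralizer_singleton_iff.2 hg₀.1.eq.symm
  have hout := ((T.classes hu (by rw [Invol.orderOf_conj_eq, T.F.orderOf_z])).resolve_left
    hg₀.2).resolve_left fun h => hin _ h (isConj_iff.2 ⟨g₀, rfl⟩)
  have hz4 : IsConj T.F.z (T.e 4) := by
    obtain ⟨c, -, e⟩ := hout
    exact (isConj_iff.2 ⟨g₀, rfl⟩).trans (isConj_iff.2 ⟨c, e⟩)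
  obtain ⟨g, hg⟩ := isConj_iff.1 hz4.symm
  have key : ∀ v : Fin 16, 2 ≤ v.val → v.val < 4 →
      ∃ h : g * T.e v * g⁻¹ ∈ T.C, T.q ⟨_, h⟩ ∈ T.D.F.Q := by
    intro v hv hv'
    have hv0 : v ≠ 0 := fun h => by simp [h] at hv
    have hm : g * T.e v * g⁻¹ ∈ T.C := mem_centralizer_singleton_iff.2 (by
      rw [← hg]
      calc g * T.e v * g⁻¹ * (g * T.e 4 * g⁻¹) = g * (T.e v * T.e 4) * g⁻¹ := by group
        _ = g * (T.e 4 * T.e v) * g⁻¹ := by rw [T.e_comm]
        _ = g * T.e 4 * g⁻¹ * (g * T.e v * g⁻¹) := by group)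
    have hnz : ¬ IsConj T.F.z (g * T.e v * g⁻¹) := fun h =>
      hin _ (T.inner_e hv hv') (h.trans (isConj_iff.2 ⟨g⁻¹, by group⟩))
    rcases T.classes hm (by rw [Invol.orderOf_conj_eq, T.order_e hv0]) with h | h | h
    · exact absurd (by rw [h]) hnz
    · exact ⟨hm, (T.q_mem_Q_of_inner h).1⟩
    · obtain ⟨c, -, e⟩ := h
      exact absurd (hz4.trans (isConj_iff.2 ⟨c, e⟩).symm) hnz
  obtain ⟨h2m, h2Q⟩ := key 2 (by decide) (by decide)
  obtain ⟨h3m, h3Q⟩ := key 3 (by decide) (by decide)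
  have hprod : g * T.F.z * g⁻¹ = g * T.e 2 * g⁻¹ * (g * T.e 3 * g⁻¹) := by
    rw [show g * T.e 2 * g⁻¹ * (g * T.e 3 * g⁻¹) = g * (T.e 2 * T.e 3) * g⁻¹ by group, T.e_mul,
      show (2 : Fin 16) ^^^ 3 = 1 by decide, T.e_one]
  have hne : g * T.F.z * g⁻¹ ≠ T.F.z := fun h => by
    have := mul_left_cancel (mul_right_cancel (h.trans hg.symm))
    rw [← T.e_one] at this
    exact absurd (T.e_inj this) (by decide)
  have hm : g * T.F.z * g⁻¹ ∈ T.C := hprod ▸ mul_mem h2m h3m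
  refine hin _ (T.inner_of_image hm (by rw [Invol.orderOf_conj_eq, T.F.orderOf_z]) hne ?_)
    (isConj_iff.2 ⟨g, rfl⟩)
  rw [show (⟨_, hm⟩ : ↥T.C) = ⟨_, h2m⟩ * ⟨_, h3m⟩ from Subtype.ext hprod, map_mul]
  exact mul_mem h2Q h3Q

theorem conj_z_inner {u : G} (h : T.Inner u) : IsConj T.F.z u := by
  obtain ⟨c, -, e⟩ := h
  exact T.fuse.trans (isConj_iff.2 ⟨c, e⟩).symm

theorem conj_z_small {v : Fin 16} (h0 : v ≠ 0) (hv : v.val < 4) : IsConj T.F.z (T.e v) := by
  by_cases h1 : v = 1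
  · rw [h1, T.e_one]
  · refine T.conj_z_inner (T.inner_e ?_ hv)
    rcases small_cases v hv with rfl | rfl | rfl | rfl
    · exact absurd rfl h0
    · exact absurd rfl h1
    · decide
    · decide

/-- Balance at an involution conjugate to `z`. -/
theorem core_inf_le_of_conj_z {p r : G} (hp : orderOf p = 2) (hc : p * r = r * p)
    (hr : IsConj T.F.z r) :
    Cfsg.centralizerPPrimeCore 2 p ⊓ centralizer ({r} : Set G) ≤
      Cfsg.centralizerPPrimeCore 2 r := by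
  obtain ⟨g, hg⟩ := isConj_iff.1 hr.symm
  intro x hx
  have hpC : g * p * g⁻¹ ∈ T.C := mem_centralizer_singleton_iff.2 (by
    rw [← hg]
    calc g * p * g⁻¹ * (g * r * g⁻¹) = g * (p * r) * g⁻¹ := by group
      _ = g * (r * p) * g⁻¹ := by rw [hc]
      _ = g * r * g⁻¹ * (g * p * g⁻¹) := by group)
  have hxC : g * x * g⁻¹ ∈ T.C := mem_centralizer_singleton_iff.2 (by
    rw [← hg]
    calc g * x * g⁻¹ * (g * r * g⁻¹) = g * (x * r) * g⁻¹ := by group
      _ = g * (r * x) * g⁻¹ := by rw [mem_centralizer_singleton_iff.1 hx.2]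
      _ = g * r * g⁻¹ * (g * x * g⁻¹) := by group)
  have h := T.core_inf_C_le hpC (by rw [Invol.orderOf_conj_eq, hp]) ⟨core_conj hx.1, hxC⟩
  have h' := core_conj (g := g⁻¹) h
  rw [inv_inv, show g⁻¹ * T.F.z * g = r by rw [← hg]; group,
    show g⁻¹ * (g * x * g⁻¹) * g = x by group] at h'
  exact h'

end Ctx

end CfsgLib.SylJanko
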