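import Cfsg.Agent.Lib.SylJanko.TypeClosure
import Cfsg.Agent.Lib.InvChar.J3Pre
import Cfsg.Agent.Lib.InvChar.J3Main
import Cfsg.Agent.Lib.InvChar.J3NoStrong
import Cfsg.Agent.Lib.InvChar.J3Iso
import Cfsg.Agent.Lib.Janko3.SylowOddFacts
import Cfsg.Agent.Lib.Janko3.QuotientCode

/-!
The core of the centraliser of the central involution is trivial; recognition of the two groups
of Janko.
-/

set_option autoImplicit false
set_option maxRecDepth 100000
set_option linter.style.haveILetI false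
set_option linter.unusedSectionVars false

namespace CfsgLib.SylJanko

open Subgroup CfsgLib.InvChar
open CfsgLib.SylAltEight (odd_core core_le le_core core_conj core_conj_self mem_core_iff
  core_le_closure)

universe u v

/-- The hypotheses of Hall-Janko type transported along an embedding. -/
theorem pre_of_hom {Y : Type u} [Group Y] [Finite Y] (D : Setting Y) {X : Type v} [Group X]
    (f : Y →* X) (hf : Function.Injective f)
    (hr : f.range = centralizer ({f D.F.z} : Set X)) :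
    HJType.Pre (f D.F.z) (D.F.Q.map f) := by
  have P := D.pre
  obtain ⟨π, hπ, hker⟩ := P.hquot
  let ι : ↥(centralizer ({f D.F.z} : Set X)) ≃* Y :=
    (MulEquiv.subgroupCongr hr.symm).trans (MonoidHom.ofInjective hf).symm
  have hι : ∀ x, f (ι x) = (x : X) := fun x => by
    have h := (MonoidHom.ofInjective hf).apply_symm_apply ((MulEquiv.subgroupCongr hr.symm) x)
    exact congrArg Subtype.val h
  let κ : ↥(centralizer ({f D.F.z} : Set X)) →* ↥(centralizer ({D.F.z} : Set Y)) :=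
    ι.toMonoidHom.codRestrict _ fun _ => mem_centralizer_singleton_iff.2 (D.hz _)
  refine
    { hz := by rw [orderOf_injective f hf]; exact D.F.orderOf_z
      hQH := ?_
      hnorm := ?_
      hzQ := ⟨_, D.F.z_mem_Q, rfl⟩
      hes := HJType.extraspecial_of_equiv (D.F.Q.equivMapOfInjective f hf) P.hes
      hQc := by rw [card_map_of_injective hf]; exact P.hQc
      hC := ?_
      hquot := ⟨π.comp κ, hπ.comp fun y => ?_, ?_⟩ }
  · rintro _ ⟨q, -, rfl⟩
    exact hr ▸ ⟨q, rfl⟩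
  · intro h hh _ hq
    obtain ⟨q, hq, rfl⟩ := hq
    rw [← hr] at hh
    obtain ⟨y, rfl⟩ := hh
    exact ⟨y * q * y⁻¹, D.Q_normal.conj_mem q hq y, by simp⟩
  · intro c hc
    have hcz : c ∈ centralizer ({f D.F.z} : Set X) := mem_centralizer_singleton_iff.2
      (mem_centralizer_iff.1 hc _ ⟨_, D.F.z_mem_Q, rfl⟩).symm
    rw [← hr] at hcz
    obtain ⟨y, rfl⟩ := hcz
    refine ⟨y, P.hC (mem_centralizer_iff.2 fun q hq => hf ?_), rfl⟩
    rw [map_mul, map_mul]
    exact mem_centralizer_iff.1 hc _ ⟨q, hq, rfl⟩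
  · refine ⟨⟨f (y : Y), hr ▸ ⟨_, rfl⟩⟩, Subtype.ext (hf ?_)⟩
    exact hι _
  · ext x
    rw [MonoidHom.mem_ker, MonoidHom.comp_apply, ← MonoidHom.mem_ker, hker, mem_subgroupOf,
      mem_subgroupOf]
    constructor
    · intro h
      exact ⟨_, h, hι x⟩
    · rintro ⟨q, hq, e⟩
      have : q = ι x := hf (e.trans (hι x).symm)
      show ι x ∈ D.F.Q
      exact this ▸ hq

namespace Ctx

variable {G : Type u} [Group G] [Finite G] [IsSimpleGroup G] (T : Ctx G)

/-- The centralisers of the elements of `A` normalise the closure. -/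
theorem cent_e_le_H {v : Fin 16} (hv : v ≠ 0) : centralizer ({T.e v} : Set G) ≤ T.H := by
  by_cases hzv : IsConj T.F.z (T.e v)
  · exact T.cent_le_H_of_conj (T.e_mem_A v) hzv
  have hv4 : 4 ≤ v.val := by
    by_contra hlt
    exact hzv (T.conj_z_small hv (by omega))
  have h : T.Two := fun h4 => by
    obtain ⟨c, -, e⟩ := T.outer_e hv4
    exact hzv (h4.trans (isConj_iff.2 ⟨c, e⟩).symm)
  intro g hg
  have hOH : ∀ {x}, x ∈ Cfsg.centralizerPPrimeCore 2 (T.e v) → x ∈ T.H := fun hx =>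
    T.Θ_le_H (core_le_closure (T.e_mem_A v) (T.e_ne_one hv) hx)
  by_cases hm : T.Moves v
  · obtain ⟨Fr, rfl⟩ := exists_four h hv4 hm
    obtain ⟨m, hm', hgm⟩ := exists_comm h Fr.ha Fr.hm Fr.hb hg
    have hgX : g * m ∈ Fr.X :=
      mem_inf.2 ⟨mul_mem hg (core_le _ hm'), mem_centralizer_singleton_iff.2 hgm.symm⟩
    have hH : g * m ∈ T.H := Invol.mem_normalizer_iff_of_finite fun x hx => by
      have hgen := four_gen T.Θ_odd (T.order_e hv) (T.order_e Fr.b_ne) (T.e_comm _ _)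
        (fun e => Fr.b_ne_a (T.e_inj e).symm) (T.A_le_H (T.e_mem_A _)) (T.A_le_H (T.e_mem_A _)) hx
      rw [T.e_mul, T.Θ_inf_e hv, T.Θ_inf_e Fr.b_ne, T.Θ_inf_e Fr.c_ne] at hgen
      have hpart : ∀ w, T.Vc Fr.a w → w ≠ 0 →
          Cfsg.centralizerPPrimeCore 2 (T.e w) ≤ T.Θ.comap (MulAut.conj (g * m)).toMonoidHom :=
        fun w hw hw0 y hy => core_le_closure (T.e_mem_A w) (T.e_ne_one hw0)
          (core_conj_self (mem_centralizer_singleton_iff.2 (Fr.comm_vc hgX hw)) hy)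
      exact (sup_le (sup_le (hpart _ Fr.vc_a hv) (hpart _ Fr.hb Fr.b_ne))
        (hpart _ Fr.vc_c Fr.c_ne)) hgen
    have := mul_mem hH (inv_mem (hOH hm'))
    rwa [mul_inv_cancel_right] at this
  · obtain ⟨a, ha, hag⟩ := split_of_not_moves h hv4 hm hg
    have := mul_mem (T.A_le_H ha) (hOH hag)
    rwa [mul_inv_cancel_left] at this

theorem cent_le_H {u : G} (hu : u ∈ (T.S : Subgroup G)) (h2 : orderOf u = 2) :
    centralizer ({u} : Set G) ≤ T.H := by
  have huC := T.S_le_C hu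
  have key : ∀ v : Fin 16, v ≠ 0 → ∀ c ∈ T.C, c * u * c⁻¹ = T.e v →
      centralizer ({u} : Set G) ≤ T.H := by
    intro v hv c hc e g hg
    have h1 : c * g * c⁻¹ ∈ T.H := T.cent_e_le_H hv (mem_centralizer_singleton_iff.2 (by
      rw [← e]; exact Cfg.conj_comm (mem_centralizer_singleton_iff.1 hg)))
    have := mul_mem (mul_mem (inv_mem (T.C_le_H hc)) h1) (T.C_le_H hc)
    simpa [mul_assoc] using this
  rcases T.classes huC h2 with h | ⟨c, hc, e⟩ | ⟨c, hc, e⟩
  · rw [h]; exact T.C_le_H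
  · exact key 2 (by decide) c hc e
  · exact key 4 (by decide) c hc e

theorem normalizer_S_le_C : normalizer ((T.S : Subgroup G) : Set G) ≤ T.C := by
  intro n hn
  have hzn : n * T.F.z * n⁻¹ ∈ (T.S : Subgroup G) := (mem_normalizer_iff.1 hn _).1 T.F.z_mem
  rcases T.F.center_cases hzn (fun y hy => by
    have h' := T.F.z_central ((mem_normalizer_iff''.1 hn y).1 hy)
    have := Cfg.conj_comm (g := n) h'
    simpa [mul_assoc] using this.symm) with h | h
  · exact absurd (conj_eq_one_iff.1 h) T.F.z_ne_one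
  · exact mem_centralizer_singleton_iff.2 (mul_inv_eq_iff_eq_mul.1 h)

theorem W_eq_bot_of_H (h : T.H = ⊤) : T.W = ⊥ := by
  rcases (normalizer_eq_top_iff.1 h).eq_bot_or_eq_top with h' | h'
  · exact le_bot_iff.1 (T.W_le_Θ.trans h'.le)
  · have h1 := T.Θ_odd
    rw [h', card_top] at h1
    have h2 : 2 ∣ Nat.card G := (show 2 ∣ 128 by norm_num).trans T.card_dvd
    exact absurd h2 (SylAltEight.not_two_dvd_iff.2 h1)

theorem H_eq_top_of_two (h : T.Two) : T.H = ⊤ :=
  SylAltEight.eq_top_of_centralizers T.S T.S_le_H (T.normalizer_S_le_C.trans T.C_le_H)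
    (fun _ hx hxo => T.cent_le_H hx hxo) T.F.orderOf_z (T.order_e (v := 4) (by decide)) h

section OneClass

variable (h4 : IsConj T.F.z (T.e 4))
include h4

theorem exists_conj_H {u : G} (hu : u ∈ T.H) (h2 : orderOf u = 2) :
    ∃ g ∈ T.H, g * u * g⁻¹ = T.F.z := by
  have hu' : orderOf (⟨u, hu⟩ : ↥T.H) = 2 := by rw [Subgroup.orderOf_mk, h2]
  obtain ⟨m, hm⟩ := Invol.exists_conj_invol_mem_sylow (T.S.subtype T.S_le_H) hu'
  have hmS : (m : G) * u * (m : G)⁻¹ ∈ (T.S : Subgroup G) := hm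
  have key : ∀ v : Fin 16, IsConj T.F.z (T.e v) → ∀ c ∈ T.C,
      c * ((m : G) * u * (m : G)⁻¹) * c⁻¹ = T.e v → ∃ g ∈ T.H, g * u * g⁻¹ = T.F.z := by
    intro v hv c hc e
    obtain ⟨g, hg⟩ := isConj_iff.1 hv.symm
    refine ⟨g * c * m, mul_mem (mul_mem (T.mem_H_of_conj (T.e_mem_A v) hg) (T.C_le_H hc)) m.2, ?_⟩
    rw [← hg, ← e]; group
  rcases T.classes (T.S_le_C hmS) (by rw [Invol.orderOf_conj_eq, h2]) with h | ⟨c, hc, e⟩ | ⟨c, hc, e⟩
  · exact ⟨m, m.2, h⟩
  · exact key 2 T.fuse c hc e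
  · exact key 4 h4 c hc e

theorem strongly_embedded (hne : T.H ≠ ⊤) : Cfsg.IsStronglyEmbedded T.H := by
  refine ⟨hne, Invol.even_card_of_invol_mem T.F.orderOf_z (T.C_le_H T.z_mem_C), fun g hg => ?_⟩
  by_contra hev
  obtain ⟨u, hu, h2⟩ := Invol.exists_invol_mem (Nat.not_odd_iff_even.1 hev)
  obtain ⟨hu1, v, hv, rfl⟩ := hu
  rw [MulEquiv.coe_toMonoidHom, MulAut.conj_apply] at hu1 h2
  rw [Invol.orderOf_conj_eq] at h2
  obtain ⟨p, hp, ep⟩ := T.exists_conj_H h4 hv h2
  obtain ⟨r, hr, er⟩ := T.exists_conj_H h4 hu1 (by rw [Invol.orderOf_conj_eq, h2])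
  have hmem : r * g * p⁻¹ ∈ T.H := T.C_le_H (mem_centralizer_singleton_iff.2 (by
    calc r * g * p⁻¹ * T.F.z = r * g * p⁻¹ * (p * v * p⁻¹) := by rw [ep]
      _ = (r * (g * v * g⁻¹) * r⁻¹) * (r * g * p⁻¹) := by group
      _ = T.F.z * (r * g * p⁻¹) := by rw [er]))
  have h3 := mul_mem (mul_mem (inv_mem hr) hmem) hp
  simp [mul_assoc] at h3
  exact hg h3

theorem H_eq_top_of_one : T.H = ⊤ := by
  classical
  haveI : Fact (Nat.Prime 2) := ⟨Nat.prime_two⟩
  by_contra hne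
  have hSE := T.strongly_embedded h4 hne
  set Θ₀ := T.Θ.subgroupOf T.H with hΘ₀
  haveI : Θ₀.Normal := normal_subgroupOf_iff_le_normalizer T.Θ_le_H |>.2 le_rfl
  let π : ↥T.H →* ↥T.H ⧸ Θ₀ := QuotientGroup.mk' Θ₀
  have hπs : Function.Surjective π := QuotientGroup.mk'_surjective _
  have hker : ∀ x : ↥T.H, π x = 1 ↔ (x : G) ∈ T.Θ := fun x => by
    rw [QuotientGroup.mk'_apply, QuotientGroup.eq_one_iff]; exact mem_subgroupOf
  have hΘodd : Odd (Nat.card Θ₀) := by
    rw [Nat.card_congr (subgroupOfEquivOfLe T.Θ_le_H).toEquiv]; exact T.Θ_odd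
  set zH : ↥T.H := ⟨T.F.z, T.C_le_H T.z_mem_C⟩ with hzH
  -- involutions lift to involutions
  have hlift : ∀ x : ↥T.H ⧸ Θ₀, orderOf x = 2 → ∃ w : ↥T.H, orderOf (w : G) = 2 ∧ π w = x := by
    intro x hx
    obtain ⟨h, rfl⟩ := hπs x
    obtain ⟨j, hj⟩ := hΘodd
    refine ⟨h ^ (2 * j + 1), ?_, ?_⟩
    · rw [orderOf_coe]
      refine Invol.invol_of_mul_self ?_ fun e => ?_
      · have h3 : h * h ∈ Θ₀ := by
          rw [← QuotientGroup.eq_one_iff]
          show π (h * h) = 1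
          rw [map_mul, Invol.invol_mul_self hx]
        rw [← pow_add, ← two_mul, pow_mul, pow_two, ← hj]
        exact orderOf_dvd_iff_pow_eq_one.1 (Θ₀.orderOf_dvd_natCard h3)
      · have := congrArg π e
        rw [map_pow, map_one, pow_succ, pow_mul, pow_two, Invol.invol_mul_self hx, one_pow,
          one_mul] at this
        exact Invol.invol_ne_one hx this
    · rw [map_pow, pow_succ, pow_mul, pow_two, Invol.invol_mul_self hx, one_pow, one_mul]
  have hz2 : orderOf (π zH) = 2 := by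
    refine Invol.invol_of_mul_self ?_ fun e => ?_
    · rw [← map_mul, show zH * zH = 1 from Subtype.ext (Invol.invol_mul_self T.F.orderOf_z), map_one]
    · exact Invol.invol_ne_one T.F.orderOf_z (Invol.eq_one_of_sq_of_odd
        (Invol.invol_mul_self T.F.orderOf_z) (SylAltEight.odd_orderOf_of_mem T.Θ_odd ((hker zH).1 e)))
  have hone' : ∀ x : ↥T.H ⧸ Θ₀, orderOf x = 2 → IsConj x (π zH) := by
    intro x hx
    obtain ⟨w, hw, rfl⟩ := hlift x hx
    obtain ⟨g, hg, e⟩ := T.exists_conj_H h4 w.2 hw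
    refine isConj_iff.2 ⟨π ⟨g, hg⟩, ?_⟩
    rw [← map_inv, ← map_mul, ← map_mul]
    exact congrArg π (Subtype.ext e)
  have hone : ∀ x y : ↥T.H ⧸ Θ₀, orderOf x = 2 → orderOf y = 2 → IsConj x y :=
    fun x y hx hy => (hone' x hx).trans (hone' y hy).symm
  -- the centraliser of the image of `z`
  haveI : (Cfsg.oddCore ↥T.C).Normal := Cfsg.pPrimeCore_normal 2 _
  let f : ↥T.C ⧸ Cfsg.oddCore ↥T.C →* ↥T.H ⧸ Θ₀ := QuotientGroup.lift _
    (π.comp (Subgroup.inclusion T.C_le_H)) fun c hc => by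
      rw [MonoidHom.mem_ker, MonoidHom.comp_apply, hker]
      exact T.W_le_Θ (T.q_eq_one.1 ((QuotientGroup.eq_one_iff c).2 hc))
  have hfq : ∀ c : ↥T.C, f (T.q c) = π (Subgroup.inclusion T.C_le_H c) := fun _ => rfl
  have hfz : f T.D.F.z = π zH := by rw [← T.q_z, hfq]; rfl
  have hf : Function.Injective f := by
    rw [injective_iff_map_eq_one]
    intro y hy
    obtain ⟨c, rfl⟩ := QuotientGroup.mk'_surjective _ y
    rw [hfq, hker] at hy
    exact T.q_eq_one.2 (T.Θ_inf_C ▸ mem_inf.2 ⟨hy, c.2⟩)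
  have hr : f.range = centralizer ({f T.D.F.z} : Set (↥T.H ⧸ Θ₀)) := by
    refine le_antisymm ?_ ?_
    · rintro _ ⟨y, rfl⟩
      exact mem_centralizer_singleton_iff.2 (by rw [← map_mul, ← map_mul, T.D.hz])
    · intro x hx
      obtain ⟨g, rfl⟩ := hπs x
      rw [mem_centralizer_singleton_iff, hfz] at hx
      have hw : (g : G)⁻¹ * (T.F.z * g * T.F.z) ∈ T.Θ := by
        have h1 : π (g⁻¹ * (zH * g * zH)) = 1 := by
          rw [map_mul, map_inv, map_mul, map_mul, ← hx, mul_assoc _ (π zH), ← map_mul π zH zH,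
            show zH * zH = 1 from Subtype.ext (Invol.invol_mul_self T.F.orderOf_z), map_one, mul_one,
            inv_mul_cancel]
        exact (hker _).1 h1
      obtain ⟨m, hm, hmz⟩ := exists_fixed_coset T.Θ_odd (Invol.invol_mul_self T.F.orderOf_z) hw
      refine ⟨T.q ⟨g * m, mem_centralizer_singleton_iff.2 hmz.symm⟩, ?_⟩
      rw [hfq]
      have hm1 : π ⟨m, T.Θ_le_H hm⟩ = 1 := (hker _).2 hm
      calc π (Subgroup.inclusion T.C_le_H ⟨g * m, mem_centralizer_singleton_iff.2 hmz.symm⟩)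
          = π (g * ⟨m, T.Θ_le_H hm⟩) := rfl
        _ = π g := by rw [map_mul, hm1, mul_one]
  -- no odd normal subgroup
  have hO : Cfsg.oddCore (↥T.H ⧸ Θ₀) = ⊥ := by
    haveI : (Cfsg.oddCore (↥T.H ⧸ Θ₀)).Normal := Cfsg.pPrimeCore_normal 2 _
    set L := ((Cfsg.oddCore (↥T.H ⧸ Θ₀)).comap π).map T.H.subtype with hL
    have hLodd : Odd (Nat.card L) := by
      rw [card_map_of_injective T.H.subtype_injective]
      let ρ : ↥((Cfsg.oddCore (↥T.H ⧸ Θ₀)).comap π) →* ↥(Cfsg.oddCore (↥T.H ⧸ Θ₀)) :=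
        π.subgroupComap _
      rw [← Subgroup.card_mul_index ρ.ker, index_ker]
      refine Odd.mul (hΘodd.of_dvd_nat ?_)
        ((Invol.odd_card_oddCore _).of_dvd_nat (card_subgroup_dvd_card _))
      rw [← card_map_of_injective ((Cfsg.oddCore (↥T.H ⧸ Θ₀)).comap π).subtype_injective]
      refine card_dvd_of_le ?_
      rintro _ ⟨a, ha, rfl⟩
      exact (QuotientGroup.eq_one_iff (a : ↥T.H)).1 (congrArg Subtype.val ha)
    have hLn : ∀ g ∈ T.H, g ∈ normalizer (L : Set G) := fun g hg =>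
      Invol.mem_normalizer_iff_of_finite fun x hx => by
        obtain ⟨a, ha, rfl⟩ := hx
        exact ⟨_, (inferInstance : ((Cfsg.oddCore (↥T.H ⧸ Θ₀)).comap π).Normal).conj_mem a ha ⟨g, hg⟩,
          rfl⟩
    have hpart : ∀ s : Fin 16, s ≠ 0 → L ⊓ centralizer ({T.e s} : Set G) ≤ T.Θ := by
      intro s hs
      refine le_trans (le_core inf_le_right (fun g hg => ?_)
        (hLodd.of_dvd_nat (card_dvd_of_le inf_le_left))) (core_le_closure (T.e_mem_A s) (T.e_ne_one hs))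
      refine Invol.mem_normalizer_iff_of_finite fun x hx => mem_inf.2
        ⟨(mem_normalizer_iff.1 (hLn g (T.cent_e_le_H hs hg)) x).1 (mem_inf.1 hx).1,
          mul_mem (mul_mem hg (mem_inf.1 hx).2) (inv_mem hg)⟩
    have hLΘ : L ≤ T.Θ := by
      refine le_trans (four_gen hLodd (T.order_e (v := 1) (by decide)) (T.order_e (v := 2) (by decide))
        (T.e_comm 1 2) (fun e => absurd (T.e_inj e) (by decide))
        (hLn _ (T.A_le_H (T.e_mem_A 1))) (hLn _ (T.A_le_H (T.e_mem_A 2)))) ?_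
      rw [T.e_mul]
      exact sup_le (sup_le (hpart _ (by decide)) (hpart _ (by decide))) (hpart _ (by decide))
    rw [eq_bot_iff]
    intro x hx
    obtain ⟨g, rfl⟩ := hπs x
    exact mem_bot.2 ((hker g).2 (hLΘ ⟨g, hx, rfl⟩))
  -- simplicity
  haveI : Nontrivial (↥T.H ⧸ Θ₀) := ⟨⟨π zH, 1, Invol.invol_ne_one hz2⟩⟩
  haveI hsimple : IsSimpleGroup (↥T.H ⧸ Θ₀) := ⟨fun N hN => by
    refine or_iff_not_imp_left.2 fun hbot => ?_
    haveI := hN
    have hev : Even (Nat.card N) := Nat.not_odd_iff_even.1 fun hodd =>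
      hbot (le_bot_iff.1 (hO ▸ Invol.le_oddCore hN hodd))
    obtain ⟨i, hi, hi2⟩ := Invol.exists_invol_mem hev
    have hall : ∀ x : ↥T.H ⧸ Θ₀, orderOf x = 2 → x ∈ N := fun x hx => by
      obtain ⟨g, rfl⟩ := isConj_iff.1 (hone i x hi2 hx)
      exact hN.conj_mem i hi g
    have hCN : f.range ≤ N := by
      have ht : N.comap f = ⊤ := T.D.eq_top_of_involutions _ fun u hu =>
        hall _ (by rw [orderOf_injective f hf]; exact hu)
      rintro _ ⟨y, rfl⟩
      exact (ht ▸ mem_top y : y ∈ N.comap f)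
    let P : Sylow 2 (↥T.H ⧸ Θ₀) := (T.S.subtype T.S_le_H).mapSurjective hπs
    have hPN : (P : Subgroup (↥T.H ⧸ Θ₀)) ≤ N := by
      rintro _ ⟨x, hx, rfl⟩
      exact hCN ⟨T.q ⟨x, T.S_le_C hx⟩, rfl⟩
    have hNP : normalizer ((P : Subgroup (↥T.H ⧸ Θ₀)) : Set (↥T.H ⧸ Θ₀)) ≤ N := by
      intro g hg
      refine hCN ?_
      rw [hr, hfz, mem_centralizer_singleton_iff]
      have hzP : π zH ∈ (P : Subgroup (↥T.H ⧸ Θ₀)) := ⟨zH, T.F.z_mem, rfl⟩
      obtain ⟨x, hx, ex⟩ := (mem_normalizer_iff.1 hg _).1 hzP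
      have hinj : ∀ a b : ↥T.H, (a : G) ∈ (T.S : Subgroup G) → (b : G) ∈ (T.S : Subgroup G) →
          π a = π b → a = b := fun a b ha hb e => by
        have h1 : π (a * b⁻¹) = 1 := by rw [map_mul, map_inv, e, mul_inv_cancel]
        exact eq_of_mul_inv_eq_one (Subtype.ext (SylAltEight.eq_one_of_pGroup_odd T.S.2 T.Θ_odd
          (mul_mem ha (inv_mem hb)) ((hker _).1 h1)))
      have hxc : ∀ y ∈ (T.S : Subgroup G), (x : G) * y = y * x := by
        intro y hy
        set y' : ↥T.H := ⟨y, T.S_le_H hy⟩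
        obtain ⟨w, hw, ew⟩ := (mem_normalizer_iff''.1 hg (π y')).1 ⟨y', hy, rfl⟩
        have e1 : π y' * π x = π x * π y' := by
          have h1 : π y' = g * π w * g⁻¹ := by rw [ew]; group
          rw [h1, ex]
          have h2 : π w * π zH = π zH * π w := by
            rw [← map_mul, ← map_mul]
            exact congrArg π (Subtype.ext (T.F.z_central hw))
          exact (Commute.conj_iff g).2 h2
        exact congrArg Subtype.val
          (hinj (x * y') (y' * x) (mul_mem hx hy) (mul_mem hy hx) (by rw [map_mul, map_mul, e1]))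
      rcases T.F.center_cases hx hxc with h | h
      · rw [show x = 1 from Subtype.ext h, map_one] at ex
        exact absurd (conj_eq_one_iff.1 ex.symm) (Invol.invol_ne_one hz2)
      · rw [show x = zH from Subtype.ext h] at ex
        exact mul_inv_eq_iff_eq_mul.1 ex.symm
    have hfr := Sylow.normalizer_sup_eq_top (P.subtype hPN)
    rw [eq_top_iff, ← hfr]
    refine sup_le ?_ le_rfl
    rw [Sylow.coe_subtype, subgroupOf_map_subtype, inf_eq_left.2 hPN]
    exact hNP⟩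
  -- recognition and the contradiction
  have hpre := pre_of_hom T.D f hf hr
  obtain ⟨F, iF, iFt, hF, ω, hω⟩ := CfsgLib.Janko3Odd.exists_field
  have hf4 := CfsgLib.Janko3.field4_of_card hF hω
  obtain ⟨e⟩ := J3Rec.equiv_QQ_of_pre hpre hone hf4 hF
  obtain ⟨g, -, hg⟩ := SetLike.exists_of_lt (lt_top_iff_ne_top.2 hne)
  set D₀ := T.H ⊓ T.H.map (MulAut.conj g).toMonoidHom with hD₀
  have hD₀le : D₀ ≤ T.H := inf_le_left
  let ψ : D₀ →* CfsgLib.Janko3.QQ F ω := e.toMonoidHom.comp (π.comp (Subgroup.inclusion hD₀le))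
  set t := e (π zH)
  have ht : orderOf t = 2 := by rw [e.orderOf_eq, hz2]
  letI : MulAction ψ.range (CfsgLib.Janko3.QQ F ω) :=
    MulAction.compHom _ (MulAut.conj.comp ψ.range.subtype)
  have horbit : MulAction.orbit ψ.range t = {u | IsConj t u} := by
    ext u
    constructor
    · rintro ⟨d, rfl⟩
      exact isConj_iff.2 ⟨(d : CfsgLib.Janko3.QQ F ω), rfl⟩
    · intro hu
      have hu2 : orderOf (e.symm u) = 2 := by
        rw [e.symm.orderOf_eq, CfsgLib.Invol.orderOf_eq_of_isConj hu, ht]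
      obtain ⟨w, hw2, hw⟩ := hlift _ hu2
      have hxy : ((1 : G) : G ⧸ T.H) ≠ (g : G ⧸ T.H) :=
        fun h => hg (by simpa using QuotientGroup.eq.1 h)
      obtain ⟨d, hd1, hd2, hd⟩ := CfsgLib.Invol.se_stab_transitive hSE hxy T.F.orderOf_z hw2
        ((CfsgLib.Invol.fix_coset_iff _ _).2 (by simpa using T.C_le_H T.z_mem_C))
        ((CfsgLib.Invol.fix_coset_iff _ _).2 (by simp))
      have hdD : d ∈ D₀ := CfsgLib.Invol.mem_inter_conj_iff.2 ⟨hd1, hd2⟩
      refine ⟨⟨ψ ⟨d, hdD⟩, _, rfl⟩, ?_⟩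
      show ψ ⟨d, hdD⟩ * t * (ψ ⟨d, hdD⟩)⁻¹ = u
      rw [← e.apply_symm_apply u, ← hw]
      show e (π ⟨d, hD₀le hdD⟩) * e (π zH) * (e (π ⟨d, hD₀le hdD⟩))⁻¹ = _
      rw [← map_inv, ← map_mul, ← map_mul, ← map_inv π, ← map_mul π, ← map_mul π]
      exact congrArg (fun x => e (π x)) (Subtype.ext hd)
  have hodd : Odd (Nat.card ψ.range) := (hSE.2.2 g hg).of_dvd_nat (by
    have h := ψ.ker.index_dvd_card
    rwa [index_ker] at h)
  have hcls : Nat.card {u | IsConj t u} = 26163 := by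
    obtain ⟨k, hk⟩ := CfsgLib.Janko3.conj_tQ hf4 hF ht
    have hc : Nat.card {u | IsConj (CfsgLib.Janko3.tQ F ω) u} * Nat.card (CfsgLib.Janko3.CC F ω) =
        Nat.card (CfsgLib.Janko3.QQ F ω) :=
      CfsgLib.Invol.card_class_mul_card_centralizer (CfsgLib.Janko3.tQ F ω)
    rw [(CfsgLib.Janko3.cent_spec hf4 hF).1, CfsgLib.Janko3.card_QQ hf4 hF] at hc
    have he : {u | IsConj t u} = {u | IsConj (CfsgLib.Janko3.tQ F ω) u} := Set.ext fun u =>
      ⟨fun h => (isConj_iff.2 ⟨k, hk⟩).symm.trans h, fun h => (isConj_iff.2 ⟨k, hk⟩).trans h⟩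
    rw [he]
    omega
  have hdvd : 26163 ∣ Nat.card ψ.range := by
    rw [← hcls, ← horbit, Nat.card_coe_set_eq, ← MulAction.index_stabilizer]
    exact Subgroup.index_dvd_card _
  have hDQ : Nat.card ψ.range ∣ 50232960 :=
    CfsgLib.Janko3.card_QQ hf4 hF ▸ card_subgroup_dvd_card _
  obtain ⟨x, y, hx, hy, hxy⟩ := J3Rec.exists_commute_orders hodd
    ((by norm_num : 17 ∣ 26163).trans hdvd) (fun h => absurd (h.trans hDQ) (by norm_num))
    ((by norm_num : 19 ∣ 26163).trans hdvd) (fun h => absurd (h.trans hDQ) (by norm_num))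
  exact J3Rec.not_commute_orders hf4 hF (by rw [orderOf_injective _ ψ.range.subtype_injective, hx])
    (by rw [orderOf_injective _ ψ.range.subtype_injective, hy]) (hxy.map ψ.range.subtype)

end OneClass

theorem W_eq_bot : T.W = ⊥ :=
  T.W_eq_bot_of_H (by
    by_cases h : T.Two
    · exact T.H_eq_top_of_two h
    · exact T.H_eq_top_of_one (not_not.1 h))

theorem q_injective : Function.Injective T.q := by
  rw [injective_iff_map_eq_one]
  intro c hc
  have h := T.q_eq_one.1 hc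
  rw [T.W_eq_bot, mem_bot] at h
  exact Subtype.ext h

/-- The centraliser of the central involution is that of the groups of Janko. -/
theorem exists_pre : ∃ Q : Subgroup G, HJType.Pre T.F.z Q := by
  let e := MulEquiv.ofBijective T.q ⟨T.q_injective, QuotientGroup.mk'_surjective _⟩
  let f : ↥T.C ⧸ Cfsg.oddCore ↥T.C →* G := T.C.subtype.comp e.symm.toMonoidHom
  have hfz : f T.D.F.z = T.F.z := by
    show ((e.symm T.D.F.z : ↥T.C) : G) = T.F.z
    rw [← T.q_z, show T.q ⟨T.F.z, T.z_mem_C⟩ = e ⟨T.F.z, T.z_mem_C⟩ from rfl, e.symm_apply_apply]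
  have h := pre_of_hom T.D f (T.C.subtype_injective.comp e.symm.injective) (by
    rw [hfz, MonoidHom.range_comp, MonoidHom.range_eq_top.2 e.symm.surjective,
      ← MonoidHom.range_eq_map, range_subtype])
  rw [hfz] at h
  exact ⟨_, h⟩

end Ctx

/-- **A simple group with a Sylow 2-subgroup of type `J₂` is one of the two groups of Janko.** -/
theorem simple_janko {G : Type u} [Group G] [Finite G] [IsSimpleGroup G] (S : Sylow 2 G)
    (P : Sylow 2 Cfsg.Spor.J2)
    (hS : Nonempty (↥(S : Subgroup G) ≃* ↥(P : Subgroup Cfsg.Spor.J2))) :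
    Cfsg.Spor.IsoJ2 G ∨ Cfsg.Spor.IsoJ3 G := by
  obtain ⟨F⟩ := exists_frame P hS
  let T : Ctx G := ⟨S, F⟩
  obtain ⟨Q, hQ⟩ := T.exists_pre
  by_cases hcl : ∀ x y : G, orderOf x = 2 → orderOf y = 2 → IsConj x y
  · obtain ⟨K, iK, iKt, hK, ω, hω⟩ := CfsgLib.Janko3Odd.exists_field
    have hf := CfsgLib.Janko3.field4_of_card hK hω
    exact Or.inr (J3Rec.isoJ3_of_equiv hf hK (J3Rec.equiv_QQ_of_pre hQ hcl hf hK))
  · exact Or.inl (J3Rec.iso_J2_of_not_one_class hQ hcl).2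

end CfsgLib.SylJanko
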