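import Cfsg.Agent.Lib.SylJanko.TypeLocal
import Cfsg.Agent.Lib.Comp.Subnormal
import Mathlib.GroupTheory.Nilpotent

/-!
The centraliser of an outer involution when it is not conjugate to the central one.
-/

set_option autoImplicit false
set_option maxRecDepth 100000
set_option linter.style.haveILetI false
set_option linter.unusedSectionVars false

namespace CfsgLib.SylJanko

open Subgroup CfsgLib.InvChar
open CfsgLib.SylAltEight (odd_core core_le le_core core_conj core_conj_self mem_core_iff)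

universe u

/-- The coordinates spanned by the small ones and `v`. -/
def inK (v w : Fin 16) : Bool := decide (w.val < 4) || decide ((w ^^^ v).val < 4)

theorem inK_spec : ∀ v w u : Fin 16, 4 ≤ v.val →
    (inK v w = true ∨ inK v u = true ∨ inK v (u ^^^ w) = true) := by decide +kernel

theorem small_third : ∀ a b c : Fin 16, a.val < 4 → b.val < 4 → c.val < 4 → a ≠ 0 → b ≠ 0 → c ≠ 0 →
    a ≠ b → b ≠ c → a ≠ c → a ^^^ b = c := by decide +kernel

theorem small_cover : ∀ a b w : Fin 16, a.val < 4 → b.val < 4 → w.val < 4 → a ≠ 0 → b ≠ 0 → a ≠ b →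
    w = 0 ∨ w = a ∨ w = b ∨ w = a ^^^ b := by decide +kernel

theorem xor_small : ∀ a b : Fin 16, a.val < 4 → b.val < 4 → (a ^^^ b).val < 4 := by decide +kernel

theorem xor_xor_cancel : ∀ a b : Fin 16, a ^^^ b ^^^ b = a := by decide +kernel

theorem eq_of_xor : ∀ a b : Fin 16, a ^^^ b = 0 → a = b := by decide +kernel

theorem zero_xor16 : ∀ a : Fin 16, 0 ^^^ a = a := by decide +kernel

theorem xor_assoc16 : ∀ a b c : Fin 16, a ^^^ b ^^^ c = a ^^^ (b ^^^ c) := by decide +kernel

theorem xor_left_comm16 (a b c : Fin 16) : a ^^^ (b ^^^ c) = b ^^^ (a ^^^ c) := by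
  rw [← xor_assoc16, Fin.xor_comm a b, xor_assoc16]

theorem xor_cancel_left16 (a b : Fin 16) : a ^^^ (a ^^^ b) = b := by
  rw [← xor_assoc16, Fin.xor_self, zero_xor16]

theorem xor_three (u a b : Fin 16) : a ^^^ u ^^^ (b ^^^ a) ^^^ (u ^^^ b) = 0 := by
  simp [xor_assoc16, xor_left_comm16, Fin.xor_comm, xor_cancel_left16]

theorem inK_xor : ∀ v u a : Fin 16, inK v u = true → inK v a = true → inK v (a ^^^ u) = true := by
  decide +kernel

theorem eq_zero_of_shift (d a b v : Fin 16) (h1 : d ^^^ a ^^^ b = 0)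
    (h2 : d ^^^ v ^^^ (a ^^^ v) ^^^ (b ^^^ v) = 0) : v = 0 := by
  have e : d ^^^ v ^^^ (a ^^^ v) ^^^ (b ^^^ v) = (d ^^^ a ^^^ b) ^^^ v := by
    simp [xor_assoc16, xor_left_comm16, Fin.xor_comm, xor_cancel_left16]
  rwa [e, h1, zero_xor16] at h2

theorem fixed_shift (u c a b : Fin 16) (h : c ^^^ u ^^^ a ^^^ b = 0) : c ^^^ b = u ^^^ a := by
  refine eq_of_xor _ _ (Eq.trans ?_ h)
  simp [xor_assoc16, xor_left_comm16, Fin.xor_comm]

theorem xor_pair (a b q : Fin 16) : a ^^^ q ^^^ (b ^^^ q) = a ^^^ b := by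
  simp [xor_assoc16, xor_left_comm16, Fin.xor_comm, xor_cancel_left16]

theorem xor_four (k a b p q : Fin 16) :
    k ^^^ (p ^^^ q) ^^^ (a ^^^ p ^^^ (b ^^^ q)) = k ^^^ (a ^^^ b) := by
  simp [xor_assoc16, xor_left_comm16, Fin.xor_comm, xor_cancel_left16]

theorem xor_split : ∀ k u : Fin 16, k = u ^^^ (k ^^^ u) := by decide +kernel

theorem not_small_xor : ∀ v s : Fin 16, 4 ≤ v.val → s.val < 4 → 4 ≤ (v ^^^ s).val := by
  decide +kernel

namespace Ctx

variable {G : Type u} [Group G] [Finite G] [IsSimpleGroup G] (T : Ctx G)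

/-- The central involution is not conjugate to an outer one. -/
def Two : Prop := ¬ IsConj T.F.z (T.e 4)

variable {T}

theorem not_conj_z_outer (h : T.Two) {u : G} (hu : T.Outer u) : ¬ IsConj T.F.z u := fun h' => by
  obtain ⟨c, -, e⟩ := hu
  exact h (h'.trans (isConj_iff.2 ⟨c, e⟩))

theorem small_iff (h : T.Two) {v : Fin 16} (hv : v ≠ 0) :
    IsConj T.F.z (T.e v) ↔ v.val < 4 :=
  ⟨fun h' => by
    by_contra hlt
    exact not_conj_z_outer h (T.outer_e (by omega)) h', T.conj_z_small hv⟩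

/-- The normaliser of `A` inside the centraliser of `e v`. -/
abbrev NA (T : Ctx G) (v : Fin 16) : Subgroup G :=
  normalizer (T.A : Set G) ⊓ centralizer ({T.e v} : Set G)

/-- The coordinates fixed by it. -/
def Vc (T : Ctx G) (v w : Fin 16) : Prop := ∀ n ∈ T.NA v, n * T.e w = T.e w * n

/-- It does not centralise `A`. -/
def Moves (T : Ctx G) (v : Fin 16) : Prop := ∃ n ∈ T.NA v, ∃ w, n * T.e w ≠ T.e w * n

theorem act_spec (n : ↥(normalizer (T.A : Set G))) (v : Fin 16) :
    T.e (T.F.eAct 0 n v) = (n : G) * T.e v * (n : G)⁻¹ := T.F.eAct_spec 0 n v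

theorem act_fix_iff (n : ↥(normalizer (T.A : Set G))) (v : Fin 16) :
    T.F.eAct 0 n v = v ↔ (n : G) * T.e v = T.e v * n := by
  refine ⟨fun h => ?_, fun h => T.e_inj ?_⟩
  · have := act_spec n v
    rw [h] at this
    exact (mul_inv_eq_iff_eq_mul.1 this.symm)
  · rw [act_spec, h, mul_inv_cancel_right]

theorem act_zero (n : ↥(normalizer (T.A : Set G))) : T.F.eAct 0 n 0 = 0 := by
  rw [act_fix_iff, T.e_zero, mul_one, one_mul]

theorem act_inj (n : ↥(normalizer (T.A : Set G))) {v w : Fin 16}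
    (h : T.F.eAct 0 n v = T.F.eAct 0 n w) : v = w := by
  have := congrArg (T.F.eAct 0 n⁻¹) h
  rwa [← T.F.eAct_mul, ← T.F.eAct_mul, inv_mul_cancel, T.F.eAct_one, T.F.eAct_one] at this

theorem act_small (h : T.Two) (n : ↥(normalizer (T.A : Set G))) {v : Fin 16} (hv : v.val < 4) :
    (T.F.eAct 0 n v).val < 4 := by
  by_cases hv0 : v = 0
  · rw [hv0, act_zero]; decide
  · refine (small_iff h fun e => hv0 (act_inj n (e.trans (act_zero n).symm))).1 ?_
    exact ((small_iff h hv0).2 hv).trans (isConj_iff.2 ⟨n, (act_spec n v).symm⟩)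

/-- An element normalising `A` permutes the three small coordinates cyclically or fixes one. -/
theorem cycle_or_fix (h : T.Two) (n : ↥(normalizer (T.A : Set G))) :
    (∃ w : Fin 16, w ≠ 0 ∧ w.val < 4 ∧ T.F.eAct 0 n w = w) ∨
      ((∀ w : Fin 16, w.val < 4 → T.F.eAct 0 n (T.F.eAct 0 n (T.F.eAct 0 n w)) = w) ∧
        ∀ w : Fin 16, w ≠ 0 → w.val < 4 → T.F.eAct 0 n w ≠ w) := by
  by_cases hf : ∃ w : Fin 16, w ≠ 0 ∧ w.val < 4 ∧ T.F.eAct 0 n w = w
  · exact Or.inl hf
  push Not at hf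
  refine Or.inr ⟨fun w hw => ?_, hf⟩
  by_cases hw0 : w = 0
  · rw [hw0, act_zero, act_zero, act_zero]
  set f := T.F.eAct 0 n with hf'
  have fx : ∀ a b, f (a ^^^ b) = f a ^^^ f b := T.F.eAct_xor 0 n
  have hne : ∀ u, u ≠ 0 → f u ≠ 0 := fun u hu e => hu (act_inj n (e.trans (act_zero n).symm))
  have h1 := hf w hw0 hw
  have s1 := act_small h n hw
  have h2 := hf (f w) (hne w hw0) s1
  have s2 := act_small h n s1
  have h3 : f (f w) ≠ w := by
    intro e
    have hthird : f (w ^^^ f w) = w ^^^ f w := by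
      rw [fx, e, Fin.xor_comm]
    refine hf _ (fun e0 => h1 (eq_of_xor _ _ e0).symm) (xor_small _ _ hw s1) hthird
  have h4 := hf (f (f w)) (hne _ (hne w hw0)) s2
  have s3 := act_small h n s2
  by_contra h5
  exact h5 (((small_third w (f w) (f (f w)) hw s1 s2 hw0 (hne w hw0) (hne _ (hne w hw0))
    (Ne.symm h1) (Ne.symm h2) (Ne.symm h3)) ▸ rfl : f (f (f w)) = f (w ^^^ f w)).trans (by
      rw [fx, Fin.xor_comm]
      exact small_third _ _ _ s2 s1 hw (hne _ (hne w hw0)) (hne w hw0) hw0 h2 h1 h3))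

theorem A_le_cent_e (v : Fin 16) : T.A ≤ centralizer ({T.e v} : Set G) :=
  T.A_le_cent (T.e_mem_A v)

theorem A_le_NA (v : Fin 16) : T.A ≤ T.NA v := le_inf le_normalizer (A_le_cent_e v)

/-- **`A` is a maximal 2-subgroup of `C(e v)`.** -/
theorem two_group_eq (h : T.Two) {v : Fin 16} (hv : 4 ≤ v.val) {R : Subgroup G}
    (hR : IsPGroup 2 R) (hAR : T.A ≤ R) (hRC : R ≤ centralizer ({T.e v} : Set G)) : R = T.A := by
  haveI : Fact (Nat.Prime 2) := ⟨Nat.prime_two⟩
  by_contra hne
  haveI := hR.isNilpotent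
  have hlt : T.A.subgroupOf R < ⊤ := lt_top_iff_ne_top.2 fun e =>
    hne (le_antisymm (subgroupOf_eq_top.1 e) hAR)
  obtain ⟨t, htn, htA⟩ := SetLike.exists_of_lt (Group.normalizerCondition_of_isNilpotent _ hlt)
  have htN : (t : G) ∈ normalizer (T.A : Set G) :=
    Invol.mem_normalizer_iff_of_finite fun x hx =>
      (mem_normalizer_iff.1 htn ⟨x, hAR hx⟩).1 hx
  obtain ⟨w, hw0, hw, hfix⟩ : ∃ w : Fin 16, w ≠ 0 ∧ w.val < 4 ∧ (t : G) * T.e w = T.e w * t := by
    rcases cycle_or_fix h ⟨t, htN⟩ with ⟨w, h1, h2, h3⟩ | ⟨h3, -⟩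
    · exact ⟨w, h1, h2, (act_fix_iff _ _).1 h3⟩
    refine ⟨1, by decide, by decide, ?_⟩
    have h3' := h3 1 (by decide)
    rw [← T.F.eAct_mul, ← T.F.eAct_mul, act_fix_iff] at h3'
    obtain ⟨k, hk⟩ := hR t
    have hk' : (t : G) ^ 2 ^ k = 1 := by simpa using congrArg Subtype.val hk
    obtain ⟨m, hm⟩ := exists_pow_eq_self_of_coprime (n := 3) (x := (t : G))
      (Nat.Coprime.of_dvd_right (orderOf_dvd_of_pow_eq_one hk')
        (Nat.Coprime.pow_right k (by norm_num)))
    have hmem : (t : G) ^ 3 ∈ centralizer ({T.e 1} : Set G) :=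
      mem_centralizer_singleton_iff.2 (by rw [pow_succ, pow_two]; exact h3')
    have := pow_mem hmem m
    rw [hm] at this
    exact mem_centralizer_singleton_iff.1 this
  obtain ⟨g, hg⟩ := isConj_iff.1 (T.conj_z_small hw0 hw).symm
  set R1 := R ⊓ centralizer ({T.e w} : Set G) with hR1
  have hgC : ∀ x : G, x * T.e w = T.e w * x → g * x * g⁻¹ ∈ T.C := fun x hx =>
    mem_centralizer_singleton_iff.2 (by
      rw [← hg]
      calc g * x * g⁻¹ * (g * T.e w * g⁻¹) = g * (x * T.e w) * g⁻¹ := by group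
        _ = g * (T.e w * x) * g⁻¹ := by rw [hx]
        _ = g * T.e w * g⁻¹ * (g * x * g⁻¹) := by group)
  have hout : T.Outer (g * T.e v * g⁻¹) := by
    have hn : ¬ IsConj T.F.z (g * T.e v * g⁻¹) := fun h' =>
      not_conj_z_outer h (T.outer_e hv) (h'.trans (isConj_iff.2 ⟨g⁻¹, by group⟩))
    rcases T.classes (hgC _ (T.e_comm v w))
      (by rw [Invol.orderOf_conj_eq, T.order_e fun e => by simp [e] at hv]) with e | e | e
    · exact absurd (by rw [e]) hn
    · exact absurd (T.conj_z_inner e) hn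
    · exact e
  have hcard := T.card_le_of_outer (R := R1.map (MulAut.conj g).toMonoidHom)
    ((hR.to_le inf_le_left).map _) (by
      rintro _ ⟨x, hx, rfl⟩
      simpa using hgC x (mem_centralizer_singleton_iff.1 hx.2)) hout (by
      rintro _ ⟨x, hx, rfl⟩
      refine mem_centralizer_singleton_iff.2 ?_
      simp only [MulEquiv.coe_toMonoidHom, MulAut.conj_apply]
      calc g * x * g⁻¹ * (g * T.e v * g⁻¹) = g * (x * T.e v) * g⁻¹ := by group
        _ = g * (T.e v * x) * g⁻¹ := by rw [mem_centralizer_singleton_iff.1 (hRC hx.1)]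
        _ = g * T.e v * g⁻¹ * (g * x * g⁻¹) := by group)
  rw [card_map_of_injective (MulAut.conj g).injective] at hcard
  have hle : T.A ≤ R1 := le_inf hAR (A_le_cent_e w)
  have heq : T.A = R1 := eq_of_le_of_card_ge hle (by rw [T.card_A]; exact hcard)
  exact htA (mem_subgroupOf.2 (heq ▸ mem_inf.2 ⟨t.2, mem_centralizer_singleton_iff.2 hfix⟩))

/-- `A` as a Sylow subgroup of `C(e v)`. -/
theorem exists_sylow (h : T.Two) {v : Fin 16} (hv : 4 ≤ v.val) :
    ∃ P : Sylow 2 ↥(centralizer ({T.e v} : Set G)),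
      (P : Subgroup ↥(centralizer ({T.e v} : Set G))) =
        T.A.subgroupOf (centralizer ({T.e v} : Set G)) := by
  haveI : Fact (Nat.Prime 2) := ⟨Nat.prime_two⟩
  have hA2 : IsPGroup 2 (T.A.subgroupOf (centralizer ({T.e v} : Set G))) :=
    (T.S.2.to_le (T.F.sub_le _)).comap_of_injective _ (Subgroup.subtype_injective _)
  obtain ⟨P, hP⟩ := hA2.exists_le_sylow
  refine ⟨P, ?_⟩
  have e := two_group_eq h hv
    (R := (P : Subgroup ↥(centralizer ({T.e v} : Set G))).map (Subgroup.subtype _)) (P.2.map _)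
    (fun x hx => ⟨⟨x, A_le_cent_e v hx⟩, hP hx, rfl⟩) (map_subtype_le _)
  exact (comap_map_eq_self_of_injective (Subgroup.subtype_injective _) _).symm.trans
    (congrArg (comap (Subgroup.subtype _)) e)

theorem exists_odd_pow (h : T.Two) {v : Fin 16} (hv : 4 ≤ v.val) {n : G} (hn : n ∈ T.NA v) :
    ∃ m, Odd m ∧ n ^ m ∈ T.A := by
  haveI : Fact (Nat.Prime 2) := ⟨Nat.prime_two⟩
  obtain ⟨m, hm, hp⟩ := Invol.exists_odd_pow n
  refine ⟨m, hm, ?_⟩
  have hmem := pow_mem hn m
  rw [← two_group_eq h hv (R := T.A ⊔ zpowers (n ^ m))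
    (IsPGroup.to_sup_of_normal_left' (T.S.2.to_le (T.F.sub_le _)) hp (zpowers_le.2 hmem.1))
    le_sup_left (sup_le (A_le_cent_e v) (zpowers_le.2 hmem.2))]
  exact mem_sup_right (mem_zpowers _)

theorem act_pow (n : ↥(normalizer (T.A : Set G))) {w : Fin 16} (hw : T.F.eAct 0 n w = w) (k : ℕ) :
    T.F.eAct 0 (n ^ k) w = w := by
  induction k with
  | zero => rw [pow_zero, T.F.eAct_one]
  | succ k ih => rw [pow_succ, T.F.eAct_mul, hw, ih]

/-- An element of `N_{C(e v)}(A)` centralises `A` or acts with order three. -/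
theorem dichotomy (h : T.Two) {v : Fin 16} (hv : 4 ≤ v.val) (n : ↥(normalizer (T.A : Set G)))
    (hn : (n : G) * T.e v = T.e v * n) :
    (∀ w, T.F.eAct 0 n w = w) ∨
      ((∀ w : Fin 16, w ≠ 0 → w.val < 4 → T.F.eAct 0 n w ≠ w) ∧
        ∀ w, T.F.eAct 0 n (T.F.eAct 0 n (T.F.eAct 0 n w)) = w) := by
  set f := T.F.eAct 0 n with hf'
  have key : ∀ k : ↥(normalizer (T.A : Set G)), (k : G) * T.e v = T.e v * k →
      (∀ w : Fin 16, w.val < 4 → T.F.eAct 0 k w = w) → ∀ w, T.F.eAct 0 k w = w := by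
    intro k hk hs w
    obtain ⟨m, hm, hmA⟩ := exists_odd_pow h hv (n := (k : G))
      ⟨k.2, mem_centralizer_singleton_iff.2 hk⟩
    have hKfix : ∀ u, inK v u = true → T.F.eAct 0 k u = u := by
      intro u hu
      simp only [inK, Bool.or_eq_true, decide_eq_true_eq] at hu
      rcases hu with hu | hu
      · exact hs u hu
      · conv_lhs => rw [show u = u ^^^ v ^^^ v from (xor_xor_cancel u v).symm]
        rw [T.F.eAct_xor, hs _ hu, (act_fix_iff k v).2 hk, xor_xor_cancel]
    by_cases hwK : inK v w = true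
    · exact hKfix w hwK
    have h2 : T.F.eAct 0 k (T.F.eAct 0 k w) = w := by
      have hd : inK v (T.F.eAct 0 k w ^^^ w) = true := by
        refine (((inK_spec v w (T.F.eAct 0 k w) hv).resolve_left hwK).resolve_left fun hK => hwK ?_)
        have := act_inj k (hKfix _ hK)
        rwa [this] at hK
      have h' := hKfix _ hd
      rw [T.F.eAct_xor] at h'
      have := congrArg (fun a => a ^^^ T.F.eAct 0 k w) h'
      simp only [xor_xor_cancel] at this
      rw [this, Fin.xor_comm (T.F.eAct 0 k w) w, xor_xor_cancel]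
    obtain ⟨j, rfl⟩ := hm
    have hm1 : T.F.eAct 0 (k ^ (2 * j + 1)) w = w := by
      refine (act_fix_iff _ _).2 ?_
      rw [SubmonoidClass.coe_pow]
      exact T.A_comm _ hmA _ (T.e_mem_A w)
    have h2' : ∀ i, T.F.eAct 0 (k ^ (2 * i + 1)) w = T.F.eAct 0 k w := by
      intro i
      induction i with
      | zero => simp
      | succ i ih =>
        rw [show 2 * (i + 1) + 1 = 2 * i + 1 + 2 by ring, pow_add, pow_two, T.F.eAct_mul,
          T.F.eAct_mul, h2, ih]
    rw [← h2' j, hm1]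
  rcases cycle_or_fix h n with ⟨w₀, h0, hw₀, hfix⟩ | ⟨h3, hmove⟩
  · refine Or.inl (key n hn fun w hw => ?_)
    by_cases hww : w = 0
    · rw [hww]; exact act_zero n
    by_contra hne
    have s1 := act_small h n hw
    have n1 : f w ≠ 0 := fun e => hww (act_inj n (e.trans (act_zero n).symm))
    have n2 : f w ≠ w₀ := fun e => hne (by rw [act_inj n (e.trans hfix.symm)]; exact hfix)
    have e1 : w ^^^ w₀ = f w := small_third _ _ _ hw hw₀ s1 hww h0 n1
      (fun e => hne (e ▸ hfix)) (Ne.symm n2) (Ne.symm hne)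
    have h2 : f (f w) = w := by
      rw [← e1, hf', T.F.eAct_xor, hfix, ← hf', ← e1, xor_xor_cancel]
    obtain ⟨m, hm, hmA⟩ := exists_odd_pow h hv (n := (n : G))
      ⟨n.2, mem_centralizer_singleton_iff.2 hn⟩
    obtain ⟨j, rfl⟩ := hm
    have hm1 : T.F.eAct 0 (n ^ (2 * j + 1)) w = w := by
      refine (act_fix_iff _ _).2 ?_
      rw [SubmonoidClass.coe_pow]
      exact T.A_comm _ hmA _ (T.e_mem_A w)
    have h2' : ∀ i, T.F.eAct 0 (n ^ (2 * i + 1)) w = f w := by
      intro i
      induction i with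
      | zero => rw [mul_zero, zero_add, pow_one]
      | succ i ih =>
        rw [show 2 * (i + 1) + 1 = 2 * i + 1 + 2 by ring, pow_add, pow_two, T.F.eAct_mul,
          T.F.eAct_mul]
        show T.F.eAct 0 (n ^ (2 * i + 1)) (f (f w)) = f w
        rw [h2, ih]
    exact hne ((h2' j).symm.trans hm1)
  · refine Or.inr ⟨hmove, fun w => ?_⟩
    rw [hf', ← T.F.eAct_mul, ← T.F.eAct_mul]
    refine key (n * n * n) ?_ (fun u hu => ?_) w
    · refine (act_fix_iff _ _).1 ?_
      rw [T.F.eAct_mul, T.F.eAct_mul]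
      have := (act_fix_iff n v).2 hn
      simp only [this]
    · rw [T.F.eAct_mul, T.F.eAct_mul]
      exact h3 u hu

/-- One moving element determines the fixed coordinates. -/
theorem vc_iff (h : T.Two) {v : Fin 16} (hv : 4 ≤ v.val) {n : G} (hn : n ∈ T.NA v)
    (hmv : ∃ w, n * T.e w ≠ T.e w * n) {w : Fin 16} :
    T.Vc v w ↔ n * T.e w = T.e w * n := by
  refine ⟨fun hw => hw n hn, fun hw m hm => ?_⟩
  let n' : ↥(normalizer (T.A : Set G)) := ⟨n, hn.1⟩
  let m' : ↥(normalizer (T.A : Set G)) := ⟨m, hm.1⟩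
  have hnv : (n' : G) * T.e v = T.e v * n' := mem_centralizer_singleton_iff.1 hn.2
  have hmv' : (m' : G) * T.e v = T.e v * m' := mem_centralizer_singleton_iff.1 hm.2
  obtain ⟨hmove, h3⟩ := (dichotomy h hv n' hnv).resolve_left fun h1 =>
    hmv.elim fun u hu => hu ((act_fix_iff n' u).1 (h1 u))
  set f := T.F.eAct 0 n' with hf
  -- some power of `n` agrees with `m` at the first coordinate
  have hs : ∀ i, (T.F.eAct 0 (n' ^ i) 1).val < 4 := fun i => act_small h _ (by decide)
  have hn1 : T.F.eAct 0 (n' ^ 1) 1 = f 1 := by rw [pow_one]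
  have hn2 : T.F.eAct 0 (n' ^ 2) 1 = f (f 1) := by rw [pow_two, T.F.eAct_mul]
  obtain ⟨i, hi⟩ : ∃ i, T.F.eAct 0 m' 1 = T.F.eAct 0 (n' ^ i) 1 := by
    have hm1 : T.F.eAct 0 m' 1 ≠ 0 := fun e => by
      have := act_inj m' (e.trans (act_zero m').symm)
      exact absurd this (by decide)
    have hf0 : f 1 ≠ 0 := fun e => by
      have := act_inj n' (e.trans (act_zero n').symm)
      exact absurd this (by decide)
    have hf1 := hmove 1 (by decide) (by decide)
    have ha : f 1 ≠ (1 : Fin 16) := hf1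
    rcases small_cover 1 (f 1) (T.F.eAct 0 m' 1) (by decide) (act_small h n' (by decide))
      (act_small h m' (by decide)) (by decide) hf0 (Ne.symm ha) with e | e | e | e
    · exact absurd e hm1
    · exact ⟨0, by rw [e, pow_zero, T.F.eAct_one]⟩
    · exact ⟨1, by rw [e, hn1]⟩
    · refine ⟨2, ?_⟩
      rw [e, hn2]
      refine small_third _ _ _ (by decide) (act_small h n' (by decide))
        (act_small h n' (act_small h n' (by decide))) (by decide) hf0 ?_ (Ne.symm ha) ?_ ?_
      · exact fun e => hf0 (act_inj n' (e.trans (act_zero n').symm))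
      · exact fun e => ha (act_inj n' e).symm
      · intro e
        have e' := congrArg f e
        have h31 : f (f (f 1)) = 1 := h3 1
        rw [h31] at e'
        exact ha e'
  have hwi : T.F.eAct 0 (n' ^ i) w = w := act_pow n' ((act_fix_iff n' w).2 hw) i
  have hvi : T.F.eAct 0 (n' ^ i) v = v := act_pow n' ((act_fix_iff n' v).2 hnv) i
  set k := (n' ^ i)⁻¹ * m' with hk
  have hkv : (k : G) * T.e v = T.e v * k := by
    refine (act_fix_iff k v).1 (act_inj (n' ^ i) ?_)
    rw [← T.F.eAct_mul, hk, mul_inv_cancel_left, (act_fix_iff m' v).2 hmv', hvi]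
  have hk1 : T.F.eAct 0 k 1 = 1 := by
    refine act_inj (n' ^ i) ?_
    rw [← T.F.eAct_mul, hk, mul_inv_cancel_left, hi]
  rcases dichotomy h hv k hkv with h1 | ⟨h1, -⟩
  · refine (act_fix_iff m' w).1 ?_
    have := congrArg (T.F.eAct 0 (n' ^ i)) (h1 w)
    rwa [← T.F.eAct_mul, hk, mul_inv_cancel_left, hwi] at this
  · exact absurd hk1 (h1 1 (by decide) (by decide))

theorem vc_self (v : Fin 16) : T.Vc v v := fun _ hn => mem_centralizer_singleton_iff.1 hn.2

theorem vc_zero (v : Fin 16) : T.Vc v 0 := fun n _ => by rw [T.e_zero, mul_one, one_mul]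

theorem vc_xor {v a b : Fin 16} (ha : T.Vc v a) (hb : T.Vc v b) : T.Vc v (a ^^^ b) := fun n hn => by
  rw [← T.e_mul, ← mul_assoc, ha n hn, mul_assoc, hb n hn, ← mul_assoc]

section Moving

variable (h : T.Two) {v : Fin 16} (hv : 4 ≤ v.val) (hm : T.Moves v)
include h hv hm

theorem vc_small {w : Fin 16} (hw : T.Vc v w) (hs : w.val < 4) : w = 0 := by
  obtain ⟨n, hn, hmv⟩ := hm
  by_contra h0
  obtain ⟨hmove, -⟩ := (dichotomy h hv ⟨n, hn.1⟩ (mem_centralizer_singleton_iff.1 hn.2)).resolve_left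
    fun h1 => hmv.elim fun u hu => hu ((act_fix_iff _ u).1 (h1 u))
  exact hmove w h0 hs ((act_fix_iff _ w).2 (hw n hn))

theorem vc_coset (u : Fin 16) : ∃ w : Fin 16, w.val < 4 ∧ T.Vc v (u ^^^ w) := by
  obtain ⟨n, hn, hmv⟩ := hm
  let n' : ↥(normalizer (T.A : Set G)) := ⟨n, hn.1⟩
  have hnv := (act_fix_iff n' v).2 (mem_centralizer_singleton_iff.1 hn.2)
  obtain ⟨hmove, h3⟩ := (dichotomy h hv n' (mem_centralizer_singleton_iff.1 hn.2)).resolve_left
    fun h1 => hmv.elim fun u hu => hu ((act_fix_iff _ u).1 (h1 u))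
  set f := T.F.eAct 0 n' with hf
  have fx : ∀ a b, f (a ^^^ b) = f a ^^^ f b := T.F.eAct_xor 0 n'
  set d := f u ^^^ u with hd
  have hcyc : ∀ s : Fin 16, s.val < 4 → s ^^^ f s ^^^ f (f s) = 0 := by
    intro s hs
    by_cases hs0 : s = 0
    · subst hs0
      rw [show f 0 = 0 from act_zero n', show f 0 = 0 from act_zero n']
      decide
    have n1 : f s ≠ 0 := fun e => hs0 (act_inj n' (e.trans (act_zero n').symm))
    have n2 : f (f s) ≠ 0 := fun e => n1 (act_inj n' (e.trans (act_zero n').symm))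
    rw [small_third s (f s) (f (f s)) hs (act_small h n' hs) (act_small h n' (act_small h n' hs))
      hs0 n1 n2 (Ne.symm (hmove s hs0 hs)) (Ne.symm (hmove _ n1 (act_small h n' hs)))
      (fun e => hmove s hs0 hs (by
        have e' := congrArg f e
        rw [h3] at e'
        exact e'))]
    simp
  have h3u : d ^^^ f d ^^^ f (f d) = 0 := by
    rw [hd, fx, fx, h3 u]
    exact xor_three u (f u) (f (f u))
  have hds : d.val < 4 := by
    have hdK : inK v d = true := by
      by_cases hu : inK v u = true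
      · have : inK v (f u) = true := by
          simp only [inK, Bool.or_eq_true, decide_eq_true_eq] at hu ⊢
          rcases hu with hu | hu
          · exact Or.inl (act_small h n' hu)
          · right
            rw [show f u ^^^ v = f (u ^^^ v) by rw [fx, hnv]]
            exact act_small h n' hu
        exact inK_xor v u (f u) hu this
      · refine ((inK_spec v u (f u) hv).resolve_left hu).resolve_left fun hK => hu ?_
        simp only [inK, Bool.or_eq_true, decide_eq_true_eq] at hK ⊢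
        have hinv : ∀ a : Fin 16, (f a).val < 4 → a.val < 4 := fun a ha => by
          rw [← h3 a]; exact act_small h n' (act_small h n' ha)
        rcases hK with hK | hK
        · exact Or.inl (hinv u hK)
        · exact Or.inr (hinv _ (by rw [fx, hnv]; exact hK))
    simp only [inK, Bool.or_eq_true, decide_eq_true_eq] at hdK
    rcases hdK with hdK | hdK
    · exact hdK
    exfalso
    have hsv := hcyc _ hdK
    have hv0 : v = 0 := eq_zero_of_shift d (f d) (f (f d)) v h3u (by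
      rwa [fx d v, show f v = v from hnv, fx (f d) v, show f v = v from hnv] at hsv)
    rw [hv0] at hv
    simp at hv
  refine ⟨f d, act_small h n' hds, (vc_iff h hv hn hmv).2 ((act_fix_iff n' _).1 ?_)⟩
  show f (u ^^^ f d) = u ^^^ f d
  rw [fx]
  exact fixed_shift u (f u) (f d) (f (f d)) h3u

/-- The fixed four-group is the same for each of its involutions. -/
theorem vc_eq {f : Fin 16} (hf : T.Vc v f) (hf0 : f ≠ 0) :
    4 ≤ f.val ∧ T.Moves f ∧ ∀ w, T.Vc f w ↔ T.Vc v w := by
  have hf4 : 4 ≤ f.val := by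
    by_contra hlt
    exact hf0 (vc_small h hv hm hf (by omega))
  obtain ⟨n, hn, hmv⟩ := hm
  have hnf : n ∈ T.NA f := ⟨hn.1, mem_centralizer_singleton_iff.2 (hf n hn)⟩
  exact ⟨hf4, ⟨n, hnf, hmv⟩, fun w => (vc_iff h hf4 hnf hmv).trans (vc_iff h hv hn hmv).symm⟩

/-- The fixed involutions are isolated in `C(e v)` modulo the core. -/
theorem comm_mem_core {f : Fin 16} (hf : T.Vc v f) {g : G}
    (hg : g ∈ centralizer ({T.e v} : Set G)) :
    T.e f * g * (T.e f)⁻¹ * g⁻¹ ∈ Cfsg.centralizerPPrimeCore 2 (T.e v) := by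
  haveI : Fact (Nat.Prime 2) := ⟨Nat.prime_two⟩
  by_cases hf0 : f = 0
  · subst hf0
    rw [T.e_zero, one_mul, inv_one, mul_one, mul_inv_cancel]
    exact one_mem _
  obtain ⟨P, hP⟩ := exists_sylow h hv
  haveI : IsMulCommutative (P : Subgroup ↥(centralizer ({T.e v} : Set G))) := by
    rw [hP]
    exact ⟨⟨fun a b => Subtype.ext (Subtype.ext (T.A_comm _ a.2 _ b.2))⟩⟩
  let f' : ↥(centralizer ({T.e v} : Set G)) := ⟨T.e f, A_le_cent_e v (T.e_mem_A f)⟩
  have hf' : orderOf f' = 2 := by rw [← orderOf_coe]; exact T.order_e hf0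
  have hfP : f' ∈ (P : Subgroup ↥(centralizer ({T.e v} : Set G))) := hP ▸ T.e_mem_A f
  have hiso : Cfsg.IsIsolatedInvolution f' := Invol.isolated_of_sylow P hf' hfP fun c hc => by
    obtain ⟨m, hmN, e⟩ := Transfer.abelian_sylow_controls P f' hfP c hc
    rw [← e]
    have hmN' : (m : G) ∈ T.NA v := by
      refine ⟨Invol.mem_normalizer_iff_of_finite fun x hx => ?_, m.2⟩
      rw [hP] at hmN
      exact (mem_normalizer_iff.1 hmN ⟨x, A_le_cent_e v hx⟩).1 hx
    refine Subtype.ext ?_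
    show (m : G) * T.e f * (m : G)⁻¹ = T.e f
    rw [hf _ hmN', mul_inv_cancel_right]
  exact mem_core_iff.2 ⟨_, Invol.zstar _ hiso ⟨g, hg⟩⟩

/-- A representative commuting with a fixed involution. -/
theorem exists_comm {f : Fin 16} (hf : T.Vc v f) {g : G}
    (hg : g ∈ centralizer ({T.e v} : Set G)) :
    ∃ m ∈ Cfsg.centralizerPPrimeCore 2 (T.e v), T.e f * (g * m) = g * m * T.e f := by
  refine exists_fixed_coset (odd_core _) (T.e_sq f) ?_
  have h1 := core_conj_self (inv_mem hg) (comm_mem_core h hv hm hf hg)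
  rw [inv_inv, inv_eq_of_mul_eq_one_right (T.e_sq f)] at h1
  simpa [mul_assoc] using h1

/-- Balance inside a fixed four-group. -/
theorem core_inf_le_of_vc {f : Fin 16} (hf : T.Vc v f) :
    Cfsg.centralizerPPrimeCore 2 (T.e f) ⊓ centralizer ({T.e v} : Set G) ≤
      Cfsg.centralizerPPrimeCore 2 (T.e v) := by
  set O := Cfsg.centralizerPPrimeCore 2 (T.e v)
  set K := Cfsg.centralizerPPrimeCore 2 (T.e f) ⊓ centralizer ({T.e v} : Set G)
  have hKO : K ≤ normalizer (O : Set G) := fun k hk =>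
    Invol.mem_normalizer_iff_of_finite fun x hx => core_conj_self hk.2 hx
  refine le_sup_right.trans (le_core (K := O ⊔ K) (sup_le (core_le _) inf_le_right) (fun g hg => ?_)
    (Odd.of_dvd_nat (Odd.mul (odd_core _) ((odd_core (T.e f)).of_dvd_nat
      (card_dvd_of_le (inf_le_left (b := centralizer ({T.e v} : Set G))))))
      (Comp.card_sup_dvd_mul hKO)))
  obtain ⟨m, hm', hgm⟩ := exists_comm h hv hm hf hg
  have hgmC : g * m ∈ centralizer ({T.e v} : Set G) := mul_mem hg (core_le _ hm')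
  have h1 : g * m ∈ normalizer ((O ⊔ K : Subgroup G) : Set G) := by
    refine Invol.mem_normalizer_iff_of_finite fun x hx => ?_
    have hle : O ⊔ K ≤ (O ⊔ K).comap (MulAut.conj (g * m)).toMonoidHom := by
      refine sup_le (fun o ho => mem_sup_left ?_) (fun k hk => mem_sup_right ⟨?_, ?_⟩)
      · simpa [mul_assoc] using core_conj_self hgmC ho
      · simpa [mul_assoc] using core_conj_self (a := T.e f) (mem_centralizer_singleton_iff.2 hgm.symm) hk.1
      · simpa [mul_assoc] using mul_mem (mul_mem hgmC hk.2) (inv_mem hgmC)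
    simpa [mul_assoc] using hle hx
  have h2 : m⁻¹ ∈ normalizer ((O ⊔ K : Subgroup G) : Set G) :=
    le_normalizer (mem_sup_left (inv_mem hm'))
  simpa using mul_mem h1 h2

/-- An element commuting with a four-group that avoids the fixed one and inverted by an element of
`A` lies in the core. -/
theorem mem_core_of_inverted {y : G} (hy : y ∈ centralizer ({T.e v} : Set G))
    (hodd : Odd (orderOf y)) {a b : Fin 16} (ha : ¬ T.Vc v a) (hb : ¬ T.Vc v b)
    (hab : ¬ T.Vc v (a ^^^ b)) (hay : T.e a * y = y * T.e a) (hby : T.e b * y = y * T.e b)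
    {k : Fin 16} (hk : T.e k * y * T.e k = y⁻¹) :
    y ∈ Cfsg.centralizerPPrimeCore 2 (T.e v) := by
  set O := Cfsg.centralizerPPrimeCore 2 (T.e v)
  obtain ⟨p, hp, hp'⟩ := vc_coset h hv hm a
  obtain ⟨q, hq, hq'⟩ := vc_coset h hv hm b
  obtain ⟨r, hr, hr'⟩ := vc_coset h hv hm k
  have hp0 : p ≠ 0 := fun e => ha (by rwa [e, Fin.xor_zero] at hp')
  have hq0 : q ≠ 0 := fun e => hb (by rwa [e, Fin.xor_zero] at hq')
  have hpq : p ≠ q := fun e => hab (by
    have := vc_xor hp' hq'
    rw [e] at this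
    rwa [xor_pair] at this)
  obtain ⟨hh, hhy, hhf⟩ : ∃ u : Fin 16, T.e u * y = y * T.e u ∧ T.Vc v (k ^^^ u) := by
    rcases small_cover p q r hp hq hr hp0 hq0 hpq with e | e | e | e
    · exact ⟨0, by rw [T.e_zero, one_mul, mul_one], by rw [e] at hr'; exact hr'⟩
    · refine ⟨a, hay, ?_⟩
      have := vc_xor hr' hp'
      rwa [e, xor_pair] at this
    · refine ⟨b, hby, ?_⟩
      have := vc_xor hr' hq'
      rwa [e, xor_pair] at this
    · refine ⟨a ^^^ b, ?_, ?_⟩
      · rw [← T.e_mul, mul_assoc, hby, ← mul_assoc, hay, mul_assoc]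
      · have := vc_xor hr' (vc_xor hp' hq')
        rwa [e, xor_four] at this
  set f := k ^^^ hh with hfdef
  have hk' : k = hh ^^^ f := xor_split k hh
  have hc := comm_mem_core h hv hm hhf hy
  rw [inv_eq_of_mul_eq_one_right (T.e_sq f)] at hc
  have hhC : T.e hh ∈ centralizer ({T.e v} : Set G) := A_le_cent_e v (T.e_mem_A hh)
  have h2 := core_conj_self hhC hc
  rw [inv_eq_of_mul_eq_one_right (T.e_sq hh)] at h2
  have e : T.e hh * (T.e f * y * T.e f * y⁻¹) * T.e hh = T.e k * y * T.e k * y⁻¹ := by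
    have e1 : y⁻¹ * T.e hh = T.e hh * y⁻¹ := by
      rw [inv_mul_eq_iff_eq_mul, ← mul_assoc, ← hhy]; group
    calc T.e hh * (T.e f * y * T.e f * y⁻¹) * T.e hh
        = T.e hh * T.e f * y * T.e f * (y⁻¹ * T.e hh) := by group
      _ = T.e hh * T.e f * y * (T.e f * T.e hh) * y⁻¹ := by rw [e1]; group
      _ = T.e k * y * T.e k * y⁻¹ := by rw [T.e_comm f hh, T.e_mul, ← hk']
  rw [e, hk] at h2
  exact mem_of_sq_of_odd hodd (by simpa using inv_mem h2)

end Moving

/-- Without moving elements the centraliser is `A` times its core. -/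
theorem split_of_not_moves (h : T.Two) {v : Fin 16} (hv : 4 ≤ v.val) (hm : ¬ T.Moves v) {g : G}
    (hg : g ∈ centralizer ({T.e v} : Set G)) :
    ∃ a ∈ T.A, a⁻¹ * g ∈ Cfsg.centralizerPPrimeCore 2 (T.e v) := by
  obtain ⟨P, hP⟩ := exists_sylow h hv
  obtain ⟨w, hw, o, ho, e⟩ := SylAltEight.exists_eq_mul_oddCore P (fun n hn => by
    rw [hP] at hn ⊢
    have hn' : (n : G) ∈ T.NA v := ⟨Invol.mem_normalizer_iff_of_finite fun x hx =>
      (mem_normalizer_iff.1 hn ⟨x, A_le_cent_e v hx⟩).1 hx, n.2⟩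
    refine mem_centralizer_iff.2 fun x hx => Subtype.ext ?_
    obtain ⟨w, hw⟩ := T.mem_A.1 hx
    change T.e w = (x : G) at hw
    show (x : G) * (n : G) = (n : G) * x
    rw [← hw]
    by_contra hne
    exact hm ⟨n, hn', w, fun e => hne e.symm⟩) ⟨g, hg⟩
  rw [hP] at hw
  refine ⟨w, hw, mem_core_iff.2 ⟨mul_mem (inv_mem w.2) hg, ?_⟩⟩
  have : (⟨(w : G)⁻¹ * g, mul_mem (inv_mem w.2) hg⟩ : ↥(centralizer ({T.e v} : Set G))) = o := by
    rw [show o = w⁻¹ * ⟨g, hg⟩ by rw [e, inv_mul_cancel_left]]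
    rfl
  rw [this]
  exact ho

end Ctx

end CfsgLib.SylJanko
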