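import Cfsg.Agent.Lib.SylJanko.Complement

/-!
Two such extensions are isomorphic: the complements act on the representatives by signed
permutations, and two signed actions differ by a coboundary.
-/

set_option autoImplicit false
set_option maxRecDepth 100000
set_option linter.style.haveILetI false

namespace CfsgLib.SylJanko

open Subgroup Equiv

universe u v

/-- The image of a representative under a sign. -/
def sgn (i : Fin 5) (b : Bool) : ℕ := if b then mt (rep i) zIdx else rep i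

/-- The product of the five images. -/
def prod5 (σ : Perm (Fin 5)) (f : Fin 5 → Bool) : ℕ :=
  mt (mt (mt (mt (sgn (σ 0) (f 0)) (sgn (σ 1) (f 1))) (sgn (σ 2) (f 2))) (sgn (σ 3) (f 3)))
    (sgn (σ 4) (f 4))

/-- The parity of five bits. -/
def par (f : Fin 5 → Bool) : Bool := f 0 ^^ f 1 ^^ f 2 ^^ f 3 ^^ f 4

theorem prod5_par : ∀ σ : Perm (Fin 5), ∀ f : Fin 5 → Bool,
    prod5 σ f = if par f then mt (prod5 σ fun _ => false) zIdx else prod5 σ fun _ => false := by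
  decide +kernel

theorem prod5_ne : ∀ σ : Perm (Fin 5),
    mt (prod5 σ fun _ => false) zIdx ≠ prod5 σ fun _ => false := by decide +kernel

theorem prod5_one : prod5 1 (fun _ => false) = 0 ∨ prod5 1 (fun _ => false) = zIdx := by
  decide +kernel

theorem prod5_inj {σ : Perm (Fin 5)} {f g : Fin 5 → Bool} (h : prod5 σ f = prod5 σ g) :
    par f = par g := by
  rw [prod5_par σ f, prod5_par σ g] at h
  cases hf : par f <;> cases hg : par g <;> rw [hf, hg] at h <;> simp only [reduceCtorEq] <;>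
    simp only [if_true, if_false, Bool.false_eq_true] at h
  · exact prod5_ne σ h.symm
  · exact prod5_ne σ h

/-- A permutation with a vector of bits. -/
abbrev SP := Perm (Fin 5) × (Fin 5 → Bool)

/-- Composition. -/
def pm (P Q : SP) : SP := (P.1 * Q.1, fun i => P.2 (Q.1 i) ^^ Q.2 i)

/-- Powers. -/
def pp (P : SP) : ℕ → SP
  | 0 => (1, fun _ => false)
  | n + 1 => pm (pp P n) P

/-- A vector of even parity. -/
def ev (k : Fin 16) (i : Fin 5) : Bool :=
  if (i : ℕ) < 4 then (k : ℕ).testBit i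
  else (k : ℕ).testBit 0 ^^ (k : ℕ).testBit 1 ^^ (k : ℕ).testBit 2 ^^ (k : ℕ).testBit 3

theorem exists_ev : ∀ f : Fin 5 → Bool, par f = false → ∃ k, ∀ i, ev k i = f i := by decide +kernel

/-- The first generator. -/
def g1 : Perm (Fin 5) := swap 0 3 * swap 1 2

/-- The second generator. -/
def g2 : Perm (Fin 5) := swap 0 2 * swap 1 3

/-- The third generator. -/
def g3 : Perm (Fin 5) := swap 2 4 * swap 2 3

/-- The relators. -/
def rels {α : Type} (m : α → α → α) (a b c : α) : List (α × ℕ) :=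
  [(a, 2), (b, 2), (m a b, 2), (c, 3), (m a c, 5), (m b c, 5), (m (m a b) c, 2), (m (m a c) b, 2)]

theorem rels_perm : ∀ x ∈ rels (· * ·) g1 g2 g3, x.1 ^ x.2 = 1 := by decide +kernel

theorem cocycle_cob : ∀ a b c : Fin 16,
    ((rels pm (g1, ev a) (g2, ev b) (g3, ev c)).all fun x =>
      (List.finRange 5).all fun i => !(pp x.1 x.2).2 i) = true →
    ∃ k : Fin 16, ∀ i, (ev a i = (ev k i ^^ ev k (g1 i))) ∧ (ev b i = (ev k i ^^ ev k (g2 i))) ∧
      (ev c i = (ev k i ^^ ev k (g3 i))) := by decide +kernel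

theorem ev_induced : ∀ k : Fin 16, ((List.range 128).any fun c => mem qMask c &&
    (List.finRange 5).all fun i => Nat.beq (cj c (rep i)) (sgn i (ev k i))) = true := by
  decide +kernel

theorem sgn_lt (i : Fin 5) (b : Bool) : sgn i b < 128 := by
  cases b
  · exact rep_lt i
  · exact mt_lt _ _

theorem sgn_inj : ∀ i : Fin 5, ∀ b c : Bool, sgn i b = sgn i c → b = c := by decide +kernel

theorem gens_mem_alternating :
    ∀ g ∈ ([g1, g2, g3] : List (Perm (Fin 5))), g ∈ alternatingGroup (Fin 5) := by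
  intro g hg
  simp only [List.mem_cons, List.not_mem_nil, or_false] at hg
  rcases hg with rfl | rfl | rfl <;> (rw [Perm.mem_alternatingGroup]; decide +kernel)

theorem gens_alternating {I : Subgroup (Perm (Fin 5))} (hI : I ≤ alternatingGroup (Fin 5))
    (h1 : g1 ∈ I) (h2 : g2 ∈ I) (h3 : g3 ∈ I) : I = alternatingGroup (Fin 5) := by
  refine eq_alternating hI (fun v hv => ?_) h3 (by decide +kernel)
  simp only [four, List.mem_cons, List.not_mem_nil, or_false] at hv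
  rcases hv with rfl | rfl | rfl | rfl
  · exact one_mem _
  · exact h1
  · exact h2
  · rw [show (swap 0 1 * swap 2 3 : Perm (Fin 5)) = g1 * g2 by decide +kernel]
    exact mul_mem h1 h2

namespace Setting

variable {Y : Type u} [Group Y] [Finite Y] (D : Setting Y)

theorem mem_N (y : Y) : y ∈ normalizer (D.F.Q : Set Y) := by
  rw [normalizer_eq_top_iff.2 D.structure_thm.1]; exact mem_top y

/-- The action of the whole group on the pairs. -/
noncomputable def σ : Y →* Perm (Fin 5) :=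
  D.F.π.comp ((MonoidHom.id Y).codRestrict (normalizer (D.F.Q : Set Y)) D.mem_N)

theorem σ_spec (y : Y) (i : Fin 5) :
    D.F.InPair (D.σ y i) (y * D.F.p (rep i) * y⁻¹) := D.F.π_spec ⟨y, D.mem_N y⟩ i

theorem σ_range : D.σ.range = alternatingGroup (Fin 5) := by
  rw [← range_π D.S D.F D.hmove]
  ext x
  constructor
  · rintro ⟨y, rfl⟩; exact ⟨_, rfl⟩
  · rintro ⟨n, rfl⟩; exact ⟨(n : Y), rfl⟩

theorem σ_eq_one {y : Y} (h : D.σ y = 1) : y ∈ D.F.Q := (D.structure_thm.2.2.1 ⟨y, D.mem_N y⟩).1 h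

/-- The sign of the action. -/
noncomputable def ε (y : Y) (i : Fin 5) : Bool :=
  @decide (y * D.F.p (rep i) * y⁻¹ ≠ D.F.p (rep (D.σ y i))) (Classical.propDecidable _)

theorem conj_r (y : Y) (i : Fin 5) :
    y * D.F.p (rep i) * y⁻¹ = D.F.p (sgn (D.σ y i) (D.ε y i)) := by
  by_cases h : y * D.F.p (rep i) * y⁻¹ = D.F.p (rep (D.σ y i))
  · rw [show D.ε y i = false by simpa [ε] using h, h]; rfl
  · rw [show D.ε y i = true by simpa [ε] using h]
    show _ = D.F.p (mt (rep (D.σ y i)) zIdx)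
    rw [D.F.rz]
    exact (D.σ_spec y i).resolve_left h

theorem eq_of_conj {y : Y} {i : Fin 5} {b : Bool}
    (h : y * D.F.p (rep i) * y⁻¹ = D.F.p (sgn (D.σ y i) b)) : D.ε y i = b :=
  sgn_inj (D.σ y i) _ _ (D.F.inj _ (sgn_lt _ _) _ (sgn_lt _ _) ((D.conj_r y i).symm.trans h))

theorem sgn_false (i : Fin 5) : D.F.p (sgn i false) = D.F.p (rep i) := rfl

theorem conj_sgn (y : Y) (i : Fin 5) (b : Bool) :
    y * D.F.p (sgn i b) * y⁻¹ = D.F.p (sgn (D.σ y i) (D.ε y i ^^ b)) := by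
  cases b
  · simpa [sgn_false] using D.conj_r y i
  · have h : y * D.F.p (sgn i true) * y⁻¹ = D.F.p (sgn (D.σ y i) (D.ε y i)) * D.F.z := by
      show y * D.F.p (mt (rep i) zIdx) * y⁻¹ = _
      rw [D.F.rz, ← D.conj_r]
      calc y * (D.F.p (rep i) * D.F.z) * y⁻¹
          = y * D.F.p (rep i) * (D.F.z * y⁻¹) := by group
        _ = y * D.F.p (rep i) * (y⁻¹ * D.F.z) := by rw [D.hz y⁻¹]
        _ = _ := by group
    rw [h]
    cases D.ε y i
    · exact (D.F.rz _).symm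
    · show D.F.p (mt (rep _) zIdx) * D.F.z = D.F.p (rep _)
      rw [D.F.rz, mul_assoc, D.F.z_sq, mul_one]
      rfl

theorem ε_mul (y w : Y) (i : Fin 5) : D.ε (y * w) i = (D.ε y (D.σ w i) ^^ D.ε w i) := by
  refine D.eq_of_conj ?_
  rw [map_mul, Perm.mul_apply, ← D.conj_sgn, ← D.conj_r]
  group

theorem ε_one (i : Fin 5) : D.ε 1 i = false := by
  refine D.eq_of_conj ?_
  rw [map_one]; simp [sgn]

theorem prod5_eq (y : Y) : prod5 (D.σ y) (D.ε y) = prod5 1 fun _ => false := by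
  refine D.F.inj _ (mt_lt _ _) _ (mt_lt _ _) ?_
  have hconj : y * D.F.p (prod5 1 fun _ => false) * y⁻¹ = D.F.p (prod5 1 fun _ => false) := by
    rcases prod5_one with e | e <;> rw [e]
    · rw [D.F.p_zero, mul_one, mul_inv_cancel]
    · rw [D.hz y |> fun h => (show y * D.F.p zIdx = D.F.p zIdx * y from h), mul_inv_cancel_right]
  rw [← hconj]
  simp only [prod5, ← D.F.mul _ (mt_lt _ _) _ (sgn_lt _ _), ← D.F.mul _ (sgn_lt _ _) _ (sgn_lt _ _),
    ← D.conj_r, Perm.one_apply, sgn_false]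
  group

end Setting

variable {Y₁ : Type u} [Group Y₁] [Finite Y₁] {Y₂ : Type v} [Group Y₂] [Finite Y₂]

/-- Two settings give isomorphic groups. -/
theorem nonempty_equiv (D₁ : Setting Y₁) (D₂ : Setting Y₂) : Nonempty (Y₁ ≃* Y₂) := by
  classical
  obtain ⟨K₁, hK₁⟩ := D₁.exists_complement
  obtain ⟨K₂, hK₂⟩ := D₂.exists_complement
  have hres : ∀ {Y : Type u} [Group Y] [Finite Y] (D : Setting Y) (K : Subgroup Y),
      IsComplement' D.F.Q K → Function.Injective (D.σ.comp K.subtype) ∧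
        (D.σ.comp K.subtype).range = alternatingGroup (Fin 5) := by
    intro Y _ _ D K hK
    refine ⟨(injective_iff_map_eq_one _).2 fun k hk => ?_, le_antisymm ?_ ?_⟩
    · have h : (k : Y) ∈ D.F.Q ⊓ K := ⟨D.σ_eq_one hk, k.2⟩
      rw [hK.disjoint.eq_bot, mem_bot] at h
      exact Subtype.ext h
    · rw [← D.σ_range, MonoidHom.range_comp]; exact map_le_range _ _
    · rw [← D.σ_range]
      rintro _ ⟨y, rfl⟩
      obtain ⟨⟨q, k⟩, e⟩ := hK.2 y
      refine ⟨k, ?_⟩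
      rw [← (show (q : Y) * k = y from e), map_mul,
        show D.σ (q : Y) = 1 from D.π_Q q.2, one_mul]
      rfl
  obtain ⟨hi₁, hr₁⟩ := hres D₁ K₁ hK₁
  have hres₂ : Function.Injective (D₂.σ.comp K₂.subtype) ∧
      (D₂.σ.comp K₂.subtype).range = alternatingGroup (Fin 5) := by
    refine ⟨(injective_iff_map_eq_one _).2 fun k hk => ?_, le_antisymm ?_ ?_⟩
    · have h : (k : Y₂) ∈ D₂.F.Q ⊓ K₂ := ⟨D₂.σ_eq_one hk, k.2⟩
      rw [hK₂.disjoint.eq_bot, mem_bot] at h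
      exact Subtype.ext h
    · rw [← D₂.σ_range, MonoidHom.range_comp]; exact map_le_range _ _
    · rw [← D₂.σ_range]
      rintro _ ⟨y, rfl⟩
      obtain ⟨⟨q, k⟩, e⟩ := hK₂.2 y
      refine ⟨k, ?_⟩
      rw [← (show (q : Y₂) * k = y from e), map_mul,
        show D₂.σ (q : Y₂) = 1 from D₂.π_Q q.2, one_mul]
      rfl
  obtain ⟨hi₂, hr₂⟩ := hres₂
  let τ : ↥K₁ ≃* ↥K₂ := (((MonoidHom.ofInjective hi₁).trans (MulEquiv.subgroupCongr
    (hr₁.trans hr₂.symm))).trans (MonoidHom.ofInjective hi₂).symm)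
  have hτ : ∀ k : ↥K₁, D₂.σ (τ k : Y₂) = D₁.σ (k : Y₁) := fun k => by
    have := congrArg Subtype.val ((MonoidHom.ofInjective hi₂).apply_symm_apply
      (MulEquiv.subgroupCongr (hr₁.trans hr₂.symm) (MonoidHom.ofInjective hi₁ k)))
    exact this
  -- the difference of the signs
  let δ : ↥K₁ → SP := fun k =>
    (D₁.σ (k : Y₁), fun i => D₁.ε (k : Y₁) i ^^ D₂.ε (τ k : Y₂) i)
  have hδ1 : δ 1 = ((1 : Perm (Fin 5)), fun _ => false) := by
    simp only [δ, map_one, OneMemClass.coe_one, Setting.ε_one, Bool.xor_false]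
  have hδm : ∀ k l, δ (k * l) = pm (δ k) (δ l) := fun k l => by
    refine Prod.ext (by simp [δ, pm]) (funext fun i => ?_)
    simp only [δ, pm, map_mul, coe_mul, Setting.ε_mul, hτ]
    cases D₁.ε (k : Y₁) (D₁.σ (l : Y₁) i) <;> cases D₁.ε (l : Y₁) i <;>
      cases D₂.ε (τ k : Y₂) (D₁.σ (l : Y₁) i) <;> cases D₂.ε (τ l : Y₂) i <;> rfl
  have hδp : ∀ k n, δ (k ^ n) = pp (δ k) n := fun k n => by
    induction n with
    | zero => rw [pow_zero]; exact hδ1
    | succ n ih => rw [pow_succ, hδm, ih]; rfl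
  have heven : ∀ k, par (δ k).2 = false := fun k => by
    have h1 := D₁.prod5_eq (k : Y₁)
    have h2 := D₂.prod5_eq (τ k : Y₂)
    rw [hτ] at h2
    have h := prod5_inj (h1.trans h2.symm)
    simp only [par, δ] at h ⊢
    revert h
    generalize D₁.ε (k : Y₁) = f, D₂.ε (τ k : Y₂) = g
    intro h
    revert h
    cases f 0 <;> cases f 1 <;> cases f 2 <;> cases f 3 <;> cases f 4 <;>
      cases g 0 <;> cases g 1 <;> cases g 2 <;> cases g 3 <;> cases g 4 <;> simp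
  have hgen : ∀ g ∈ ([g1, g2, g3] : List (Perm (Fin 5))), ∃ k : ↥K₁, D₁.σ (k : Y₁) = g := by
    intro g hg
    have hg' : g ∈ alternatingGroup (Fin 5) := gens_mem_alternating g hg
    rw [← hr₁] at hg'
    exact hg'
  obtain ⟨k₁, hk₁⟩ := hgen g1 (by simp)
  obtain ⟨k₂, hk₂⟩ := hgen g2 (by simp)
  obtain ⟨k₃, hk₃⟩ := hgen g3 (by simp)
  obtain ⟨a, ha⟩ := exists_ev _ (heven k₁)
  obtain ⟨b, hb⟩ := exists_ev _ (heven k₂)
  obtain ⟨c, hc⟩ := exists_ev _ (heven k₃)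
  have e₁ : δ k₁ = (g1, ev a) := Prod.ext hk₁ (funext fun i => (ha i).symm)
  have e₂ : δ k₂ = (g2, ev b) := Prod.ext hk₂ (funext fun i => (hb i).symm)
  have e₃ : δ k₃ = (g3, ev c) := Prod.ext hk₃ (funext fun i => (hc i).symm)
  obtain ⟨j, hj⟩ := cocycle_cob a b c (by
    have key : ∀ (w : ↥K₁) (g : Perm (Fin 5)) (n : ℕ), D₁.σ (w : Y₁) = g → g ^ n = 1 →
        ((List.finRange 5).all fun i => !(pp (δ w) n).2 i) = true := by
      intro w g n hw hn
      have : w ^ n = 1 := hi₁ (by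
        rw [map_one, map_pow]
        show D₁.σ (w : Y₁) ^ n = 1
        rw [hw, hn])
      rw [← hδp, this, hδ1]; rfl
    have hperm := rels_perm
    simp only [rels, List.forall_mem_cons, List.not_mem_nil, false_implies, forall_const,
      implies_true, and_true] at hperm
    obtain ⟨p1, p2, p3, p4, p5, p6, p7, p8⟩ := hperm
    simp only [rels, List.all_cons, List.all_nil, Bool.and_true, Bool.and_eq_true]
    simp only [← e₁, ← e₂, ← e₃, ← hδm]
    refine ⟨key _ _ _ hk₁ p1, key _ _ _ hk₂ p2, key _ _ _ ?_ p3, key _ _ _ hk₃ p4,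
      key _ _ _ ?_ p5, key _ _ _ ?_ p6, key _ _ _ ?_ p7, key _ _ _ ?_ p8⟩
    all_goals simp only [coe_mul, map_mul, hk₁, hk₂, hk₃])
  let L : Subgroup ↥K₁ :=
    { carrier := {k | ∀ i, (δ k).2 i = (ev j i ^^ ev j (D₁.σ (k : Y₁) i))}
      one_mem' := fun i => by rw [hδ1]; simp
      mul_mem' := fun {x y} hx hy i => by
        rw [hδm]
        show ((δ x).2 (D₁.σ (y : Y₁) i) ^^ (δ y).2 i) = _
        rw [hx, hy, coe_mul, map_mul, Perm.mul_apply]
        cases ev j i <;> cases ev j (D₁.σ (y : Y₁) i) <;>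
          cases ev j (D₁.σ (x : Y₁) (D₁.σ (y : Y₁) i)) <;> rfl
      inv_mem' := fun {x} hx i => by
        have h : (δ (x * x⁻¹)).2 i = false := by rw [mul_inv_cancel, hδ1]
        rw [hδm] at h
        have h' : ((δ x).2 (D₁.σ ((x⁻¹ : ↥K₁) : Y₁) i) ^^ (δ x⁻¹).2 i) = false := h
        rw [hx, show D₁.σ (x : Y₁) (D₁.σ ((x⁻¹ : ↥K₁) : Y₁) i) = i by
          rw [← Perm.mul_apply, ← map_mul, ← coe_mul, mul_inv_cancel]; simp] at h'
        revert h'
        cases ev j i <;> cases ev j (D₁.σ ((x⁻¹ : ↥K₁) : Y₁) i) <;> cases (δ x⁻¹).2 i <;> simp }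
  have hL : L = ⊤ := by
    have h1 : k₁ ∈ L := fun i => by rw [e₁, hk₁]; exact (hj i).1
    have h2 : k₂ ∈ L := fun i => by rw [e₂, hk₂]; exact (hj i).2.1
    have h3 : k₃ ∈ L := fun i => by rw [e₃, hk₃]; exact (hj i).2.2
    refine map_injective hi₁ ?_
    rw [← MonoidHom.range_eq_map, hr₁]
    refine gens_alternating ?_ ⟨_, h1, hk₁⟩ ⟨_, h2, hk₂⟩ ⟨_, h3, hk₃⟩
    rw [← hr₁]; exact map_le_range _ _
  -- the element of `Q` correcting the complement
  have hc' := ev_induced j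
  simp only [List.any_eq_true, List.mem_range, Bool.and_eq_true, List.all_eq_true,
    List.mem_finRange, true_implies, beq_true] at hc'
  obtain ⟨d₀, hd₀, hd₀q, hd₀r⟩ := hc'
  let w : Y₂ := D₂.F.p d₀
  have hwσ : D₂.σ w = 1 := D₂.π_Q ((D₂.F.mem_sub closed_q hd₀).2 hd₀q)
  have hwr : ∀ i, w * D₂.F.p (rep i) * w⁻¹ = D₂.F.p (sgn i (ev j i)) := fun i => by
    rw [D₂.F.p_conj hd₀ (rep_lt i), hd₀r]
  have hwε : ∀ i, D₂.ε w i = ev j i := fun i => D₂.eq_of_conj (by rw [hwσ]; exact hwr i)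
  let ψ : ↥K₁ →* Y₂ := ((MulAut.conj w).toMonoidHom.comp K₂.subtype).comp τ.toMonoidHom
  have hψ : ∀ k : ↥K₁, ψ k = w * (τ k : Y₂) * w⁻¹ := fun k => rfl
  -- the map on `Q`
  let φ : ↥(D₁.F.Q) →* Y₂ :=
    { toFun := fun x => D₂.F.p (Classical.choose (D₁.F.surj _ (D₁.F.Q_le x.2)))
      map_one' := by
        obtain ⟨h1, h2⟩ := Classical.choose_spec
          (D₁.F.surj _ (D₁.F.Q_le (1 : ↥(D₁.F.Q)).2))
        rw [(D₁.F.eq_one_iff h1).1 h2, D₂.F.p_zero]
      map_mul' := fun x y => by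
        obtain ⟨h1, h2⟩ := Classical.choose_spec (D₁.F.surj _ (D₁.F.Q_le x.2))
        obtain ⟨h3, h4⟩ := Classical.choose_spec (D₁.F.surj _ (D₁.F.Q_le y.2))
        obtain ⟨h5, h6⟩ := Classical.choose_spec (D₁.F.surj _ (D₁.F.Q_le (x * y).2))
        rw [D₂.F.mul _ h1 _ h3]
        refine congrArg D₂.F.p (D₁.F.inj _ h5 _ (mt_lt _ _) ?_)
        rw [h6, ← D₁.F.mul _ h1 _ h3, h2, h4]; rfl }
  have hφ : ∀ d (hd : d < 128) (hm : D₁.F.p d ∈ D₁.F.Q), φ ⟨_, hm⟩ = D₂.F.p d := fun d hd hm => by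
    obtain ⟨h1, h2⟩ := Classical.choose_spec (D₁.F.surj _ (D₁.F.Q_le hm))
    exact congrArg D₂.F.p (D₁.F.inj _ h1 _ hd h2)
  have hQ1 : D₁.F.Q.Normal := D₁.structure_thm.1
  let act : ↥K₁ → (↥(D₁.F.Q) →* ↥(D₁.F.Q)) := fun k =>
    (MulAut.conjNormal (H := D₁.F.Q) (k : Y₁)).toMonoidHom
  have hcompat : ∀ (k : ↥K₁) (x : ↥(D₁.F.Q)), φ (act k x) = ψ k * φ x * (ψ k)⁻¹ := by
    intro k
    let S₀ : Subgroup ↥(D₁.F.Q) :=
      (φ.comp (act k)).eqLocus ((MulAut.conj (ψ k)).toMonoidHom.comp φ)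
    suffices h : S₀ = ⊤ from fun x => (h.symm ▸ mem_top x : x ∈ S₀)
    have hg : genOK qMask [zIdx, rep 0, rep 1, rep 2, rep 3, rep 4] = true := by decide +kernel
    have hkL : k ∈ L := hL ▸ mem_top k
    have hmem : ∀ g ∈ ([zIdx, rep 0, rep 1, rep 2, rep 3, rep 4] : List ℕ),
        D₁.F.p g ∈ S₀.map (D₁.F.Q).subtype := by
      intro g hg'
      have hgQ : D₁.F.p g ∈ D₁.F.Q := by
        obtain ⟨h1, h2⟩ := D₁.F.gens_mem hg g hg'
        rw [← SetLike.mem_coe, D₁.F.coe_sub closed_q]; exact h2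
      refine ⟨⟨_, hgQ⟩, ?_, rfl⟩
      show φ (act k ⟨_, hgQ⟩) = ψ k * φ ⟨_, hgQ⟩ * (ψ k)⁻¹
      rw [hφ g (D₁.F.gens_mem hg g hg').1 hgQ]
      rcases List.mem_cons.1 hg' with rfl | hg''
      · rw [show act k ⟨_, hgQ⟩ = ⟨D₁.F.p zIdx, hgQ⟩ from Subtype.ext
          (show (k : Y₁) * D₁.F.z * (k : Y₁)⁻¹ = D₁.F.z by rw [D₁.hz, mul_inv_cancel_right]),
          hφ zIdx (by decide) hgQ]
        show D₂.F.z = ψ k * D₂.F.z * (ψ k)⁻¹
        rw [D₂.hz, mul_inv_cancel_right]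
      · obtain ⟨i, rfl⟩ : ∃ i, g = rep i := by
          simp only [List.mem_cons, List.not_mem_nil, or_false] at hg''
          rcases hg'' with e | e | e | e | e <;> exact ⟨_, e⟩
        have he : (act k ⟨_, hgQ⟩ : Y₁) = D₁.F.p (sgn (D₁.σ (k : Y₁) i) (D₁.ε (k : Y₁) i)) :=
          D₁.conj_r (k : Y₁) i
        have hm' : D₁.F.p (sgn (D₁.σ (k : Y₁) i) (D₁.ε (k : Y₁) i)) ∈ D₁.F.Q := he ▸ SetLike.coe_mem _
        rw [show act k ⟨_, hgQ⟩ = ⟨_, hm'⟩ from Subtype.ext he, hφ _ (sgn_lt _ _) hm', D₂.conj_r]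
        have hσψ : D₂.σ (ψ k) = D₁.σ (k : Y₁) := by
          rw [hψ, map_mul, map_mul, map_inv, hwσ, hτ, one_mul, inv_one, mul_one]
        rw [hσψ]
        refine congrArg (fun b => D₂.F.p (sgn (D₁.σ (k : Y₁) i) b)) ?_
        have hwi : D₂.ε w⁻¹ i = ev j i := by
          have h := D₂.ε_mul w w⁻¹ i
          rw [mul_inv_cancel, D₂.ε_one, map_inv, hwσ, inv_one, Perm.one_apply, hwε] at h
          revert h
          cases ev j i <;> cases D₂.ε w⁻¹ i <;> simp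
        have hk' : (D₁.ε (k : Y₁) i ^^ D₂.ε (τ k : Y₂) i) =
            (ev j i ^^ ev j (D₁.σ (k : Y₁) i)) := hkL i
        rw [hψ, D₂.ε_mul, D₂.ε_mul, map_inv, hwσ, inv_one, Perm.one_apply, hwi, hτ, hwε]
        revert hk'
        cases D₁.ε (k : Y₁) i <;> cases D₂.ε (τ k : Y₂) i <;> cases ev j i <;>
          cases ev j (D₁.σ (k : Y₁) i) <;> simp
    rw [eq_top_iff]
    rintro x -
    have : (x : Y₁) ∈ S₀.map (D₁.F.Q).subtype := by
      refine (closure_le _).2 ?_ (D₁.F.set_subset_closure_gens hg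
        (by rw [← D₁.F.coe_sub closed_q]; exact x.2))
      rintro _ ⟨g, hg', rfl⟩
      exact hmem g hg'
    obtain ⟨y, hy, e⟩ := this
    exact (Subtype.ext e : y = x) ▸ hy
  -- the isomorphism
  have hdec : ∀ y : Y₁, ∃ x : ↥(D₁.F.Q) × ↥K₁, (x.1 : Y₁) * x.2 = y := fun y => hK₁.2 y
  choose f hf using hdec
  have huniq : ∀ (x : ↥(D₁.F.Q)) (k : ↥K₁), f ((x : Y₁) * k) = (x, k) := fun x k =>
    hK₁.1 (hf ((x : Y₁) * k))
  let Φ : Y₁ →* Y₂ := MonoidHom.mk' (fun y => φ (f y).1 * ψ (f y).2) fun a b => by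
    have h : a * b = (((f a).1 * act (f a).2 (f b).1 : ↥(D₁.F.Q)) : Y₁) * ((f a).2 * (f b).2 : ↥K₁) := by
      conv_lhs => rw [← hf a, ← hf b]
      simp only [coe_mul]
      show _ = (((f a).1 : Y₁) * (((f a).2 : Y₁) * ((f b).1 : Y₁) * ((f a).2 : Y₁)⁻¹)) * _
      group
    rw [h, huniq, map_mul, map_mul, hcompat]
    group
  have hΦs : Function.Surjective Φ := by
    intro y
    obtain ⟨⟨q, k⟩, e⟩ := hK₂.2 (w⁻¹ * y * w)
    have e' : (q : Y₂) * k = w⁻¹ * y * w := e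
    have hQ2 : D₂.F.Q.Normal := D₂.structure_thm.1
    obtain ⟨d, hd, hdq⟩ := D₂.F.surj _ (D₂.F.Q_le (hQ2.conj_mem _ q.2 w))
    have hdQ : D₁.F.p d ∈ D₁.F.Q := by
      rw [D₁.F.mem_sub closed_q hd, ← D₂.F.mem_sub closed_q hd, hdq]
      exact hQ2.conj_mem _ q.2 w
    refine ⟨(⟨_, hdQ⟩ : ↥(D₁.F.Q)) * (τ.symm k : ↥K₁), ?_⟩
    show φ _ * ψ _ = y
    rw [huniq, hφ d hd hdQ, hdq, hψ, τ.apply_symm_apply,
      show w * (q : Y₂) * w⁻¹ * (w * (k : Y₂) * w⁻¹) = w * ((q : Y₂) * k) * w⁻¹ by group, e']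
    group
  refine ⟨MulEquiv.ofBijective Φ ((Nat.bijective_iff_surjective_and_card Φ).2 ⟨hΦs, ?_⟩)⟩
  rw [D₁.structure_thm.2.2.2, D₂.structure_thm.2.2.2]

end CfsgLib.SylJanko
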